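import Cfsg.Agent.PGroups.CyclicMaximal
import Cfsg.Agent.Coprime.Centralize

/-! `p`-groups (`p` odd) acting with constant stabiliser orders on an elementary abelian group. -/

set_option autoImplicit false

namespace Cfsg.Agent.H38

variable {P E : Type*} [Group P] [AddCommGroup E] [DistribMulAction P E]

/-- The sum of the translates by the first `n` powers of `u`. -/
def powSum (n : ℕ) (u : P) (e : E) : E := ∑ i ∈ Finset.range n, u ^ i • e

lemma powSum_add (n : ℕ) (u : P) (e e' : E) :
    powSum n u (e + e') = powSum n u e + powSum n u e' := by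
  simp [powSum, smul_add, Finset.sum_add_distrib]

lemma powSum_sub (n : ℕ) (u : P) (e e' : E) :
    powSum n u (e - e') = powSum n u e - powSum n u e' := by
  simp [powSum, smul_sub, Finset.sum_sub_distrib]

lemma powSum_nsmul (n k : ℕ) (u : P) (e : E) : powSum n u (k • e) = k • powSum n u e := by
  simp only [powSum, Finset.smul_sum]
  exact Finset.sum_congr rfl fun i _ => smul_comm _ _ _

lemma powSum_fixed (n : ℕ) {u : P} {e : E} (h : u • e = e) : powSum n u e = n • e := by
  have : ∀ i, u ^ i • e = e := fun i => by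
    induction i with
    | zero => rw [pow_zero, one_smul]
    | succ i ih => rw [pow_succ, mul_smul, h, ih]
  simp [powSum, this]

lemma smul_powSum_self {n : ℕ} {u : P} (hu : u ^ n = 1) (e : E) :
    u • powSum n u e = powSum n u e := by
  simp only [powSum, Finset.smul_sum, ← mul_smul, ← pow_succ']
  have h1 := Finset.sum_range_succ' (fun i => u ^ i • e) n
  have h2 := Finset.sum_range_succ (fun i => u ^ i • e) n
  rw [h2] at h1
  simp only [hu, pow_zero, one_smul] at h1
  exact (add_right_cancel h1).symm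

lemma smul_powSum_comm (n : ℕ) {u v : P} (h : Commute v u) (e : E) :
    v • powSum n u e = powSum n u (v • e) := by
  simp only [powSum, Finset.smul_sum, ← mul_smul, (h.pow_right _).eq]

section

variable [Finite P] [Finite E] [FaithfulSMul P E] {p q : ℕ} [Fact p.Prime]

lemma eq_zero_of_pow_nsmul (hq : q.Prime) (hpq : p ≠ q) (hE : ∀ e : E, q • e = 0) {k : ℕ}
    {e : E} (h : p ^ k • e = 0) : e = 0 := by
  have h1 : addOrderOf e ∣ p ^ k := addOrderOf_dvd_iff_nsmul_eq_zero.mpr h
  have h2 : addOrderOf e ∣ q := addOrderOf_dvd_iff_nsmul_eq_zero.mpr (hE e)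
  exact AddMonoid.addOrderOf_eq_one_iff.mp (Nat.eq_one_of_dvd_coprimes
    (((Nat.coprime_primes Fact.out hq).mpr hpq).pow_left k) h1 h2)

lemma central_fpf (hP : IsPGroup p P) (hq : q.Prime) (hpq : p ≠ q) (hE : ∀ e : E, q • e = 0)
    (hconst : ∀ a b : E, a ≠ 0 → b ≠ 0 →
      Nat.card (MulAction.stabilizer P a) = Nat.card (MulAction.stabilizer P b))
    {z : P} (hz : z ∈ Subgroup.center P) (hz1 : z ≠ 1) {a : E} (ha : z • a = a) : a = 0 := by
  by_contra ha0
  obtain ⟨k, hk⟩ := hP z
  set n := p ^ k with hn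
  obtain ⟨e, he⟩ : ∃ e : E, z • e ≠ e := by
    by_contra h
    push Not at h
    exact hz1 (FaithfulSMul.eq_of_smul_eq_smul (α := E) fun e => by rw [h e, one_smul])
  set b := n • e - powSum n z e with hb
  have hNb : powSum n z b = 0 := by
    rw [hb, powSum_sub, powSum_nsmul, powSum_fixed n (smul_powSum_self hk e), sub_self]
  have hcancel : ∀ x y : E, n • x = n • y → x = y := fun x y h =>
    sub_eq_zero.mp (eq_zero_of_pow_nsmul hq hpq hE (k := k) (by rw [← hn, nsmul_sub, h, sub_self]))
  have hb0 : b ≠ 0 := by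
    intro h
    apply he
    rw [hb, sub_eq_zero] at h
    refine hcancel _ _ ?_
    rw [smul_comm n z e, h, smul_powSum_self hk e]
  have hab : a + b ≠ 0 := by
    intro h
    have h2 := congrArg (powSum n z) h
    rw [powSum_add, hNb, add_zero, powSum_fixed n ha] at h2
    exact ha0 (hcancel a 0 (by simpa [powSum] using h2))
  have hle : ∀ g ∈ MulAction.stabilizer P (a + b),
      g • a = a ∧ g • b = b := by
    intro g hg
    have hg' : g • a + g • b = a + b := by rw [← smul_add]; exact hg
    have hcg : Commute g z := Subgroup.mem_center_iff.mp hz g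
    have h2 := congrArg (powSum n z) hg'
    rw [powSum_add, powSum_add, powSum_fixed n ha,
      powSum_fixed n (show z • g • a = g • a by rw [← mul_smul, ← hcg.eq, mul_smul, ha]),
      ← smul_powSum_comm n hcg b, hNb, smul_zero, add_zero, add_zero] at h2
    have h3 := hcancel _ _ h2
    rw [h3] at hg'
    exact ⟨h3, add_left_cancel hg'⟩
  have hPb : MulAction.stabilizer P (a + b) = MulAction.stabilizer P b :=
    Subgroup.eq_of_le_of_card_ge (fun g hg => (hle g hg).2) (hconst b _ hb0 hab).le
  have hPa : MulAction.stabilizer P (a + b) = MulAction.stabilizer P a :=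
    Subgroup.eq_of_le_of_card_ge (fun g hg => (hle g hg).1) (hconst a _ ha0 hab).le
  have hzb : z • b = b := by
    have : z ∈ MulAction.stabilizer P b := by rw [← hPb, hPa]; exact ha
    exact this
  rw [powSum_fixed n hzb] at hNb
  exact hb0 (hcancel b 0 (by simpa using hNb))

lemma isCyclic_of_const (hp2 : p ≠ 2) (hP : IsPGroup p P) (hq : q.Prime) (hpq : p ≠ q)
    (hE : ∀ e : E, q • e = 0)
    (hconst : ∀ a b : E, a ≠ 0 → b ≠ 0 →
      Nat.card (MulAction.stabilizer P a) = Nat.card (MulAction.stabilizer P b)) :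
    IsCyclic P := by
  by_contra hnc
  obtain ⟨A, hAn, hAc, hAp, hAcard⟩ := PGroups.exists_normal_elementary_sq hP hp2 hnc
  have hp : p.Prime := Fact.out
  haveI : Nontrivial A := by
    rw [← Finite.one_lt_card_iff_nontrivial, hAcard]
    exact Nat.one_lt_pow two_ne_zero hp.one_lt
  have hA1 : A ≠ ⊥ := fun h => by
    rw [h, Subgroup.card_bot] at hAcard
    exact (Nat.one_lt_pow two_ne_zero hp.one_lt).ne hAcard
  have hcomm : ∀ u ∈ A, ∀ v ∈ A, u * v = v * u := fun u hu v hv =>
    congrArg Subtype.val (hAc.is_comm.comm (⟨u, hu⟩ : A) ⟨v, hv⟩)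
  -- commutators of `A` with `P` are central
  have hAP : ⁅A, (⊤ : Subgroup P)⁆ ≤ Subgroup.center P := by
    have hlt : ⁅A, (⊤ : Subgroup P)⁆ < A :=
      Coprime.commutator_lt_of_isPGroup (hP.to_subgroup A) (hP.to_subgroup ⊤)
        (fun g _ => Subgroup.mem_normalizer_iff.mpr fun n =>
          ⟨fun hn => hAn.conj_mem n hn g, fun hn => by simpa [mul_assoc] using hAn.conj_mem _ hn g⁻¹⟩) hA1
    obtain ⟨j, hj, hjc⟩ := (Nat.dvd_prime_pow hp).mp (hAcard ▸ Subgroup.card_dvd_of_le hlt.le)
    interval_cases j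
    · rw [Subgroup.eq_bot_of_card_eq _ (hjc.trans (pow_zero p))]; exact bot_le
    · exact PGroups.le_center_of_card_eq hP _ (hjc.trans (pow_one p))
    · exact absurd (Subgroup.eq_of_le_of_card_ge hlt.le (by rw [hjc, hAcard])) hlt.ne
  obtain ⟨z, hz, hz1, hzA⟩ : ∃ z, z ∈ Subgroup.center P ∧ z ≠ 1 ∧ z ∈ A := by
    haveI := hP.isNilpotent
    have := PGroups.inf_center_ne_bot hP A hA1
    rw [Ne, Subgroup.eq_bot_iff_forall] at this
    push Not at this
    obtain ⟨z, hz, hz1⟩ := this
    exact ⟨z, hz.2, hz1, hz.1⟩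
  have fpf := fun {w : P} (hw : w ∈ Subgroup.center P) (hw1 : w ≠ 1) {a : E} (ha : w • a = a) =>
    central_fpf hP hq hpq hE hconst hw hw1 ha
  have hcancel : ∀ x y : E, p • x = p • y → x = y := fun x y h =>
    sub_eq_zero.mp (eq_zero_of_pow_nsmul hq hpq hE (k := 1)
      (by rw [pow_one, nsmul_sub, h, sub_self]))
  -- an element of `A` outside `⟨z⟩` fixing a non-zero vector
  obtain ⟨w, hwA, hwz⟩ : ∃ w ∈ A, w ∉ Subgroup.zpowers z := by
    by_contra h
    push Not at h
    have h1 : Nat.card A ∣ Nat.card (Subgroup.zpowers z) := Subgroup.card_dvd_of_le h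
    rw [Nat.card_zpowers, hAcard] at h1
    have h2 := h1.trans (orderOf_dvd_of_pow_eq_one (hAp z hzA))
    exact absurd (Nat.le_of_dvd hp.pos h2) (by nlinarith [hp.two_le])
  obtain ⟨e, he⟩ : ∃ e : E, e ≠ 0 := by
    by_contra h
    push Not at h
    exact hz1 (FaithfulSMul.eq_of_smul_eq_smul (α := E) fun e => by simp [h e])
  have hNz : powSum p z e = 0 := fpf hz hz1 (smul_powSum_self (hAp z hzA) e)
  obtain ⟨x, a, hxA, ha, hxa, hxc⟩ : ∃ x a, x ∈ A ∧ a ≠ (0 : E) ∧ x • a = a ∧
      x ∉ Subgroup.center P := by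
    by_contra hcon
    have hall : ∀ i, powSum p (w * z ^ i) e = 0 := by
      intro i
      by_contra hne
      have hu : w * z ^ i ∈ A := mul_mem hwA (pow_mem hzA i)
      have hu1 : w * z ^ i ≠ 1 := fun h =>
        hwz (by rw [eq_inv_of_mul_eq_one_left h]
                exact inv_mem (pow_mem (Subgroup.mem_zpowers z) i))
      have hfix := smul_powSum_self (hAp _ hu) e
      exact hcon ⟨_, _, hu, hne, hfix, fun hc => hne (fpf hc hu1 hfix)⟩
    apply he
    refine hcancel e 0 ?_
    have h1 : ∑ i ∈ Finset.range p, powSum p (w * z ^ i) e = 0 :=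
      Finset.sum_eq_zero fun i _ => hall i
    have h2 : ∀ j ∈ Finset.range p, j ≠ 0 →
        ∑ i ∈ Finset.range p, (w * z ^ i) ^ j • e = 0 := by
      intro j hj hj0
      have hcw : ∀ i, Commute w (z ^ i) := fun i => (hcomm _ hwA _ (pow_mem hzA i))
      have hzj : powSum p (z ^ j) e = 0 := by
        refine fpf (pow_mem hz j) ?_ (smul_powSum_self (hAp _ (pow_mem hzA j)) e)
        intro h
        have := Nat.le_of_dvd (Nat.pos_of_ne_zero hj0) (orderOf_dvd_of_pow_eq_one h)
        rw [orderOf_eq_prime (hAp z hzA) hz1] at this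
        exact absurd (Finset.mem_range.mp hj) (not_lt.mpr this)
      calc ∑ i ∈ Finset.range p, (w * z ^ i) ^ j • e
          = ∑ i ∈ Finset.range p, w ^ j • (z ^ j) ^ i • e := by
            refine Finset.sum_congr rfl fun i _ => ?_
            rw [(hcw i).mul_pow, ← pow_mul, mul_comm i j, pow_mul, mul_smul]
        _ = w ^ j • powSum p (z ^ j) e := by rw [powSum, Finset.smul_sum]
        _ = 0 := by rw [hzj, smul_zero]
    simp only [powSum] at h1
    rw [Finset.sum_comm, Finset.sum_eq_single 0 h2
      (fun h => absurd (Finset.mem_range.mpr hp.pos) h)] at h1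
    simpa using h1
  obtain ⟨g, hg⟩ : ∃ g : P, g * x ≠ x * g := by
    by_contra h
    push Not at h
    exact hxc (Subgroup.mem_center_iff.mpr h)
  have hcomm' : ∀ h : P, ∃ c, c ∈ Subgroup.center P ∧ c ∈ A ∧ h * x * h⁻¹ = x * c := fun h =>
    ⟨x⁻¹ * (h * x * h⁻¹), hAP (by
      have := Subgroup.commutator_mem_commutator (inv_mem hxA) (Subgroup.mem_top h)
      simpa [commutatorElement_def, mul_assoc] using this),
      mul_mem (inv_mem hxA) (hAn.conj_mem x hxA h), by group⟩
  obtain ⟨m, hm, hmA, hgm⟩ := hcomm' g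
  have hm1 : m ≠ 1 := fun h => hg (by rw [h, mul_one] at hgm; exact mul_inv_eq_iff_eq_mul.mp hgm)
  set b := g • a with hb
  have hconjfix : ∀ (h u : P) (v : E), u • v = v → (h * u * h⁻¹) • (h • v) = h • v := by
    intro h u v hv
    rw [mul_smul, inv_smul_smul, mul_smul, hv]
  have hyb : (x * m) • b = b := hgm ▸ hconjfix g x a hxa
  have hb0 : b ≠ 0 := fun h => ha (by rwa [hb, smul_eq_zero_iff_eq] at h)
  have hcancel0 : ∀ {u u' : P}, u ∈ A → u' ∈ A → u⁻¹ * u' ∈ Subgroup.center P → u ≠ u' →
      ∀ {v : E}, u' • v = v → powSum p u v = 0 := by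
    intro u u' hu hu' hc hne v hv
    refine fpf hc (fun h => hne (inv_mul_eq_one.mp h)) ?_
    rw [mul_smul, smul_powSum_comm p (hcomm u' hu' u hu) v, hv, inv_smul_eq_iff,
      smul_powSum_self (hAp u hu)]
  have hab : a + b ≠ 0 := by
    intro h
    have h2 := congrArg (powSum p x) h
    rw [powSum_add, powSum_fixed p hxa,
      hcancel0 hxA (mul_mem hxA hmA) (by simpa using hm) (by simpa using hm1) hyb, add_zero] at h2
    exact ha (hcancel a 0 (by simpa [powSum] using h2))
  have hle : ∀ h ∈ MulAction.stabilizer P (a + b), h • a = a ∧ h • b = b := by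
    intro h hh
    have hh' : h • a + h • b = a + b := by rw [← smul_add]; exact hh
    obtain ⟨c, hc, hcA, hhc⟩ := hcomm' h
    have hha : (x * c) • (h • a) = h • a := hhc ▸ hconjfix h x a hxa
    have hcm : h * (x * m) * h⁻¹ = x * (c * m) := by
      rw [show h * (x * m) * h⁻¹ = h * x * h⁻¹ * (h * m * h⁻¹) by group, hhc,
        Subgroup.mem_center_iff.mp hm h, mul_inv_cancel_right, mul_assoc]
    have hhb : (x * (c * m)) • (h • b) = h • b := hcm ▸ hconjfix h (x * m) b hyb
    have key : ∀ k k' : P, k ∈ A → k ∈ Subgroup.center P → k' ∈ A → k' ∈ Subgroup.center P →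
        ∀ v : E, (x * k') • v = v → k ≠ k' → powSum p (x * k) v = 0 := by
      intro k k' hkA hk hk'A hk' v hv hne
      exact hcancel0 (mul_mem hxA hkA) (mul_mem hxA hk'A)
        (by simpa [mul_assoc] using mul_mem (inv_mem hk) hk') (by simpa using hne) hv
    have hx1 : (x * 1) • a = a := by rw [mul_one]; exact hxa
    have hN : ∀ k, powSum p (x * k) (h • a) + powSum p (x * k) (h • b) =
        powSum p (x * k) a + powSum p (x * k) b := fun k => by
      rw [← powSum_add, ← powSum_add, hh']
    have hone : (1 : P) ∈ Subgroup.center P := one_mem _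
    by_cases hc1 : c = 1
    · subst hc1
      rw [one_mul] at hhb
      have h1 := hN 1
      rw [powSum_fixed p hha, powSum_fixed p hx1,
        key 1 m (one_mem _) hone hmA hm _ hhb (Ne.symm hm1),
        key 1 m (one_mem _) hone hmA hm _ hyb (Ne.symm hm1), add_zero, add_zero] at h1
      have h3 := hcancel _ _ h1
      rw [h3] at hh'
      exact ⟨h3, add_left_cancel hh'⟩
    · exfalso
      have hcm1 : c * m = 1 := by
        by_contra hne
        have h1 := hN 1
        rw [key 1 c (one_mem _) hone hcA hc _ hha (Ne.symm hc1),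
          key 1 (c * m) (one_mem _) hone (mul_mem hcA hmA) (mul_mem hc hm) _ hhb (Ne.symm hne),
          powSum_fixed p hx1, key 1 m (one_mem _) hone hmA hm _ hyb (Ne.symm hm1), add_zero,
          add_zero] at h1
        exact ha (hcancel a 0 (by simpa using h1.symm))
      have hcm2 : c = m := by
        by_contra hne
        have h1 := hN m
        rw [key m c hmA hm hcA hc _ hha (Ne.symm hne),
          key m (c * m) hmA hm (mul_mem hcA hmA) (mul_mem hc hm) _ hhb
            (by intro e; exact hc1 (mul_eq_right.mp e.symm)),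
          powSum_fixed p hyb, key m 1 hmA hm (one_mem _) hone _ hx1 hm1, add_zero, zero_add] at h1
        exact hb0 (hcancel b 0 (by simpa using h1.symm))
      rw [hcm2] at hcm1
      obtain ⟨j, hj⟩ := hp.odd_of_ne_two hp2
      have := hAp m hmA
      rw [hj, pow_succ, pow_mul, pow_two, hcm1, one_pow, one_mul] at this
      exact hm1 this
  have hPb : MulAction.stabilizer P (a + b) = MulAction.stabilizer P b :=
    Subgroup.eq_of_le_of_card_ge (fun h hh => (hle h hh).2) (hconst b _ hb0 hab).le
  have hPa : MulAction.stabilizer P (a + b) = MulAction.stabilizer P a :=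
    Subgroup.eq_of_le_of_card_ge (fun h hh => (hle h hh).1) (hconst a _ ha hab).le
  have hxb : x • b = b := by
    have : x ∈ MulAction.stabilizer P b := by rw [← hPb, hPa]; exact hxa
    exact this
  exact hb0 (fpf hm hm1 (by rwa [mul_smul, smul_eq_iff_eq_inv_smul, inv_smul_eq_iff.mpr hxb.symm] at hyb))

theorem const_stabilizers (hp2 : p ≠ 2) (hP : IsPGroup p P) (hq : q.Prime)
    (hE : ∀ e : E, q • e = 0)
    (hconst : ∀ a b : E, a ≠ 0 → b ≠ 0 →
      Nat.card (MulAction.stabilizer P a) = Nat.card (MulAction.stabilizer P b)) :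
    IsCyclic P ∧ ∀ g : P, g ≠ 1 → ∀ a : E, g • a = a → a = 0 := by
  by_cases hpq : p = q
  · subst hpq
    have htriv : ∀ g : P, g = 1 := by
      intro g
      refine FaithfulSMul.eq_of_smul_eq_smul (α := E) fun e => ?_
      rw [one_smul]
      by_cases he : e = 0
      · rw [he, smul_zero]
      have hdvd : p ∣ Nat.card E := by
        have h1 : addOrderOf e = p := addOrderOf_eq_prime (hE e) he
        exact h1 ▸ addOrderOf_dvd_natCard e
      obtain ⟨a, ha, ha0⟩ := hP.exists_fixed_point_of_prime_dvd_card_of_fixed_point E hdvd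
        (a := (0 : E)) (fun g => smul_zero g)
      have ha1 : a ≠ 0 := ha0.symm
      have : MulAction.stabilizer P e = MulAction.stabilizer P a :=
        Subgroup.eq_of_le_of_card_ge (fun g _ => ha g) (hconst a e ha1 he).le
      have hg : g ∈ MulAction.stabilizer P e := by rw [this]; exact ha g
      exact hg
    haveI : Subsingleton P := ⟨fun a b => (htriv a).trans (htriv b).symm⟩
    exact ⟨inferInstance, fun g hg => absurd (htriv g) hg⟩
  · have hc := isCyclic_of_const hp2 hP hq hpq hE hconst
    refine ⟨hc, fun g hg a ha => central_fpf hP hq hpq hE hconst ?_ hg ha⟩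
    rw [Subgroup.mem_center_iff]
    obtain ⟨u, hu⟩ := hc.exists_generator
    intro h
    obtain ⟨i, rfl⟩ := hu g
    obtain ⟨j, rfl⟩ := hu h
    exact (Commute.refl u).zpow_zpow j i

end

end Cfsg.Agent.H38
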