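import Cfsg.Agent.H38.FixedPoints

/-! Counting involutions in the rank-one set-up; `K` acts regularly on the involutions of `G_a`. -/

set_option autoImplicit false

namespace Cfsg.Agent.H38

open MulAction

variable {G Ω : Type*} [Group G] [MulAction G Ω] {a : Ω} {t : G} {Q : Subgroup G}

lemma card_eq_mul_of_fibers {A B : Type*} [Finite A] [Finite B] (f : A → B) (k : ℕ)
    (h : ∀ b, Nat.card {x // f x = b} = k) : Nat.card A = Nat.card B * k := by
  have := Fintype.ofFinite B
  rw [← Nat.card_congr (Equiv.sigmaFiberEquiv f), Nat.card_sigma]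
  simp [h, Nat.card_eq_fintype_card]

lemma card_swap [Finite G] (hS : IsRankOneSetup G Ω a t Q) {p q : Ω} (hpq : p ≠ q) :
    Nat.card {u : G // (u ≠ 1 ∧ u * u = 1) ∧ u • p = q} =
      Nat.card (invertedBy (stabilizer G a ⊓ stabilizer G (t • a)) t) := by
  obtain ⟨g, hgp, hgq⟩ := two_trans hS hpq (t_smul_ne hS).symm
  refine Nat.card_congr (((MulAut.conj g).toEquiv.trans (Equiv.mulLeft t)).subtypeEquiv fun u => ?_)
  show _ ↔ t * (g * u * g⁻¹) ∈ invertedBy _ t
  rw [← t_mul_invol_iff hS]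
  constructor
  · rintro ⟨⟨-, h2⟩, h3⟩
    refine ⟨?_, ?_⟩
    · rw [show g * u * g⁻¹ * (g * u * g⁻¹) = g * (u * u) * g⁻¹ by group, h2]; group
    · rw [← hgp, mul_smul, inv_smul_smul, mul_smul, h3, hgq, hgp]
  · rintro ⟨h2, h3⟩
    rw [← hgp, mul_smul, inv_smul_smul, mul_smul, hgp, ← hgq] at h3
    refine ⟨⟨?_, ?_⟩, MulAction.injective g h3⟩
    · rintro rfl
      rw [one_smul] at h3
      exact hpq (MulAction.injective g h3)
    · have := congrArg (fun z => g⁻¹ * z * g) h2
      simpa [mul_assoc] using this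

lemma card_inverted_eq [Finite G] (hS : IsRankOneSetup G Ω a t Q) :
    Nat.card (invertedBy (stabilizer G a ⊓ stabilizer G (t • a)) t) =
      Nat.card (involutionsIn (stabilizer G a : Set G)) := by
  haveI := finite_pts hS
  classical
  let Inv := {u : G // u ≠ 1 ∧ u * u = 1}
  choose fx hfx using fun u : Inv => exists_fix hS u.2.2
  let Pr := {p : G × Ω // (p.1 ≠ 1 ∧ p.1 * p.1 = 1) ∧ p.1 • p.2 ≠ p.2}
  let Pq := {p : Ω × Ω // p.1 ≠ p.2}
  have e1 : Nat.card Inv =
      Nat.card Ω * Nat.card (involutionsIn (stabilizer G a : Set G)) := by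
    refine card_eq_mul_of_fibers fx _ fun c => ?_
    obtain ⟨g, hg⟩ := exists_smul hS c a
    calc Nat.card {x : Inv // fx x = c} = Nat.card {x : Inv // (x : G) • c = c} :=
          Nat.card_congr (Equiv.subtypeEquivRight fun x =>
            ⟨fun h => h ▸ hfx x, fun h => fix_unique hS x.2.1 x.2.2 h (hfx x)⟩)
      _ = Nat.card {x : G // (x ≠ 1 ∧ x * x = 1) ∧ x • c = c} :=
          Nat.card_congr (Equiv.subtypeSubtypeEquivSubtypeInter
            (fun x : G => x ≠ 1 ∧ x * x = 1) (fun x : G => x • c = c))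
      _ = _ := by
          refine Nat.card_congr ((MulAut.conj g).toEquiv.subtypeEquiv fun x => ?_)
          show _ ↔ g * x * g⁻¹ ∈ involutionsIn _
          constructor
          · rintro ⟨⟨h1, h2⟩, h3⟩
            refine ⟨?_, by rwa [Ne, conj_eq_one_iff], ?_⟩
            · show (g * x * g⁻¹) • a = a
              rw [← hg, mul_smul, inv_smul_smul, mul_smul, h3]
            · rw [show g * x * g⁻¹ * (g * x * g⁻¹) = g * (x * x) * g⁻¹ by group, h2]; group
          · rintro ⟨h3, h1, h2⟩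
            have h3' : (g * x * g⁻¹) • a = a := h3
            rw [← hg, mul_smul, inv_smul_smul, mul_smul] at h3'
            refine ⟨⟨fun e => h1 (by rw [e]; group), ?_⟩, MulAction.injective g h3'⟩
            have := congrArg (fun z => g⁻¹ * z * g) h2
            simpa [mul_assoc] using this
  have e2 : Nat.card Pr = Nat.card Inv * Nat.card Q := by
    refine card_eq_mul_of_fibers (fun p : Pr => (⟨p.1.1, p.2.1⟩ : Inv)) _ fun u => ?_
    rw [← card_ne hS (fx u)]
    refine Nat.card_congr ⟨fun p => ⟨p.1.1.2, ?_⟩,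
      fun c => ⟨⟨(u.1, c.1), u.2, ?_⟩, rfl⟩, ?_, ?_⟩
    · intro e
      have := p.1.2.2
      rw [e, show p.1.1.1 = u.1 from congrArg Subtype.val p.2] at this
      exact this (hfx u)
    · exact fun e => c.2 (fix_unique hS u.2.1 u.2.2 (hfx u) e)
    · rintro ⟨⟨⟨x, c⟩, h⟩, rfl⟩; rfl
    · rintro ⟨c, h⟩; rfl
  have e3 : Nat.card Pr = Nat.card Pq *
      Nat.card (invertedBy (stabilizer G a ⊓ stabilizer G (t • a)) t) := by
    refine card_eq_mul_of_fibers (fun p : Pr => (⟨(p.1.2, p.1.1 • p.1.2), p.2.2.symm⟩ : Pq)) _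
      fun q => ?_
    rw [← card_swap hS q.2]
    refine Nat.card_congr ⟨fun p => ⟨p.1.1.1, p.1.2.1, ?_⟩,
      fun x => ⟨⟨(x.1, q.1.1), x.2.1, ?_⟩, ?_⟩, ?_, ?_⟩
    · obtain ⟨h1, h2⟩ := Prod.ext_iff.mp (congrArg Subtype.val p.2)
      show p.1.1.1 • q.1.1 = q.1.2
      rw [← h1]; exact h2
    · show x.1 • q.1.1 ≠ q.1.1
      rw [x.2.2]; exact q.2.symm
    · exact Subtype.ext (Prod.ext rfl x.2.2)
    · rintro ⟨⟨⟨x, c⟩, h⟩, rfl⟩; rfl
    · rintro ⟨x, h⟩; rfl
  have e4 : Nat.card Pq = Nat.card Ω * Nat.card Q := by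
    refine card_eq_mul_of_fibers (fun p : Pq => p.1.1) _ fun c => ?_
    rw [← card_ne hS c]
    refine Nat.card_congr ⟨fun p => ⟨p.1.1.2, fun e => p.1.2 (p.2.trans e.symm)⟩,
      fun x => ⟨⟨(c, x.1), x.2.symm⟩, rfl⟩, ?_, ?_⟩
    · rintro ⟨⟨⟨x, y⟩, h⟩, rfl⟩; rfl
    · rintro ⟨x, h⟩; rfl
  have hΩ : 0 < Nat.card Ω := by rw [card_pts hS]; omega
  have hQ : 0 < Nat.card Q := Nat.card_pos
  have h := e2.symm.trans e3
  rw [e1, e4] at h
  rw [mul_assoc, mul_comm (Nat.card (involutionsIn _)), ← mul_assoc] at h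
  exact (Nat.eq_of_mul_eq_mul_left (Nat.mul_pos hΩ hQ) h).symm

/-- The second entry of the structure equation: `C_D(t) = C_D(s)`. -/
lemma centralizer_distinguished [Finite G] (hS : IsRankOneSetup G Ω a t Q) {s r : G}
    (hs : s ∈ involutionsIn (stabilizer G a : Set G)) (hr : r ∈ Q)
    (he : t * s * t = r⁻¹ * t * r) :
    (stabilizer G a ⊓ stabilizer G (t • a)) ⊓ Subgroup.centralizer {t} =
      (stabilizer G a ⊓ stabilizer G (t • a)) ⊓ Subgroup.centralizer {s} := by
  have hu : (r⁻¹ * t * r) • (t • a) = t • a := by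
    rw [← he, mul_smul, t_smul_t_smul hS, mul_smul, show s • a = a from hs.1]
  have hu1 : r⁻¹ * t * r ≠ 1 := by
    intro h
    apply hS.ne_one
    have := congrArg (fun z => r * z * r⁻¹) h
    simpa [mul_assoc] using this
  have hu2 : r⁻¹ * t * r * (r⁻¹ * t * r) = 1 := by
    rw [show r⁻¹ * t * r * (r⁻¹ * t * r) = r⁻¹ * (t * t) * r by group, hS.mul_self]; group
  have hc : t • (r • (t • a)) = r • (t • a) := by
    rwa [mul_smul, mul_smul, inv_smul_eq_iff] at hu
  have hc' : t • t • s • a = t • t • a := by rw [show s • a = a from hs.1]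
  ext d
  simp only [Subgroup.mem_inf, Subgroup.mem_centralizer_singleton_iff]
  constructor
  · rintro ⟨hd, hdt⟩
    refine ⟨hd, ?_⟩
    have hfix : d • (r • (t • a)) = r • (t • a) := commute_fix hS hS.ne_one hS.mul_self hdt hc
    have hdr : Commute d r := commute_of_conj_fixed hS hd hr hfix
    have hdt' : Commute d t := hdt
    have h1 : Commute d (t * s * t) := by
      rw [he]; exact ((hdr.inv_right).mul_right hdt').mul_right hdr
    have h2 : Commute d (t * (t * s * t) * t) := (hdt'.mul_right h1).mul_right hdt'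
    rwa [show t * (t * s * t) * t = (t * t) * s * (t * t) by group, hS.mul_self, one_mul, mul_one]
      at h2
  · rintro ⟨hd, hds⟩
    refine ⟨hd, ?_⟩
    set d' := t * d * t⁻¹ with hd'
    have hd'D := t_mem_normalizer_D hS hd
    have h1 : Commute d' (r⁻¹ * t * r) := by
      rw [← he, hd', t_inv hS]
      show t * d * t * (t * s * t) = t * s * t * (t * d * t)
      rw [show t * d * t * (t * s * t) = t * d * (t * t) * s * t by group,
        show t * s * t * (t * d * t) = t * s * (t * t) * d * t by group, hS.mul_self, mul_one,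
        mul_one, mul_assoc t d s, hds, ← mul_assoc]
    have hua : (r⁻¹ * t * r) • a = r⁻¹ • (t • a) := by
      rw [mul_smul, mul_smul, Q_fix hS hr]
    have h2 : d' • (r⁻¹ • (t • a)) = r⁻¹ • (t • a) := by
      rw [← hua, ← mul_smul, h1.eq, mul_smul, (mem_D_iff.mp hd'D).1]
    have h3 : Commute d' r := by
      have h4 : Commute d' r⁻¹ := commute_of_conj_fixed hS hd'D (inv_mem hr) h2
      simpa using h4.inv_right
    have h5 : Commute d' (r * (r⁻¹ * t * r) * r⁻¹) := (h3.mul_right h1).mul_right h3.inv_right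
    rw [show r * (r⁻¹ * t * r) * r⁻¹ = t by group, hd', t_inv hS] at h5
    have h6 : t * d * t * t = t * (t * d * t) := h5
    rw [mul_assoc _ t t, hS.mul_self, mul_one, ← mul_assoc, ← mul_assoc, hS.mul_self, one_mul]
      at h6
    exact h6.symm

lemma conj_mem_invol (hS : IsRankOneSetup G Ω a t Q) {s g : G}
    (hs : s ∈ involutionsIn (stabilizer G a : Set G)) (hg : g ∈ stabilizer G a) :
    g⁻¹ * s * g ∈ involutionsIn (stabilizer G a : Set G) := by
  refine ⟨mul_mem (mul_mem (inv_mem hg) hs.1) hg, ?_, ?_⟩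
  · intro h
    apply hs.2.1
    have := congrArg (fun z => g * z * g⁻¹) h
    simpa [mul_assoc] using this
  · rw [show g⁻¹ * s * g * (g⁻¹ * s * g) = g⁻¹ * (s * s) * g by group, hs.2.2]; group

lemma bijective_of_inj [Finite G] (hS : IsRankOneSetup G Ω a t Q) {s : G}
    (hs : s ∈ involutionsIn (stabilizer G a : Set G))
    (hinj : ∀ k ∈ invertedBy (stabilizer G a ⊓ stabilizer G (t • a)) t,
      ∀ k' ∈ invertedBy (stabilizer G a ⊓ stabilizer G (t • a)) t,
        k⁻¹ * s * k = k'⁻¹ * s * k' → k = k') :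
    ∀ s' ∈ involutionsIn (stabilizer G a : Set G),
      ∃ k ∈ invertedBy (stabilizer G a ⊓ stabilizer G (t • a)) t, k⁻¹ * s * k = s' := by
  intro s' hs'
  let f : invertedBy (stabilizer G a ⊓ stabilizer G (t • a)) t →
      involutionsIn (stabilizer G a : Set G) :=
    fun k => ⟨(k : G)⁻¹ * s * k, conj_mem_invol hS hs k.2.1.1⟩
  have hf : Function.Injective f :=
    fun k k' h => Subtype.ext (hinj k k.2 k' k'.2 (congrArg Subtype.val h))
  obtain ⟨k, hk⟩ := ((Nat.bijective_iff_injective_and_card f).mpr ⟨hf, card_inverted_eq hS⟩).2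
    ⟨s', hs'⟩
  exact ⟨k, k.2, congrArg Subtype.val hk⟩

/-- For every involution `s` of `G_a`, `k ↦ k⁻¹ s k` is injective on `K`. -/
lemma conj_inj [Finite G] (hS : IsRankOneSetup G Ω a t Q) {s : G}
    (hs : s ∈ involutionsIn (stabilizer G a : Set G))
    {k k' : G} (hk : k ∈ invertedBy (stabilizer G a ⊓ stabilizer G (t • a)) t)
    (hk' : k' ∈ invertedBy (stabilizer G a ⊓ stabilizer G (t • a)) t)
    (h : k⁻¹ * s * k = k'⁻¹ * s * k') : k = k' := by
  obtain ⟨⟨s₀, r⟩, ⟨hs₀, hr, he⟩, -⟩ := structure_equation hS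
  simp only at hs₀ hr he
  have hC := centralizer_distinguished hS hs₀ hr he
  have key : ∀ p ∈ invertedBy (stabilizer G a ⊓ stabilizer G (t • a)) t,
      ∀ p' ∈ invertedBy (stabilizer G a ⊓ stabilizer G (t • a)) t,
      ∀ l ∈ invertedBy (stabilizer G a ⊓ stabilizer G (t • a)) t,
        p⁻¹ * (l⁻¹ * s₀ * l) * p = p'⁻¹ * (l⁻¹ * s₀ * l) * p' → p = p' := by
    intro p hp p' hp' l hl hh
    set c := l * p' * p⁻¹ * l⁻¹ with hc
    have hcD : c ∈ stabilizer G a ⊓ stabilizer G (t • a) :=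
      mul_mem (mul_mem (mul_mem hl.1 hp'.1) (inv_mem hp.1)) (inv_mem hl.1)
    have hcs : c * s₀ = s₀ * c := by
      have := congrArg (fun z => l * p' * z * (p⁻¹ * l⁻¹)) hh
      rw [hc]
      simpa [mul_assoc] using this
    have hct : c * t = t * c := by
      have : c ∈ (stabilizer G a ⊓ stabilizer G (t • a)) ⊓ Subgroup.centralizer {s₀} :=
        ⟨hcD, Subgroup.mem_centralizer_singleton_iff.mpr hcs⟩
      rw [← hC] at this
      exact Subgroup.mem_centralizer_singleton_iff.mp this.2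
    have htc : t * c * t⁻¹ = c := by rw [← hct, mul_inv_cancel_right]
    have e : p' * l * (l * p') = p * l * (l * p) := by
      have h1 : l * p' = c * (l * p) := by rw [hc]; group
      have h2 : t * (l * p') * t⁻¹ = c * (t * (l * p) * t⁻¹) := by
        rw [h1, ← conj_mul, htc]
      have h3 : (t * (l * p') * t⁻¹)⁻¹ * (l * p') = (t * (l * p) * t⁻¹)⁻¹ * (l * p) := by
        rw [h2, h1, mul_inv_rev]; group
      rw [show t * (l * p') * t⁻¹ = t * l * t⁻¹ * (t * p' * t⁻¹) by group,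
        show t * (l * p) * t⁻¹ = t * l * t⁻¹ * (t * p * t⁻¹) by group, hl.2, hp.2, hp'.2,
        mul_inv_rev, mul_inv_rev, inv_inv, inv_inv, inv_inv] at h3
      exact h3
    have e2 : (l * p * l) * (l * p * l) = (l * p' * l) * (l * p' * l) := by
      calc (l * p * l) * (l * p * l) = l * (p * l * (l * p)) * l := by group
        _ = l * (p' * l * (l * p')) * l := by rw [e]
        _ = _ := by group
    have := eq_of_mul_self_eq hS.odd_card (mul_mem (mul_mem hl.1 hp.1) hl.1)
      (mul_mem (mul_mem hl.1 hp'.1) hl.1) e2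
    exact mul_left_cancel (mul_right_cancel this)
  have h1K : (1 : G) ∈ invertedBy (stabilizer G a ⊓ stabilizer G (t • a)) t :=
    ⟨one_mem _, by group⟩
  obtain ⟨l, hl, rfl⟩ := bijective_of_inj hS hs₀ (fun p hp p' hp' hh =>
    key p hp p' hp' 1 h1K (by simpa using hh)) s hs
  exact key k hk k' hk' l hl h

lemma conj_transitive [Finite G] (hS : IsRankOneSetup G Ω a t Q) {s s' : G}
    (hs : s ∈ involutionsIn (stabilizer G a : Set G))
    (hs' : s' ∈ involutionsIn (stabilizer G a : Set G)) :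
    ∃ k ∈ invertedBy (stabilizer G a ⊓ stabilizer G (t • a)) t, k⁻¹ * s * k = s' :=
  bijective_of_inj hS hs (fun _ hk _ hk' h => conj_inj hS hs hk hk' h) s' hs'

end Cfsg.Agent.H38
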