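import Cfsg.Agent.H38.Odd

/-! Basic theory of the rank-one set-up `Cfsg.IsRankOneSetup`. -/

set_option autoImplicit false

namespace Cfsg.Agent.H38

open MulAction

variable {G Ω : Type*} [Group G] [MulAction G Ω] {a : Ω} {t : G} {Q : Subgroup G}

lemma t_inv (hS : IsRankOneSetup G Ω a t Q) : t⁻¹ = t := inv_eq_self hS.mul_self

lemma t_smul_t_smul (hS : IsRankOneSetup G Ω a t Q) (c : Ω) : t • t • c = c := by
  rw [← mul_smul, hS.mul_self, one_smul]

lemma t_smul_ne (hS : IsRankOneSetup G Ω a t Q) : t • a ≠ a := fun h => hS.not_mem h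

lemma Q_fix (hS : IsRankOneSetup G Ω a t Q) {q : G} (hq : q ∈ Q) : q • a = a := hS.le hq

lemma mem_D_iff {d : G} :
    d ∈ stabilizer G a ⊓ stabilizer G (t • a) ↔ d • a = a ∧ d • (t • a) = t • a := by
  simp [Subgroup.mem_inf, mem_stabilizer_iff]

lemma two_trans (hS : IsRankOneSetup G Ω a t Q) {x y x' y' : Ω} (h : x ≠ y) (h' : x' ≠ y') :
    ∃ g : G, g • x = x' ∧ g • y = y' :=
  is_two_pretransitive_iff.mp hS.two_transitive h h'

lemma exists_smul (hS : IsRankOneSetup G Ω a t Q) (x y : Ω) : ∃ g : G, g • x = y :=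
  haveI := hS.two_transitive
  (isPretransitive_of_is_two_pretransitive (G := G) (α := Ω)).exists_smul_eq x y

lemma finite_pts (hS : IsRankOneSetup G Ω a t Q) [Finite G] : Finite Ω :=
  Finite.of_surjective (fun g : G => g • a) fun y => exists_smul hS a y

lemma t_mem_normalizer_D (hS : IsRankOneSetup G Ω a t Q) {d : G}
    (hd : d ∈ stabilizer G a ⊓ stabilizer G (t • a)) :
    t * d * t⁻¹ ∈ stabilizer G a ⊓ stabilizer G (t • a) := by
  rw [mem_D_iff] at hd ⊢
  simp [t_inv hS, mul_smul, t_smul_t_smul hS, hd.1, hd.2]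

lemma exists_decomp (hS : IsRankOneSetup G Ω a t Q) {g : G} (hg : g ∈ stabilizer G a) :
    ∃ q ∈ Q, ∃ d ∈ stabilizer G a ⊓ stabilizer G (t • a), g = q * d := by
  have hmem : g ∈ Q ⊔ (stabilizer G a ⊓ stabilizer G (t • a)) := by rw [hS.sup_eq]; exact hg
  have hnorm : (stabilizer G a ⊓ stabilizer G (t • a)) ≤ Subgroup.normalizer (Q : Set G) := by
    intro d hd
    rw [Subgroup.mem_normalizer_iff]
    intro n
    refine ⟨fun hn => hS.conj_mem d hd.1 n hn, fun hn => ?_⟩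
    have := hS.conj_mem d⁻¹ (inv_mem hd.1) _ hn
    simpa [mul_assoc] using this
  rw [← SetLike.mem_coe, Subgroup.coe_mul_of_right_le_normalizer_left _ _ hnorm] at hmem
  obtain ⟨q, hq, d, hd, he⟩ := hmem
  exact ⟨q, hq, d, hd, he.symm⟩

lemma exists_Q (hS : IsRankOneSetup G Ω a t Q) {c : Ω} (hc : c ≠ a) :
    ∃ q ∈ Q, q • (t • a) = c := by
  obtain ⟨g, hg1, hg2⟩ := two_trans hS (t_smul_ne hS).symm hc.symm
  obtain ⟨q, hq, d, hd, rfl⟩ := exists_decomp hS (show g ∈ stabilizer G a from hg1)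
  refine ⟨q, hq, ?_⟩
  rw [mul_smul, (mem_D_iff.mp hd).2] at hg2
  exact hg2

lemma eq_one_of_fix_base (hS : IsRankOneSetup G Ω a t Q) {q : G} (hq : q ∈ Q)
    (h : q • (t • a) = t • a) : q = 1 := by
  have : q ∈ Q ⊓ stabilizer G (t • a) := ⟨hq, h⟩
  rw [hS.inf_eq_bot] at this
  exact Subgroup.mem_bot.mp this

lemma Q_inj_base (hS : IsRankOneSetup G Ω a t Q) {q q' : G} (hq : q ∈ Q) (hq' : q' ∈ Q)
    (h : q • (t • a) = q' • (t • a)) : q = q' := by
  have h1 : (q'⁻¹ * q) • (t • a) = t • a := by rw [mul_smul, h, inv_smul_smul]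
  exact (inv_mul_eq_one.mp (eq_one_of_fix_base hS (mul_mem (inv_mem hq') hq) h1)).symm

lemma Q_fix_only (hS : IsRankOneSetup G Ω a t Q) {q : G} (hq : q ∈ Q) (h1 : q ≠ 1) {c : Ω}
    (h : q • c = c) : c = a := by
  by_contra hc
  obtain ⟨r, hr, rfl⟩ := exists_Q hS hc
  apply h1
  have h2 : (r⁻¹ * q * r) • (t • a) = t • a := by rw [mul_smul, mul_smul, h, inv_smul_smul]
  have h3 := eq_one_of_fix_base hS (mul_mem (mul_mem (inv_mem hr) hq) hr) h2
  have : q = r * (r⁻¹ * q * r) * r⁻¹ := by group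
  rw [this, h3]; group

lemma Q_regular (hS : IsRankOneSetup G Ω a t Q) {b c : Ω} (hb : b ≠ a) (hc : c ≠ a) :
    ∃! x : Q, (x : G) • b = c := by
  obtain ⟨r, hr, hrb⟩ := exists_Q hS hb
  obtain ⟨q, hq, hqc⟩ := exists_Q hS hc
  refine ⟨⟨q * r⁻¹, mul_mem hq (inv_mem hr)⟩, ?_, ?_⟩
  · show (q * r⁻¹) • b = c
    rw [← hrb, mul_smul, inv_smul_smul, hqc]
  · rintro ⟨x, hx⟩ hxb
    have hxb' : x • b = c := hxb
    rw [← hrb, ← mul_smul, ← hqc] at hxb'
    have := Q_inj_base hS (mul_mem hx hr) hq hxb'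
    exact Subtype.ext (eq_mul_inv_of_mul_eq this)

/-- An element of `G_a` of the form `q * d` determines `q` and `d`. -/
lemma decomp_unique (hS : IsRankOneSetup G Ω a t Q) {q q' d d' : G} (hq : q ∈ Q) (hq' : q' ∈ Q)
    (hd : d ∈ stabilizer G a ⊓ stabilizer G (t • a))
    (hd' : d' ∈ stabilizer G a ⊓ stabilizer G (t • a)) (h : q * d = q' * d') :
    q = q' ∧ d = d' := by
  have h1 : q • (t • a) = q' • (t • a) := by
    rw [show q • (t • a) = (q * d) • (t • a) by rw [mul_smul, (mem_D_iff.mp hd).2], h, mul_smul,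
      (mem_D_iff.mp hd').2]
  obtain rfl := Q_inj_base hS hq hq' h1
  exact ⟨rfl, mul_left_cancel h⟩

lemma card_compl (hS : IsRankOneSetup G Ω a t Q) :
    Nat.card {c : Ω // c ≠ a} = Nat.card Q := by
  refine (Nat.card_congr (Equiv.ofBijective
    (fun q : Q => (⟨(q : G) • (t • a), ?_⟩ : {c : Ω // c ≠ a})) ⟨?_, ?_⟩)).symm
  · intro h
    have h2 : (q : G) • (t • a) = (q : G) • a := h.trans (Q_fix hS q.2).symm
    exact t_smul_ne hS (smul_left_cancel _ h2)
  · intro q q' h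
    exact Subtype.ext (Q_inj_base hS q.2 q'.2 (congrArg Subtype.val h))
  · rintro ⟨c, hc⟩
    obtain ⟨q, hq, rfl⟩ := exists_Q hS hc
    exact ⟨⟨q, hq⟩, rfl⟩

lemma card_ne (hS : IsRankOneSetup G Ω a t Q) (c : Ω) :
    Nat.card {x : Ω // x ≠ c} = Nat.card Q := by
  obtain ⟨g, hg⟩ := exists_smul hS c a
  rw [← card_compl hS]
  refine Nat.card_congr ((MulAction.toPerm g).subtypeEquiv fun x => ?_)
  rw [← hg]
  exact not_congr (MulAction.injective g).eq_iff.symm

lemma card_pts [Finite G] (hS : IsRankOneSetup G Ω a t Q) :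
    Nat.card Ω = Nat.card Q + 1 := by
  haveI := finite_pts hS
  classical
  have := Fintype.ofFinite Ω
  rw [← card_compl hS, Nat.card_eq_fintype_card, Nat.card_eq_fintype_card,
    Fintype.card_subtype_compl, Fintype.card_subtype_eq]
  have : 0 < Fintype.card Ω := Fintype.card_pos_iff.mpr ⟨a⟩
  omega

lemma card_stab (hS : IsRankOneSetup G Ω a t Q) :
    Nat.card (stabilizer G a) =
      Nat.card Q * Nat.card ↥(stabilizer G a ⊓ stabilizer G (t • a)) := by
  rw [← Nat.card_prod]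
  refine (Nat.card_congr (Equiv.ofBijective
    (fun p : Q × ↥(stabilizer G a ⊓ stabilizer G (t • a)) =>
      (⟨(p.1 : G) * p.2, mul_mem (hS.le p.1.2) p.2.2.1⟩ : stabilizer G a)) ⟨?_, ?_⟩)).symm
  · rintro ⟨⟨q, hq⟩, ⟨d, hd⟩⟩ ⟨⟨q', hq'⟩, ⟨d', hd'⟩⟩ h
    obtain ⟨rfl, rfl⟩ := decomp_unique hS hq hq' hd hd' (congrArg Subtype.val h)
    rfl
  · rintro ⟨g, hg⟩
    obtain ⟨q, hq, d, hd, rfl⟩ := exists_decomp hS hg
    exact ⟨(⟨q, hq⟩, ⟨d, hd⟩), rfl⟩

lemma card_group [Finite G] (hS : IsRankOneSetup G Ω a t Q) :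
    Nat.card G = Nat.card Q * Nat.card ↥(stabilizer G a ⊓ stabilizer G (t • a)) *
      (Nat.card Q + 1) := by
  haveI := hS.two_transitive
  haveI := isPretransitive_of_is_two_pretransitive (G := G) (α := Ω)
  rw [← card_stab hS, ← card_pts hS, ← index_stabilizer_of_transitive G a,
    Subgroup.card_mul_index]

lemma exists_sylow_le_Q [Finite G] (hS : IsRankOneSetup G Ω a t Q) :
    ∃ P : Sylow 2 G, (P : Subgroup G) ≤ Q := by
  obtain ⟨S⟩ : Nonempty (Sylow 2 Q) := inferInstance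
  set R : Subgroup G := (S : Subgroup Q).map Q.subtype with hR
  have hcard : Nat.card R = 2 ^ (Nat.card G).factorization 2 := by
    rw [hR, Subgroup.card_subtype, Sylow.card_eq_multiplicity S, card_group hS]
    have hD := hS.odd_card
    have hQ1 : Odd (Nat.card Q + 1) := hS.even_card.add_one
    have hD0 : Nat.card ↥(stabilizer G a ⊓ stabilizer G (t • a)) ≠ 0 := Nat.card_pos.ne'
    have hQ0 : Nat.card Q ≠ 0 := Nat.card_pos.ne'
    rw [Nat.factorization_mul (mul_ne_zero hQ0 hD0) (Nat.succ_ne_zero _),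
      Nat.factorization_mul hQ0 hD0]
    rw [Finsupp.add_apply, Finsupp.add_apply, Nat.factorization_eq_zero_of_not_dvd hD.not_two_dvd_nat,
      Nat.factorization_eq_zero_of_not_dvd hQ1.not_two_dvd_nat, add_zero, add_zero]
  exact ⟨Sylow.ofCard R hcard, Subgroup.map_subtype_le _⟩

lemma invol_mem_Q (hS : IsRankOneSetup G Ω a t Q) {s : G} (hs : s ∈ stabilizer G a)
    (h2 : s * s = 1) : s ∈ Q := by
  obtain ⟨q, hq, d, hd, rfl⟩ := exists_decomp hS hs
  have h1 : q * (d * q * d⁻¹) * (d * d) = 1 * 1 := by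
    rw [one_mul, ← h2]; group
  have hdd := (decomp_unique hS (mul_mem hq (hS.conj_mem d hd.1 q hq)) Q.one_mem (mul_mem hd hd)
    (one_mem _) h1).2
  rw [eq_one_of_mul_self_eq_one hS.odd_card hd hdd, mul_one]
  exact hq

lemma invol_fix_only (hS : IsRankOneSetup G Ω a t Q) {s : G} (hs : s ∈ stabilizer G a)
    (h1 : s ≠ 1) (h2 : s * s = 1) {c : Ω} (h : s • c = c) : c = a :=
  Q_fix_only hS (invol_mem_Q hS hs h2) h1 h

lemma exists_fix [Finite G] (hS : IsRankOneSetup G Ω a t Q) {u : G} (h2 : u * u = 1) :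
    ∃ c : Ω, u • c = c := by
  obtain ⟨P, hP⟩ := exists_sylow_le_Q hS
  have hu : IsPGroup 2 (Subgroup.zpowers u) := by
    intro x
    refine ⟨1, Subtype.ext ?_⟩
    obtain ⟨k, hk⟩ := x.2
    simp only [pow_one, SubgroupClass.coe_pow, OneMemClass.coe_one]
    rw [← hk, ← zpow_natCast, ← zpow_mul, mul_comm, zpow_mul, zpow_natCast, pow_two, h2,
      one_zpow]
  obtain ⟨P', hP'⟩ := hu.exists_le_sylow
  obtain ⟨g, hg⟩ := MulAction.exists_smul_eq G P' P
  refine ⟨g⁻¹ • a, ?_⟩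
  have : g * u * g⁻¹ ∈ (P : Subgroup G) := by
    rw [← hg]
    exact Subgroup.smul_mem_pointwise_smul _ (MulAut.conj g) _ (hP' (Subgroup.mem_zpowers u))
  have h3 : (g * u * g⁻¹) • a = a := Q_fix hS (hP this)
  rw [mul_smul, mul_smul, smul_eq_iff_eq_inv_smul] at h3
  exact h3

lemma fix_unique [Finite G] (hS : IsRankOneSetup G Ω a t Q) {u : G} (h1 : u ≠ 1)
    (h2 : u * u = 1) {c c' : Ω} (hc : u • c = c) (hc' : u • c' = c') : c' = c := by
  obtain ⟨g, hg⟩ := exists_smul hS c a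
  have hs : (g * u * g⁻¹) • a = a := by rw [← hg, mul_smul, inv_smul_smul, mul_smul, hc]
  have hs1 : g * u * g⁻¹ ≠ 1 := by rwa [Ne, conj_eq_one_iff]
  have hs2 : g * u * g⁻¹ * (g * u * g⁻¹) = 1 := by
    rw [show g * u * g⁻¹ * (g * u * g⁻¹) = g * (u * u) * g⁻¹ by group, h2]; group
  have := invol_fix_only hS hs hs1 hs2 (c := g • c') (by rw [mul_smul, inv_smul_smul, mul_smul, hc'])
  rw [← hg] at this
  exact MulAction.injective g this

/-- An element commuting with an involution fixes its fixed point. -/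
lemma commute_fix [Finite G] (hS : IsRankOneSetup G Ω a t Q) {u g : G} (h1 : u ≠ 1)
    (h2 : u * u = 1) (hg : Commute g u) {c : Ω} (hc : u • c = c) : g • c = c :=
  fix_unique hS h1 h2 hc (by rw [← mul_smul, ← hg.eq, mul_smul, hc])

lemma odd_mul_of_fix_ne [Finite G] (hS : IsRankOneSetup G Ω a t Q) {u v : G} (hu1 : u ≠ 1)
    (hu : u * u = 1) (hv1 : v ≠ 1) (hv : v * v = 1) {c : Ω} (hc : u • c = c) (hne : v • c ≠ c) :
    Odd (orderOf (u * v)) := by
  rw [← Nat.not_even_iff_odd]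
  intro he
  obtain ⟨m, -, -, hw1, hw2, hwu, hwv⟩ := exists_central_of_even hu hv he
  set w := (u * v) ^ m
  have hwc : w • c = c := commute_fix hS hu1 hu hwu hc
  exact hne (commute_fix hS hw1 hw2 hwv.symm hwc)

lemma invol_conj [Finite G] (hS : IsRankOneSetup G Ω a t Q) {u v : G} (hu1 : u ≠ 1)
    (hu : u * u = 1) (hv1 : v ≠ 1) (hv : v * v = 1) : ∃ g : G, g * u * g⁻¹ = v := by
  obtain ⟨c, hc⟩ := exists_fix hS hu
  have key : ∀ u' v' : G, u' ≠ 1 → u' * u' = 1 → v' ≠ 1 → v' * v' = 1 → ∀ c' : Ω, u' • c' = c' →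
      v' • c' ≠ c' → ∃ g : G, g * u' * g⁻¹ = v' := by
    intro u' v' h1 h2 h3 h4 c' h5 h6
    obtain ⟨k, hk⟩ := exists_conj_of_odd h2 h4 (odd_mul_of_fix_ne hS h1 h2 h3 h4 h5 h6)
    exact ⟨_, hk⟩
  by_cases hvc : v • c = c
  · obtain ⟨g, hg⟩ := exists_smul hS a (t • a)
    obtain ⟨d, hd⟩ : ∃ d : Ω, d ≠ c := by
      by_cases hac : a = c
      · exact ⟨t • a, hac ▸ t_smul_ne hS⟩
      · exact ⟨a, hac⟩
    obtain ⟨h, hh⟩ := exists_smul hS c d
    set w := h * u * h⁻¹ with hw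
    have hw1 : w ≠ 1 := by rw [hw, Ne, conj_eq_one_iff]; exact hu1
    have hw2 : w * w = 1 := by
      rw [hw, show h * u * h⁻¹ * (h * u * h⁻¹) = h * (u * u) * h⁻¹ by group, hu]; group
    have hwd : w • d = d := by rw [← hh, hw, mul_smul, inv_smul_smul, mul_smul, hc]
    have hvd : v • d ≠ d := fun e => hd (fix_unique hS hv1 hv hvc e)
    obtain ⟨k, hk⟩ := key w v hw1 hw2 hv1 hv d hwd hvd
    exact ⟨k * h, by rw [← hk, hw]; group⟩
  · exact key u v hu1 hu hv1 hv c hc hvc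

lemma t_mul_invol_iff (hS : IsRankOneSetup G Ω a t Q) {u : G} :
    (u * u = 1 ∧ u • a = t • a) ↔
      t * u ∈ invertedBy (stabilizer G a ⊓ stabilizer G (t • a)) t := by
  constructor
  · rintro ⟨h2, ha⟩
    refine ⟨mem_D_iff.mpr ⟨?_, ?_⟩, ?_⟩
    · rw [mul_smul, ha, t_smul_t_smul hS]
    · rw [mul_smul, show u • (t • a) = a by rw [← ha, ← mul_smul, h2, one_smul]]
    · rw [mul_inv_rev, inv_eq_self h2, t_inv hS, ← mul_assoc t t, hS.mul_self, one_mul]
  · rintro ⟨hD, hi⟩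
    rw [mul_inv_rev, t_inv hS, ← mul_assoc t t u, hS.mul_self, one_mul] at hi
    refine ⟨mul_eq_one_iff_eq_inv.mpr (mul_right_cancel hi), ?_⟩
    have := (mem_D_iff.mp hD).1
    rw [mul_smul] at this
    rw [← t_smul_t_smul hS (u • a), this]

/-- The structure equation. -/
lemma structure_equation [Finite G] (hS : IsRankOneSetup G Ω a t Q) :
    ∃! p : G × G, p.1 ∈ involutionsIn (stabilizer G a : Set G) ∧ p.2 ∈ Q ∧
      t * p.1 * t = p.2⁻¹ * t * p.2 := by
  obtain ⟨c, hc⟩ := exists_fix hS hS.mul_self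
  have hca : c ≠ a := fun h => t_smul_ne hS (h ▸ hc)
  obtain ⟨r, hr, hrc⟩ := exists_Q hS hca
  refine ⟨(t * (r⁻¹ * t * r) * t, r), ⟨⟨?_, ?_, ?_⟩, hr, ?_⟩, ?_⟩
  · show (t * (r⁻¹ * t * r) * t) • a = a
    simp only [mul_smul]
    rw [hrc, hc, ← hrc, inv_smul_smul, t_smul_t_smul hS]
  · intro h
    apply hS.ne_one
    have : r⁻¹ * t * r = 1 := by
      have := congrArg (fun z => t * z * t) h
      simpa [← mul_assoc, hS.mul_self, mul_assoc _ t t] using this
    have h2 := congrArg (fun z => r * z * r⁻¹) this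
    simpa [mul_assoc] using h2
  · rw [show t * (r⁻¹ * t * r) * t * (t * (r⁻¹ * t * r) * t) =
        t * (r⁻¹ * t * r) * (t * t) * (r⁻¹ * t * r) * t by group, hS.mul_self, mul_one,
      show t * (r⁻¹ * t * r) * (r⁻¹ * t * r) * t = t * r⁻¹ * (t * t) * r * t by group,
      hS.mul_self, mul_one, inv_mul_cancel_right, hS.mul_self]
  · show t * (t * (r⁻¹ * t * r) * t) * t = r⁻¹ * t * r
    simp [← mul_assoc, hS.mul_self, mul_assoc _ t t]
  · rintro ⟨s, r'⟩ ⟨⟨hs, hs1, hs2⟩, hr', he⟩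
    simp only at hs hs1 hs2 hr' he
    have hu : (r'⁻¹ * t * r') • (t • a) = t • a := by
      rw [← he]
      simp only [mul_smul, t_smul_t_smul hS]
      rw [show s • a = a from hs]
    rw [mul_smul, mul_smul, inv_smul_eq_iff] at hu
    have : r' • (t • a) = c := fix_unique hS hS.ne_one hS.mul_self hc hu
    obtain rfl := Q_inj_base hS hr' hr (this.trans hrc.symm)
    have : s = t * (r'⁻¹ * t * r') * t := by
      rw [← he]; simp [← mul_assoc, hS.mul_self, mul_assoc _ t t]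
    rw [this]

/-- Two canonical forms of one element agree. -/
lemma canon_unique (hS : IsRankOneSetup G Ω a t Q) {x x' y y' : G} (hx : x ∈ stabilizer G a)
    (hx' : x' ∈ stabilizer G a) (hy : y ∈ Q) (hy' : y' ∈ Q) (h : x * t * y = x' * t * y') :
    x = x' ∧ y = y' := by
  have h1 : y⁻¹ * (t * x⁻¹) = y'⁻¹ * (t * x'⁻¹) := by
    have := congrArg (fun z => z⁻¹) h
    simpa [mul_inv_rev, t_inv hS, mul_assoc] using this
  have h2 : y⁻¹ • (t • a) = y'⁻¹ • (t • a) := by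
    have := congrArg (fun z => z • a) h1
    simpa only [mul_smul, show x⁻¹ • a = a from inv_mem hx, show x'⁻¹ • a = a from inv_mem hx']
      using this
  obtain rfl := inv_injective (Q_inj_base hS (inv_mem hy) (inv_mem hy') h2)
  exact ⟨mul_right_cancel (mul_right_cancel h), rfl⟩

/-- Two canonical forms `q d t f` of one element agree. -/
lemma canon_unique' (hS : IsRankOneSetup G Ω a t Q) {g g' h h' f f' : G} (hg : g ∈ Q) (hg' : g' ∈ Q)
    (hh : h ∈ stabilizer G a ⊓ stabilizer G (t • a))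
    (hh' : h' ∈ stabilizer G a ⊓ stabilizer G (t • a)) (hf : f ∈ Q) (hf' : f' ∈ Q)
    (e : g * h * t * f = g' * h' * t * f') : g = g' ∧ h = h' ∧ f = f' := by
  obtain ⟨e1, e2⟩ := canon_unique hS (mul_mem (hS.le hg) hh.1) (mul_mem (hS.le hg') hh'.1) hf hf' e
  obtain ⟨e3, e4⟩ := decomp_unique hS hg hg' hh hh' e1
  exact ⟨e3, e4, e2⟩

lemma canon_exists (hS : IsRankOneSetup G Ω a t Q) {g : G} (hg : g ∉ stabilizer G a) :
    ∃ x ∈ stabilizer G a, ∃ y ∈ Q, g = x * t * y := by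
  have h : g⁻¹ • a ≠ a := fun e => hg (show g • a = a from (eq_inv_smul_iff.mp e.symm))
  obtain ⟨q, hq, hqa⟩ := exists_Q hS h
  refine ⟨g * q * t, ?_, q⁻¹, inv_mem hq, ?_⟩
  · show (g * q * t) • a = a
    rw [mul_smul, mul_smul, hqa, smul_inv_smul]
  · simp [mul_assoc, ← mul_assoc t t, hS.mul_self]

end Cfsg.Agent.H38
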