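import Cfsg.Agent.H38.Counting
import Cfsg.Agent.H24.Nilp
import Cfsg.Agent.S0033

/-! The rank-one set-up with faithful action and two commuting involutions. -/

set_option autoImplicit false

namespace Cfsg.Agent.H38

open MulAction

universe u v

variable {G : Type u} {Ω : Type v} [Group G] [Finite G] [MulAction G Ω] {a : Ω} {t : G}
  {Q : Subgroup G}

/-- Two distinct commuting involutions give two involutions in `G_a`. -/
lemma two_le_invol (hS : IsRankOneSetup G Ω a t Q)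
    (h2 : ∃ x y : G, x ≠ 1 ∧ y ≠ 1 ∧ x ≠ y ∧ x * x = 1 ∧ y * y = 1 ∧ x * y = y * x) :
    ∃ s s' : G, s ∈ involutionsIn (stabilizer G a : Set G) ∧
      s' ∈ involutionsIn (stabilizer G a : Set G) ∧ s ≠ s' := by
  obtain ⟨x, y, hx1, hy1, hne, hx, hy, hxy⟩ := h2
  obtain ⟨c, hc⟩ := exists_fix hS hx
  have hyc : y • c = c := commute_fix hS hx1 hx (Commute.symm hxy) hc
  obtain ⟨g, hg⟩ := exists_smul hS c a
  have key : ∀ z : G, z ≠ 1 → z * z = 1 → z • c = c →
      g * z * g⁻¹ ∈ involutionsIn (stabilizer G a : Set G) := by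
    intro z hz1 hz hzc
    refine ⟨?_, by rwa [Ne, conj_eq_one_iff], ?_⟩
    · show (g * z * g⁻¹) • a = a
      rw [← hg, mul_smul, inv_smul_smul, mul_smul, hzc]
    · rw [show g * z * g⁻¹ * (g * z * g⁻¹) = g * (z * z) * g⁻¹ by group, hz]; group
  exact ⟨_, _, key x hx1 hx hc, key y hy1 hy hyc,
    fun e => hne (mul_left_cancel (mul_right_cancel e))⟩

lemma exists_inverted_prime (hS : IsRankOneSetup G Ω a t Q)
    (h2 : ∃ x y : G, x ≠ 1 ∧ y ≠ 1 ∧ x ≠ y ∧ x * x = 1 ∧ y * y = 1 ∧ x * y = y * x) :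
    ∃ x ∈ invertedBy (stabilizer G a ⊓ stabilizer G (t • a)) t, (orderOf x).Prime := by
  obtain ⟨s, s', hs, hs', hne⟩ := two_le_invol hS h2
  obtain ⟨k, hk, hks⟩ := conj_transitive hS hs hs'
  have hk1 : k ≠ 1 := fun e => hne (by rw [← hks, e]; group)
  set n := orderOf k with hn
  have hn1 : n ≠ 1 := fun e => hk1 (orderOf_eq_one_iff.mp e)
  obtain ⟨p, hp, hpn⟩ := Nat.exists_prime_and_dvd hn1
  refine ⟨k ^ (n / p), ⟨pow_mem hk.1 _, ?_⟩, ?_⟩
  · rw [← conj_pow, hk.2, inv_pow]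
  · rwa [orderOf_pow_orderOf_div (orderOf_pos k).ne' hpn]

lemma Q_ne_bot (hS : IsRankOneSetup G Ω a t Q) : Q ≠ ⊥ := fun e => by
  have := hS.even_card
  rw [e, Subgroup.card_bot] at this
  exact Nat.not_even_one this

/-- Conjugation by an element of `G_a`, as an automorphism of `Q`. -/
def conjQ (hS : IsRankOneSetup G Ω a t Q) (x : G) (hx : x ∈ stabilizer G a) : MulAut Q where
  toFun q := ⟨x * q * x⁻¹, hS.conj_mem x hx q q.2⟩
  invFun q := ⟨x⁻¹ * q * x⁻¹⁻¹, hS.conj_mem x⁻¹ (inv_mem hx) q q.2⟩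
  left_inv q := Subtype.ext (by simp [mul_assoc])
  right_inv q := Subtype.ext (by simp [mul_assoc])
  map_mul' q r := Subtype.ext (by simp [mul_assoc])

/-- `Q` is nilpotent. -/
theorem Q_nilpotent (hS : IsRankOneSetup G Ω a t Q)
    (h2 : ∃ x y : G, x ≠ 1 ∧ y ≠ 1 ∧ x ≠ y ∧ x * x = 1 ∧ y * y = 1 ∧ x * y = y * x) :
    Group.IsNilpotent Q := by
  obtain ⟨x, hx, hp⟩ := exists_inverted_prime hS h2
  have hx1 : x ≠ 1 := fun e => by rw [e, orderOf_one] at hp; exact Nat.not_prime_one hp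
  set φ := conjQ hS x hx.1.1
  have hpow : ∀ (n : ℕ) (q : Q), (((φ ^ n) q : Q) : G) = x ^ n * q * (x ^ n)⁻¹ := by
    intro n
    induction n with
    | zero => intro q; simp
    | succ n ih =>
      intro q
      rw [pow_succ', MulAut.mul_apply]
      show x * ((φ ^ n) q : G) * x⁻¹ = _
      rw [ih, pow_succ']; group
  have hfix : ∀ q : Q, φ q = q → q = 1 := by
    intro q hq
    have h1 : x * (q : G) * x⁻¹ = q := congrArg Subtype.val hq
    have h3 : (q : G) ∈ Q ⊓ Subgroup.centralizer {x} :=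
      ⟨q.2, Subgroup.mem_centralizer_singleton_iff.mpr (mul_inv_eq_iff_eq_mul.mp h1).symm⟩
    rw [inverted_fpf hS hx hx1] at h3
    exact Subtype.ext (Subgroup.mem_bot.mp h3)
  haveI : Fact (orderOf x).Prime := ⟨hp⟩
  refine S0033.result φ hfix (orderOf x) hp (orderOf_eq_prime ?_ ?_)
  · refine MulEquiv.ext fun q => Subtype.ext ?_
    rw [hpow, pow_orderOf_eq_one]
    simp
  · intro e
    obtain ⟨q, hq⟩ := (Subgroup.ne_bot_iff_exists_ne_one.mp (Q_ne_bot hS))
    exact hq (hfix q (by rw [e]; rfl))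

/-- The involutions of `G_a` are central in `Q`. -/
theorem invol_central (hS : IsRankOneSetup G Ω a t Q)
    (h2 : ∃ x y : G, x ≠ 1 ∧ y ≠ 1 ∧ x ≠ y ∧ x * x = 1 ∧ y * y = 1 ∧ x * y = y * x) {s : G}
    (hs : s ∈ involutionsIn (stabilizer G a : Set G)) : s ∈ Q ∧ ∀ x ∈ Q, s * x = x * s := by
  refine ⟨invol_mem_Q hS hs.1 hs.2.2, ?_⟩
  haveI : Fact (Nat.Prime 2) := ⟨Nat.prime_two⟩
  haveI := Q_nilpotent hS h2
  obtain ⟨S⟩ : Nonempty (Sylow 2 Q) := inferInstance
  haveI hSn : (S : Subgroup Q).Normal :=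
    (Group.isNilpotent_of_finite_tfae.out 0 3 rfl rfl).mp ‹Group.IsNilpotent Q› 2 ‹_› S
  have hne : (S : Subgroup Q) ≠ ⊥ := S.ne_bot_of_dvd_card hS.even_card.two_dvd
  obtain ⟨⟨z, hz⟩, hz1⟩ := Subgroup.ne_bot_iff_exists_ne_one.mp (H24.inf_center_ne_bot _ hne)
  have hz1' : z ≠ 1 := fun e => hz1 (Subtype.ext e)
  classical
  have hex := S.isPGroup' ⟨z, hz.1⟩
  have hk : (z ^ 2 ^ Nat.find hex) = 1 := congrArg Subtype.val (Nat.find_spec hex)
  have h0 : Nat.find hex ≠ 0 := fun e => hz1' (by rwa [e, pow_zero, pow_one] at hk)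
  set z' := z ^ 2 ^ (Nat.find hex - 1) with hz'
  have hz'1 : z' ≠ 1 := fun e => Nat.find_min hex (show Nat.find hex - 1 < _ by omega)
    (Subtype.ext e)
  have hz'2 : z' * z' = 1 := by
    rw [hz', ← pow_add, ← two_mul, ← pow_succ',
      show Nat.find hex - 1 + 1 = Nat.find hex by omega]
    exact hk
  have hzI : (z' : G) ∈ involutionsIn (stabilizer G a : Set G) :=
    ⟨hS.le z'.2, fun e => hz'1 (Subtype.ext e), congrArg Subtype.val hz'2⟩
  have hzc : z' ∈ Subgroup.center Q := pow_mem hz.2 _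
  obtain ⟨k, hk, hks⟩ := conj_transitive hS hzI hs
  intro x hx
  have hxk := hS.conj_mem k hk.1.1 x hx
  have h3 : k * x * k⁻¹ * (z' : G) = z' * (k * x * k⁻¹) :=
    congrArg Subtype.val (Subgroup.mem_center_iff.mp hzc ⟨k * x * k⁻¹, hxk⟩)
  rw [← hks]
  have := congrArg (fun w => k⁻¹ * w * k) h3
  simpa [mul_assoc] using this.symm

/-- A product of two involutions that is not an involution: the structure. -/
theorem strongly_real (hS : IsRankOneSetup G Ω a t Q)
    (h2 : ∃ x y : G, x ≠ 1 ∧ y ≠ 1 ∧ x ≠ y ∧ x * x = 1 ∧ y * y = 1 ∧ x * y = y * x) {u v : G}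
    (hu1 : u ≠ 1) (hu2 : u * u = 1) (hv1 : v ≠ 1) (hv2 : v * v = 1)
    (hx : (u * v) * (u * v) ≠ 1) :
    (∃ g : G, ∃ u' ∈ involutionsIn (stabilizer G a : Set G), g * (u * v) * g⁻¹ = u' * t) ∧
      Odd (Nat.card ↥(Subgroup.centralizer {u * v})) := by
  obtain ⟨c, hc⟩ := exists_fix hS hu2
  have hvc : v • c ≠ c := by
    intro hvc
    obtain ⟨g, hg⟩ := exists_smul hS c a
    have key : ∀ z : G, z ≠ 1 → z * z = 1 → z • c = c →
        g * z * g⁻¹ ∈ involutionsIn (stabilizer G a : Set G) := by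
      intro z hz1 hz hzc
      refine ⟨?_, by rwa [Ne, conj_eq_one_iff], ?_⟩
      · show (g * z * g⁻¹) • a = a
        rw [← hg, mul_smul, inv_smul_smul, mul_smul, hzc]
      · rw [show g * z * g⁻¹ * (g * z * g⁻¹) = g * (z * z) * g⁻¹ by group, hz]; group
    have h3 := (invol_central hS h2 (key u hu1 hu2 hc)).2 _
      (invol_mem_Q hS (key v hv1 hv2 hvc).1 (key v hv1 hv2 hvc).2.2)
    have h4 : u * v = v * u := by
      have := congrArg (fun w => g⁻¹ * w * g) h3
      simpa [mul_assoc] using this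
    apply hx
    rw [show u * v * (u * v) = u * (v * u) * v by group, ← h4,
      show u * (u * v) * v = (u * u) * (v * v) by group, hu2, hv2, mul_one]
  constructor
  · obtain ⟨g, hga, hgb⟩ := two_trans hS (Ne.symm hvc) (t_smul_ne hS).symm
    set w := g * v * g⁻¹ with hw
    have hw2 : w * w = 1 := by
      rw [hw, show g * v * g⁻¹ * (g * v * g⁻¹) = g * (v * v) * g⁻¹ by group, hv2]; group
    have hwa : w • a = t • a := by rw [← hgb, ← hga, hw, mul_smul, inv_smul_smul, mul_smul]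
    obtain ⟨hkD, hki⟩ := (t_mul_invol_iff hS).mp ⟨hw2, hwa⟩
    set k := t * w with hk
    have hwk : w = t * k := by rw [hk, ← mul_assoc, hS.mul_self, one_mul]
    set l := rt (stabilizer G a ⊓ stabilizer G (t • a)) k with hl
    have hlD : l ∈ stabilizer G a ⊓ stabilizer G (t • a) := rt_mem hkD
    have hll : l * l = k := rt_mul_self hS.odd_card hkD
    have hlt : t * l * t⁻¹ = l⁻¹ := by rw [hl, conj_rt, hki, rt_inv]
    have h1 : t * l = l⁻¹ * t := by rw [← hlt, inv_mul_cancel_right]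
    have h3 : l * w * l⁻¹ = t := by
      rw [hwk, ← hll, show l * (t * (l * l)) * l⁻¹ = l * (t * l) by group, h1, ← mul_assoc,
        mul_inv_cancel, one_mul]
    refine ⟨l * g, l * (g * u * g⁻¹) * l⁻¹, ⟨?_, ?_, ?_⟩, ?_⟩
    · have hu' : g * u * g⁻¹ ∈ stabilizer G a := by
        show (g * u * g⁻¹) • a = a
        rw [← hga, mul_smul, inv_smul_smul, mul_smul, hc]
      exact mul_mem (mul_mem hlD.1 hu') (inv_mem hlD.1)
    · rw [Ne, conj_eq_one_iff, conj_eq_one_iff]; exact hu1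
    · rw [show l * (g * u * g⁻¹) * l⁻¹ * (l * (g * u * g⁻¹) * l⁻¹) =
        l * g * (u * u) * (l * g)⁻¹ by group, hu2]; group
    · rw [← h3, hw]; group
  · rw [← Nat.not_even_iff_odd]
    intro hev
    haveI : Fact (Nat.Prime 2) := ⟨Nat.prime_two⟩
    obtain ⟨⟨w, hwC⟩, hw⟩ := exists_prime_orderOf_dvd_card' 2 hev.two_dvd
    have hwo : orderOf w = 2 := by simpa [Subgroup.orderOf_mk] using hw
    have hw1 : w ≠ 1 := fun e => by rw [e, orderOf_one] at hwo; omega
    have hw2 : w * w = 1 := by rw [← pow_two, ← hwo]; exact pow_orderOf_eq_one w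
    have hwx : Commute w (u * v) := Subgroup.mem_centralizer_singleton_iff.mp hwC
    set x := u * v with hxd
    obtain ⟨d, hd⟩ := exists_fix hS hw2
    have hxd' : x • d = d := commute_fix hS hw1 hw2 hwx.symm hd
    have hux : u * x * u⁻¹ = x⁻¹ := conj_mul_invol_left hu2 hv2
    have hud : x • (u • d) = u • d := by
      have hxu : x * u = u * x⁻¹ := by
        rw [← hux, inv_eq_self hu2, ← mul_assoc, ← mul_assoc, hu2, one_mul]
      rw [← mul_smul, hxu, mul_smul, show x⁻¹ • d = d from inv_smul_eq_iff.mpr hxd'.symm]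
    have hne : u • d ≠ d := by
      intro e
      have e2 : d = c := fix_unique hS hu1 hu2 hc e
      refine hvc ?_
      have hv' : u * x = v := by rw [hxd, ← mul_assoc, hu2, one_mul]
      rw [← hv', mul_smul, ← e2, hxd', e]
    obtain ⟨g, hg1, hg2⟩ := two_trans hS hne.symm (t_smul_ne hS).symm
    set y := g * x * g⁻¹ with hy
    have hyD : y ∈ stabilizer G a ⊓ stabilizer G (t • a) := mem_D_iff.mpr
      ⟨by rw [← hg1, hy, mul_smul, inv_smul_smul, mul_smul, hxd'],
       by rw [← hg2, hy, mul_smul, inv_smul_smul, mul_smul, hud]⟩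
    set m := g * u * g⁻¹ with hm
    have hm2 : m * m = 1 := by
      rw [hm, show g * u * g⁻¹ * (g * u * g⁻¹) = g * (u * u) * g⁻¹ by group, hu2]; group
    have hma : m • a = t • a := by rw [← hg2, ← hg1, hm, mul_smul, inv_smul_smul, mul_smul]
    obtain ⟨hkD, hki⟩ := (t_mul_invol_iff hS).mp ⟨hm2, hma⟩
    set k := t * m with hk
    have hmy : m * y * m⁻¹ = y⁻¹ := by
      rw [hm, hy, show g * u * g⁻¹ * (g * x * g⁻¹) * (g * u * g⁻¹)⁻¹ = g * (u * x * u⁻¹) * g⁻¹ by
        group, hux]; group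
    set l := rt (stabilizer G a ⊓ stabilizer G (t • a)) k with hl
    have hlD : l ∈ stabilizer G a ⊓ stabilizer G (t • a) := rt_mem hkD
    have hll : l * l = k := rt_mul_self hS.odd_card hkD
    have hlt : t * l * t⁻¹ = l⁻¹ := by rw [hl, conj_rt, hki, rt_inv]
    have h1 : t * l = l⁻¹ * t := by rw [← hlt, inv_mul_cancel_right]
    have h3 : l * m * l⁻¹ = t := by
      rw [show m = t * k by rw [hk, ← mul_assoc, hS.mul_self, one_mul], ← hll,
        show l * (t * (l * l)) * l⁻¹ = l * (t * l) by group, h1, ← mul_assoc, mul_inv_cancel,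
        one_mul]
    set y' := l * y * l⁻¹ with hy'
    have hy'K : y' ∈ invertedBy (stabilizer G a ⊓ stabilizer G (t • a)) t := by
      refine ⟨mul_mem (mul_mem hlD hyD) (inv_mem hlD), ?_⟩
      rw [← h3, hy', show l * m * l⁻¹ * (l * y * l⁻¹) * (l * m * l⁻¹)⁻¹ =
        l * (m * y * m⁻¹) * l⁻¹ by group, hmy]
      group
    have hy'1 : y' ≠ 1 := by
      intro e
      rw [hy', conj_eq_one_iff, hy, conj_eq_one_iff] at e
      exact hx (by rw [e, one_mul])
    have hcase : ∀ e : Ω, x • e = e → e = d ∨ e = u • d := by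
      intro e he
      have hfix : y' • ((l * g) • e) = (l * g) • e := by
        rw [hy', hy, ← mul_smul,
          show l * (g * x * g⁻¹) * l⁻¹ * (l * g) = l * g * x by group, mul_smul, he]
      have hla : (l * g) • d = a := by rw [mul_smul, hg1]; exact (mem_D_iff.mp hlD).1
      have hlb : (l * g) • (u • d) = t • a := by rw [mul_smul, hg2]; exact (mem_D_iff.mp hlD).2
      rcases inverted_fix hS hy'K hy'1 hfix with h' | h'
      · exact Or.inl (smul_left_cancel _ (h'.trans hla.symm))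
      · exact Or.inr (smul_left_cancel _ (h'.trans hlb.symm))
    have hwud : x • (w • (u • d)) = w • (u • d) := by
      rw [← mul_smul, ← hwx.eq, mul_smul, hud]
    rcases hcase _ hwud with h' | h'
    · exact hne (smul_left_cancel w (h'.trans hd.symm))
    · exact hne (fix_unique hS hw1 hw2 hd h')

end Cfsg.Agent.H38
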