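import Cfsg.Agent.H38.SquareForm
import Cfsg.Prelude.Def_LieRecognition
import Cfsg.Agent.PGroups.Basic
import Cfsg.Agent.Coprime.Centralize

/-! The centre of a non-abelian 2-group with an odd-order automorphism transitive on its
(at least two) involutions is elementary abelian (G. Higman). -/

set_option autoImplicit false

namespace Cfsg.Agent.H38

open scoped IsMulCommutative commutatorElement

universe u

variable {P : Type u} [Group P] [Finite P]

lemma char_invariant (σ : MulAut P) (S : Subgroup P) [S.Characteristic] : ∀ x ∈ S, σ x ∈ S :=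
  fun x hx => by
    have h := Subgroup.characteristic_iff_map_eq.mp ‹_› σ
    exact h.le (Subgroup.mem_map_of_mem _ hx)

lemma center_invariant (σ : MulAut P) : ∀ x ∈ Subgroup.center P, σ x ∈ Subgroup.center P :=
  char_invariant σ _

lemma sup_invariant {σ : MulAut P} {S S' : Subgroup P} (hS : ∀ x ∈ S, σ x ∈ S)
    (hS' : ∀ x ∈ S', σ x ∈ S') : ∀ x ∈ S ⊔ S', σ x ∈ S ⊔ S' := by
  intro x hx
  have h1 : (S ⊔ S').map σ.toMonoidHom ≤ S ⊔ S' := by
    rw [Subgroup.map_sup]
    exact sup_le_sup (by rintro _ ⟨a, ha, rfl⟩; exact hS a ha)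
      (by rintro _ ⟨a, ha, rfl⟩; exact hS' a ha)
  exact h1 ⟨x, hx, rfl⟩

lemma exists_homo {σ : MulAut P} (h : TwoHyp P σ) {T : Subgroup P} [IsMulCommutative T]
    (hT : ∀ x ∈ T, σ x ∈ T) (hne : T ≠ ⊥) : ∃ n, Homo T (restrictAut σ T hT) n := by
  classical
  have hp := h.pgroup.to_subgroup T
  obtain ⟨m, hm⟩ := IsPGroup.iff_card.mp hp
  have hex : ∃ f, ∀ a : T, a ^ 2 ^ f = 1 := ⟨m, fun a => hm ▸ pow_card_eq_one'⟩
  have h0 : Nat.find hex ≠ 0 := fun e => hne <| (Subgroup.eq_bot_iff_forall _).mpr fun x hx =>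
    congrArg Subtype.val (show (⟨x, hx⟩ : T) = 1 by
      have hs := Nat.find_spec hex ⟨x, hx⟩
      rw [e, pow_zero, pow_one] at hs
      exact hs)
  obtain ⟨n, hn⟩ := Nat.exists_eq_succ_of_ne_zero h0
  refine ⟨n, ⟨fun a => by rw [← Nat.succ_eq_add_one, ← hn]; exact Nat.find_spec hex a, ?_, ?_⟩⟩
  · by_contra hh
    push Not at hh
    exact Nat.find_min hex (by omega : n < Nat.find hex) hh
  · intro u v hu hu2 hv hv2
    rw [pow_two] at hu2 hv2
    exact (h.restrict hT hne).trans u v hu hu2 hv hv2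

/-- The displacement `a ↦ a⁻¹ (y a y⁻¹)` of an abelian normal subgroup by `y`. -/
noncomputable def disp (T : Subgroup P) [T.Normal] [IsMulCommutative T] (y : P) : T →* T :=
  MonoidHom.mk' (fun a => a⁻¹ * MulAut.conjNormal y a) fun a b => by
    rw [map_mul, mul_inv_rev]
    simp [mul_comm, mul_left_comm, mul_assoc]

variable {T : Subgroup P} [T.Normal] [IsMulCommutative T]

lemma conj_eq_mul_disp (y : P) (a : T) : MulAut.conjNormal y a = a * disp T y a := by
  simp [disp]

lemma conjNormal_of_mem {t : P} (ht : t ∈ T) (a : T) : MulAut.conjNormal t a = a := by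
  refine Subtype.ext ?_
  rw [MulAut.conjNormal_apply]
  have h1 : t * (a : P) = a * t := congrArg Subtype.val (mul_comm (⟨t, ht⟩ : T) a)
  rw [h1, mul_inv_cancel_right]

lemma disp_of_mem {t : P} (ht : t ∈ T) (a : T) : disp T t a = 1 := by
  simp [disp, conjNormal_of_mem ht]

lemma disp_mul (y y' : P) (a : T) :
    disp T (y * y') a = disp T y a * disp T y' a * disp T y (disp T y' a) := by
  apply mul_left_cancel (a := a)
  rw [← conj_eq_mul_disp, map_mul, MulAut.mul_apply, conj_eq_mul_disp y', map_mul,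
    conj_eq_mul_disp y, conj_eq_mul_disp y]
  simp [mul_comm, mul_left_comm]

lemma disp_sq (hsq : ∀ y : P, y * y ∈ T) (y : P) (a : T) :
    disp T y (disp T y a) = ((disp T y a) ^ 2)⁻¹ := by
  have h1 := disp_mul y y a
  rw [disp_of_mem (hsq y), ← pow_two] at h1
  exact eq_inv_of_mul_eq_one_right h1.symm

lemma disp_equivariant {σ : MulAut P} (hT : ∀ x ∈ T, σ x ∈ T) (y : P) (a : T) :
    restrictAut σ T hT (disp T y a) = disp T (σ y) (restrictAut σ T hT a) :=
  Subtype.ext <| by
    simp [disp, restrictAut_apply, map_mul, map_inv, MulAut.conjNormal_apply]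

lemma disp_comm (hcomm : ∀ y y' : P, ∀ a : T, disp T (y * y') a = disp T (y' * y) a) (y y' : P)
    (a : T) : disp T y (disp T y' a) = disp T y' (disp T y a) := by
  have h1 := hcomm y y' a
  rw [disp_mul, disp_mul, mul_comm (disp T y' a)] at h1
  exact mul_left_cancel h1

/-- `(y y')² = (y k y⁻¹) y² y'²` with `k = y' y y'⁻¹ y⁻¹`. -/
lemma mul_sq_eq (hsq : ∀ y : P, y * y ∈ T) (y y' : P) (k : T)
    (hk : (k : P) = y' * y * y'⁻¹ * y⁻¹) :
    sqIn T hsq (y * y') = k * disp T y k * (sqIn T hsq y * sqIn T hsq y') := by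
  rw [← conj_eq_mul_disp]
  refine Subtype.ext ?_
  simp only [sqIn, Subgroup.coe_mul, MulAut.conjNormal_apply, hk]
  group

lemma disp_sqIn (hsq : ∀ y : P, y * y ∈ T) (y y' : P) (k : T)
    (hk : (k : P) = y' * y * y'⁻¹ * y⁻¹) :
    disp T y' (sqIn T hsq y) = k ^ 2 * disp T y k := by
  have h1 : MulAut.conjNormal y' (sqIn T hsq y) = k * MulAut.conjNormal y k * sqIn T hsq y := by
    refine Subtype.ext ?_
    simp only [sqIn, Subgroup.coe_mul, MulAut.conjNormal_apply, hk]
    group
  rw [conj_eq_mul_disp, conj_eq_mul_disp, mul_comm, mul_left_inj] at h1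
  rw [h1, pow_two, mul_assoc]

/-- An abelian maximal invariant subgroup of exponent at least eight is central. -/
theorem abelian_core {σ : MulAut P} (h : TwoHyp P σ) (hT : ∀ x ∈ T, σ x ∈ T) {B : Subgroup P}
    (hle : B ≤ T) (hTne : T ≠ ⊤) (hTbot : T ≠ ⊥)
    (hmax : ∀ ⦃S : Subgroup P⦄, ((∀ x ∈ S, σ x ∈ S) ∧ B ≤ S ∧ S ≠ ⊤) → T ≤ S → S ≤ T)
    (hcomT : commutator P ≤ T) (hsq : ∀ y : P, y * y ∈ T) {n : ℕ}
    (hh : Homo T (restrictAut σ T hT) n) (hn : 2 ≤ n) : ∀ y a, disp T y a = 1 := by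
  haveI : Fact (Nat.Prime 2) := ⟨Nat.prime_two⟩
  have hTn : T.Normal := inferInstance
  have hn1 : 1 ≤ n := by omega
  set τ := restrictAut σ T hT with hτ
  have hinvolT : ∀ {w : P}, w * w = 1 → w ∈ T := fun hw => h.invol_mem hT hTbot hw
  let kk : P → P → T := fun y y' => ⟨y' * y * y'⁻¹ * y⁻¹, hcomT (by
    rw [show y' * y * y'⁻¹ * y⁻¹ = ⁅y', y⁆ from (commutatorElement_def y' y).symm]
    exact Subgroup.commutator_mem_commutator (Subgroup.mem_top _) (Subgroup.mem_top _))⟩
  have hran : ∀ y (a : T), disp T y a ∈ pw T 1 := by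
    have hlt : ⁅T, (⊤ : Subgroup P)⁆ < T := Coprime.commutator_lt_of_isPGroup
      (h.pgroup.to_subgroup T) (h.pgroup.to_subgroup ⊤)
      (fun g _ => Subgroup.mem_normalizer_iff.mpr fun t =>
        ⟨fun ht => hTn.conj_mem t ht g, fun ht => by
          simpa [mul_assoc] using hTn.conj_mem _ ht g⁻¹⟩) hTbot
    intro y a
    refine hh.not_le_sq (S := Subgroup.closure {v : T | ∃ y a, disp T y a = v}) ?_ ?_
      (Subgroup.subset_closure ⟨y, a, rfl⟩)
    · intro x hx
      induction hx using Subgroup.closure_induction with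
      | mem v hv =>
        obtain ⟨y, a, rfl⟩ := hv
        exact Subgroup.subset_closure ⟨σ y, _, (disp_equivariant hT y a).symm⟩
      | one => rw [map_one]; exact one_mem _
      | mul u v _ _ iu iv => rw [map_mul]; exact mul_mem iu iv
      | inv u _ iu => rw [map_inv]; exact inv_mem iu
    · intro e
      have hcl : Subgroup.closure {v : T | ∃ y a, disp T y a = v} ≤
          (⁅T, (⊤ : Subgroup P)⁆).subgroupOf T := by
        rw [Subgroup.closure_le]
        rintro _ ⟨y, a, rfl⟩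
        show ((disp T y a : T) : P) ∈ ⁅T, (⊤ : Subgroup P)⁆
        have := Subgroup.commutator_mem_commutator (inv_mem a.2) (Subgroup.mem_top y)
        simpa [disp, MulAut.conjNormal_apply, commutatorElement_def, mul_assoc] using this
      rw [e] at hcl
      exact not_le_of_gt hlt fun t ht =>
        Subgroup.mem_subgroupOf.mp (hcl (Subgroup.mem_top ⟨t, ht⟩))
  have hcomm := disp_comm (T := T) fun y y' a => by
    have e : y * y' = (kk y' y : P) * (y' * y) := by simp [kk, mul_assoc]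
    rw [e, disp_mul, disp_of_mem (kk y' y).2, disp_of_mem (kk y' y).2, one_mul, mul_one]
  have hdi := hh.dichotomy (fun y => disp T y) hn σ σ.surjective
    (fun y a => disp_equivariant hT y a) hcomm (disp_sq hsq) hran
  have hDpw : ∀ y {b : T}, b ∈ pw T 1 → disp T y b ∈ pw T 2 := by
    rintro y _ ⟨c, rfl⟩
    show disp T y (c ^ 2 ^ 1) ∈ _
    rw [pow_one, map_pow]
    exact sq_mem_pw_succ (hran y c)
  let Nsub : Subgroup P :=
    { carrier := {y | ∀ a, disp T y a ∈ pw T 2}
      one_mem' := fun a => by rw [disp_of_mem (one_mem T)]; exact one_mem _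
      mul_mem' := fun {y y'} hy hy' a => by
        rw [disp_mul]; exact mul_mem (mul_mem (hy a) (hy' a)) (hy _)
      inv_mem' := fun {y} hy a => by
        have h1 := disp_mul y⁻¹ y a
        rw [inv_mul_cancel, disp_of_mem (one_mem T)] at h1
        have h2 : disp T y⁻¹ (disp T y a) ∈ pw T 2 := hDpw _ (pw_antitone (by omega) (hy a))
        have h3 : disp T y⁻¹ a = (disp T y a)⁻¹ * (disp T y⁻¹ (disp T y a))⁻¹ := by
          rw [← mul_inv, eq_inv_iff_mul_eq_one, h1, mul_assoc]
        rw [h3]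
        exact mul_mem (inv_mem (hy a)) (inv_mem h2) }
  have hTN : T ≤ Nsub := fun t ht a => by rw [disp_of_mem ht]; exact one_mem _
  have hNinv : ∀ y ∈ Nsub, σ y ∈ Nsub := fun y hy a => by
    obtain ⟨b, rfl⟩ := τ.surjective a
    rw [← disp_equivariant hT]
    exact map_mem_pw τ.toMonoidHom (hy b)
  have hN4 : ∀ y a, disp T y a ∈ pw T 2 := by
    by_cases hNt : Nsub = ⊤
    · exact fun y a => (hNt.symm ▸ Subgroup.mem_top y : y ∈ Nsub) a
    exfalso
    have hNT : Nsub ≤ T := hmax ⟨hNinv, hle.trans hTN, hNt⟩ hTN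
    obtain ⟨y, -, hy⟩ := SetLike.exists_of_lt (lt_top_iff_ne_top.mpr hTne)
    have hy2 : σ y ∉ T := fun e => by
      obtain ⟨N, hNodd, hN1⟩ := h.odd
      obtain ⟨j, hj⟩ := hNodd
      have := aut_pow_mem hT (2 * j) e
      rw [← MulAut.mul_apply, ← pow_succ, ← hj, hN1, MulAut.one_apply] at this
      exact hy this
    have hprod : y * σ y ∈ T := hNT fun a => by
      have h1 := (hdi y).resolve_left fun e => hy (hNT e)
      have h2 := (hdi (σ y)).resolve_left fun e => hy2 (hNT e)
      rw [disp_mul]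
      refine mul_mem ?_ (hDpw y (hran _ a))
      have := mul_mem (mul_mem (h1 a) (h2 a))
        (show (a ^ 2) ^ 2 ∈ pw T 2 from ⟨a, by simp [← pow_mul]⟩)
      rwa [mul_mul_mul_comm, ← mul_inv, ← pow_two, inv_mul_cancel_right] at this
    refine hy (h.coset_fix hT ?_)
    rw [show y⁻¹ * σ y = (y * y)⁻¹ * (y * σ y) by group]
    exact mul_mem (inv_mem (hsq y)) hprod
  have hD2 : ∀ y (a : T), disp T y a ^ 2 = 1 :=
    hh.sq_eq_one_of_mod_four (fun y => disp T y) (disp_sq hsq) hN4
  have hD1 : ∀ y {b : T}, b ∈ pw T 1 → disp T y b = 1 := by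
    rintro y _ ⟨c, rfl⟩
    show disp T y (c ^ 2 ^ 1) = 1
    rw [pow_one, map_pow, hD2]
  have hE1 : ∀ {b : T}, b ^ 2 = 1 → b ∈ pw T 1 := fun hb =>
    pw_antitone hn1 (hh.inv_mem_top hb)
  have hadd : ∀ y y' : P, sqIn T hsq (y * y') ^ 2 ^ n =
      sqIn T hsq y ^ 2 ^ n * sqIn T hsq y' ^ 2 ^ n := fun y y' => by
    have hk4 : (kk y y' ^ 2) ^ 2 = 1 := by
      have := congrArg (· ^ 2) (disp_sqIn hsq y y' (kk y y') rfl)
      simpa [mul_pow, hD2, eq_comm] using this
    have e : ∀ w : T, w ^ 2 = 1 → w ^ 2 ^ n = 1 := fun w hw => by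
      rw [show 2 ^ n = 2 * 2 ^ (n - 1) by rw [← pow_succ', show n - 1 + 1 = n by omega],
        pow_mul, hw, one_pow]
    have e4 : kk y y' ^ 2 ^ n = 1 := by
      rw [show 2 ^ n = 2 * 2 * 2 ^ (n - 2) by
        rw [mul_assoc, ← pow_succ', ← pow_succ', show n - 2 + 1 + 1 = n by omega],
        pow_mul, pow_mul, hk4, one_pow]
    rw [mul_sq_eq hsq y y' (kk y y') rfl, mul_pow, mul_pow, mul_pow, e4, e _ (hD2 _ _),
      one_mul, one_mul]
  have hinj : ∀ y : P, sqIn T hsq y ^ 2 ^ n = 1 → y ∈ T := by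
    intro y hy
    obtain ⟨a, ha⟩ := hh.mem_sq_iff.mp hy
    simp only [powMonoidHom_apply, pow_one] at ha
    obtain ⟨c, hc⟩ := hh.inv_mem_top (hD2 y a)
    simp only [powMonoidHom_apply] at hc
    set b := c ^ 2 ^ (n - 1) with hb
    have hbb : b ^ 2 = disp T y a := by
      rw [hb, ← pow_mul, ← pow_succ, show n - 1 + 1 = n by omega, hc]
    have hbpw : b ∈ pw T 1 := pw_antitone (show 1 ≤ n - 1 by omega) ⟨c, rfl⟩
    set w := a⁻¹ * b with hw
    have hzero : sqIn T hsq y * (w ^ 2 * disp T y w) = 1 := by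
      rw [← ha, hw, mul_pow, inv_pow, map_mul, map_inv, hD1 y hbpw, mul_one, hbb,
        mul_assoc _ (disp T y a), mul_inv_cancel, mul_one, mul_inv_cancel]
    have h2 : (y * (w : P)) * (y * (w : P)) = 1 := by
      have e1 : MulAut.conjNormal y w * (sqIn T hsq y * w) = 1 := by
        rw [conj_eq_mul_disp]
        refine Eq.trans ?_ hzero
        rw [pow_two]
        simp [mul_comm, mul_left_comm, mul_assoc]
      have e2 := congrArg Subtype.val e1
      simp only [sqIn, Subgroup.coe_mul, MulAut.conjNormal_apply] at e2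
      calc y * (w : P) * (y * (w : P)) = y * (w : P) * y⁻¹ * (y * y * (w : P)) := by group
        _ = 1 := e2
    have := mul_mem (hinvolT h2) (inv_mem w.2)
    rwa [mul_inv_cancel_right] at this
  have hsqmul : ∀ w w' : P, ∀ y, disp T y (sqIn T hsq (w * w')) =
      disp T y (sqIn T hsq w) * disp T y (sqIn T hsq w') := fun w w' y => by
    have e := hadd w w'
    have hm : sqIn T hsq (w * w') * (sqIn T hsq w * sqIn T hsq w')⁻¹ ∈ pw T 1 :=
      hh.mem_sq_iff.mp (by rw [mul_pow, inv_pow, mul_pow, ← e, mul_inv_cancel])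
    have := hD1 y hm
    rwa [map_mul, map_inv, mul_inv_eq_one, map_mul] at this
  obtain ⟨hF, hsur⟩ := form_eq_one h hh hTne hsq hadd hinj
    (fun y w => disp T y (sqIn T hsq w)) (fun y w => hD2 _ _)
    (fun y y' w => by rw [disp_mul, hD1 y (hE1 (hD2 _ _)), mul_one])
    (fun y w w' => hsqmul w w' y)
    (fun y hy w => disp_of_mem hy _)
    (fun w hw y => hD1 y ⟨⟨w, hw⟩, Subtype.ext (by simp [sqIn, pow_two])⟩)
    (fun y w => by rw [disp_equivariant, sqIn_equivariant])
    (fun y => by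
      refine mul_eq_left.mp ((conj_eq_mul_disp y _).symm.trans (Subtype.ext ?_))
      simp [MulAut.conjNormal_apply, sqIn, mul_assoc])
  intro y a
  obtain ⟨w, hw⟩ := hsur a
  have := hD1 y (hh.mem_sq_iff.mp hw)
  rwa [map_mul, map_inv, hF y w, inv_one, one_mul] at this

theorem center_sq_eq_one_aux : ∀ N : ℕ, ∀ (P : Type u) [Group P] [Finite P], Nat.card P = N →
    ∀ σ : MulAut P, TwoHyp P σ → (∃ x y : P, x * y ≠ y * x) →
      ∀ z ∈ Subgroup.center P, z * z = 1 := by
  intro N
  induction N using Nat.strong_induction_on with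
  | _ N ih => ?_
  intro P _ _ hN σ h hnc
  by_contra hcon
  push Not at hcon
  obtain ⟨z₀, hz₀, hz₀2⟩ := hcon
  haveI : Fact (Nat.Prime 2) := ⟨Nat.prime_two⟩
  have hZne : Subgroup.center P ≠ ⊤ := fun e => by
    obtain ⟨x, y, hxy⟩ := hnc
    exact hxy (Subgroup.mem_center_iff.mp (e.symm ▸ Subgroup.mem_top y) x)
  -- a maximal invariant proper subgroup containing the centre and the Frattini subgroup
  let Good : Set (Subgroup P) :=
    {S | (∀ x ∈ S, σ x ∈ S) ∧ Subgroup.center P ⊔ frattini P ≤ S ∧ S ≠ ⊤}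
  obtain ⟨T, ⟨hT, hle, hTne⟩, hmax⟩ := (Set.toFinite Good).exists_maximal
    ⟨Subgroup.center P ⊔ frattini P,
      sup_invariant (center_invariant σ) (char_invariant σ _), le_rfl,
      fun e => hZne (frattini_nongenerating e)⟩
  have hZT : Subgroup.center P ≤ T := le_sup_left.trans hle
  have hΦT : frattini P ≤ T := le_sup_right.trans hle
  have hcomT : commutator P ≤ T := (PGroups.commutator_le_frattini h.pgroup).trans hΦT
  have hsq : ∀ y : P, y * y ∈ T := fun y => hΦT (pow_two y ▸ PGroups.pow_mem_frattini h.pgroup y)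
  haveI hTn : T.Normal := ⟨fun t ht g => by
    have : g * t * g⁻¹ = ⁅g, t⁆ * t := by rw [commutatorElement_def]; group
    rw [this]
    exact mul_mem (hcomT (Subgroup.commutator_mem_commutator (Subgroup.mem_top g)
      (Subgroup.mem_top t))) ht⟩
  have hTbot : T ≠ ⊥ := fun e => hz₀2 (by
    have := hZT hz₀; rw [e, Subgroup.mem_bot] at this; rw [this, one_mul])
  haveI : IsMulCommutative T := by
    by_contra hc
    have hc' : ∃ x y : T, x * y ≠ y * x := by
      by_contra hh
      push Not at hh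
      exact hc ⟨⟨hh⟩⟩
    refine hz₀2 ?_
    have hcard : Nat.card T < N := hN ▸ lt_of_le_of_ne (Subgroup.card_le_card_group T)
      (fun e => hTne (Subgroup.eq_top_of_card_eq T e))
    have h1 := ih _ hcard T rfl _ (h.restrict hT hTbot) hc' ⟨z₀, hZT hz₀⟩
      (Subgroup.mem_center_iff.mpr fun t => Subtype.ext (Subgroup.mem_center_iff.mp hz₀ t))
    exact congrArg Subtype.val h1
  obtain ⟨n, hh⟩ := exists_homo h hT hTbot
  set τ := restrictAut σ T hT with hτ
  have hn1 : 1 ≤ n := by
    by_contra hn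
    have e := hh.exp ⟨z₀, hZT hz₀⟩
    rw [show n = 0 by omega] at e
    exact hz₀2 (by simpa [pow_two] using congrArg Subtype.val e)
  have hinvolT : ∀ {w : P}, w * w = 1 → w ∈ T := fun hw => h.invol_mem hT hTbot hw
  let kk : P → P → T := fun y y' => ⟨y' * y * y'⁻¹ * y⁻¹, hcomT (by
    rw [show y' * y * y'⁻¹ * y⁻¹ = ⁅y', y⁆ from (commutatorElement_def y' y).symm]
    exact Subgroup.commutator_mem_commutator (Subgroup.mem_top _) (Subgroup.mem_top _))⟩
  by_cases hcentral : ∀ y a, disp T y a = 1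
  · -- `T` is central
    have hconj : ∀ (y : P) (a : T), y * (a : P) * y⁻¹ = a := fun y a => by
      have := congrArg Subtype.val (conj_eq_mul_disp y a)
      rwa [MulAut.conjNormal_apply, hcentral, mul_one] at this
    have hk2 : ∀ y y', kk y y' ^ 2 = 1 := fun y y' => by
      have := disp_sqIn hsq y y' (kk y y') rfl
      rwa [hcentral, hcentral, mul_one, eq_comm] at this
    have hadd : ∀ y y' : P, sqIn T hsq (y * y') ^ 2 ^ n =
        sqIn T hsq y ^ 2 ^ n * sqIn T hsq y' ^ 2 ^ n := fun y y' => by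
      rw [mul_sq_eq hsq y y' (kk y y') rfl, hcentral, mul_one, mul_pow, mul_pow,
        show kk y y' ^ 2 ^ n = 1 by
          rw [show 2 ^ n = 2 * 2 ^ (n - 1) by rw [← pow_succ', show n - 1 + 1 = n by omega],
            pow_mul, hk2, one_pow], one_mul]
    have hinj : ∀ y : P, sqIn T hsq y ^ 2 ^ n = 1 → y ∈ T := by
      intro y hy
      obtain ⟨a, ha⟩ := hh.mem_sq_iff.mp hy
      have e : (a : P) * a = y * y := by
        have := congrArg Subtype.val ha
        simpa [sqIn, pow_two] using this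
      have hc : y * (a : P) = a * y := mul_inv_eq_iff_eq_mul.mp (hconj y a)
      have h2 : (y * (a : P)⁻¹) * (y * (a : P)⁻¹) = 1 := by
        have hc' : (a : P)⁻¹ * y = y * (a : P)⁻¹ := by
          rw [inv_mul_eq_iff_eq_mul, ← mul_assoc, ← hc, mul_inv_cancel_right]
        calc y * (a : P)⁻¹ * (y * (a : P)⁻¹) = y * ((a : P)⁻¹ * y) * (a : P)⁻¹ := by group
          _ = (y * y) * ((a : P) * a)⁻¹ := by rw [hc']; group
          _ = 1 := by rw [e, mul_inv_cancel]
      have := mul_mem (hinvolT h2) a.2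
      rwa [inv_mul_cancel_right] at this
    obtain ⟨hF, -⟩ := form_eq_one h hh hTne hsq hadd hinj (fun y w => kk w y)
      (fun y w => hk2 w y)
      (fun y y' w => Subtype.ext <| by
        show y * y' * w * (y * y')⁻¹ * w⁻¹ = y * w * y⁻¹ * w⁻¹ * (y' * w * y'⁻¹ * w⁻¹)
        have := hconj y (kk w y')
        calc y * y' * w * (y * y')⁻¹ * w⁻¹
            = y * (y' * w * y'⁻¹ * w⁻¹) * y⁻¹ * (y * w * y⁻¹ * w⁻¹) := by group
          _ = y' * w * y'⁻¹ * w⁻¹ * (y * w * y⁻¹ * w⁻¹) := by rw [this]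
          _ = _ := congrArg Subtype.val (mul_comm (kk w y') (kk w y)))
      (fun y w w' => Subtype.ext <| by
        show y * (w * w') * y⁻¹ * (w * w')⁻¹ = y * w * y⁻¹ * w⁻¹ * (y * w' * y⁻¹ * w'⁻¹)
        have := hconj w (kk w' y)
        calc y * (w * w') * y⁻¹ * (w * w')⁻¹
            = y * w * y⁻¹ * w⁻¹ * (w * (y * w' * y⁻¹ * w'⁻¹) * w⁻¹) := by group
          _ = _ := by rw [this])
      (fun y hy w => Subtype.ext <| by
        show y * w * y⁻¹ * w⁻¹ = 1
        have h3 := hconj w ⟨y⁻¹, inv_mem hy⟩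
        rw [show y * w * y⁻¹ * w⁻¹ = y * (w * y⁻¹ * w⁻¹) by group, h3, mul_inv_cancel])
      (fun w hw y => Subtype.ext <| by
        show y * w * y⁻¹ * w⁻¹ = 1
        have h3 := hconj y ⟨w, hw⟩
        rw [h3, mul_inv_cancel])
      (fun y w => Subtype.ext <| by simp [restrictAut_apply, kk])
      (fun y => Subtype.ext <| by simp [kk])
    obtain ⟨x, y, hxy⟩ := hnc
    have h4 : x * y * x⁻¹ * y⁻¹ = 1 := congrArg Subtype.val (hF x y)
    exact hxy (by rwa [mul_inv_eq_one, mul_inv_eq_iff_eq_mul] at h4)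
  · -- `T` is not central
    have hTZ : (Subgroup.center P).subgroupOf T ≠ ⊤ := by
      intro e
      refine hcentral fun y a => ?_
      have ha : (a : P) ∈ Subgroup.center P :=
        Subgroup.mem_subgroupOf.mp (e.symm ▸ Subgroup.mem_top a)
      refine mul_eq_left.mp ((conj_eq_mul_disp y a).symm.trans (Subtype.ext ?_))
      rw [MulAut.conjNormal_apply, Subgroup.mem_center_iff.mp ha y, mul_inv_cancel_right]
    have hZsq : (⟨z₀, hZT hz₀⟩ : T) ∈ pw T 1 := hh.not_le_sq
      (S := (Subgroup.center P).subgroupOf T)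
      (fun x hx => Subgroup.mem_subgroupOf.mpr (by
        rw [restrictAut_apply]; exact center_invariant σ _ (Subgroup.mem_subgroupOf.mp hx)))
      hTZ (Subgroup.mem_subgroupOf.mpr hz₀)
    have hn : 2 ≤ n := by
      by_contra hn
      obtain ⟨a, ha⟩ := hZsq
      have e := hh.exp a
      rw [show n = 1 by omega] at e
      refine hz₀2 ?_
      have e2 : (⟨z₀, hZT hz₀⟩ : T) ^ 2 = 1 := by
        rw [← ha]; show (a ^ 2 ^ 1) ^ 2 = 1
        rw [← pow_mul]; exact e
      simpa [pow_two] using congrArg Subtype.val e2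
    exact hcentral (abelian_core h hT hle hTne hTbot hmax hcomT hsq hh hn)

theorem center_sq_eq_one {σ : MulAut P} (h : TwoHyp P σ) (hnc : ∃ x y : P, x * y ≠ y * x) :
    ∀ z ∈ Subgroup.center P, z * z = 1 :=
  center_sq_eq_one_aux _ P rfl σ h hnc

theorem invol_iff_central {σ : MulAut P} (h : TwoHyp P σ) (hnc : ∃ x y : P, x * y ≠ y * x)
    (x : P) : (x ≠ 1 ∧ x * x = 1) ↔ (x ∈ Subgroup.center P ∧ x ≠ 1) := by
  refine ⟨fun ⟨h1, h2⟩ => ⟨?_, h1⟩, fun ⟨h1, h2⟩ => ⟨h2, center_sq_eq_one h hnc x h1⟩⟩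
  haveI : Fact (Nat.Prime 2) := ⟨Nat.prime_two⟩
  haveI : Nontrivial P := ⟨x, 1, h1⟩
  haveI : Nontrivial (Subgroup.center P) := h.pgroup.center_nontrivial
  exact h.invol_mem (center_invariant σ) (Subgroup.nontrivial_iff_ne_bot _ |>.mp inferInstance) h2

theorem twoHyp_of_suzuki {P : Type u} [Group P] (hP : IsSuzukiTwoGroup P) :
    ∃ σ : MulAut P, TwoHyp P σ ∧ (∀ x : P, x ≠ 1 → x * x = 1 →
      ∀ i j : ℕ, (σ ^ i) x = (σ ^ j) x → σ ^ i = σ ^ j) := by
  classical
  obtain ⟨hfin, hp, hnc, ⟨u, v, huv, hu1, hu2, hv1, hv2⟩, K, hK, hreg⟩ := hP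
  haveI := hfin
  have := Fintype.ofFinite P
  haveI : Finite (MulAut P) := Finite.of_injective (fun f : MulAut P => (f : P → P)) DFunLike.coe_injective
  obtain ⟨g, hg⟩ := hK.exists_generator
  have hgen : ∀ k : K, ∃ i : ℕ, g ^ i = k := fun k =>
    (mem_powers_iff_mem_zpowers.mpr (hg k))
  have htr : ∀ x y : P, x ≠ 1 → x * x = 1 → y ≠ 1 → y * y = 1 →
      ∃ i : ℕ, ((g : MulAut P) ^ i) x = y := by
    intro x y h1 h2 h3 h4
    obtain ⟨k, hk, -⟩ := hreg x y h1 h2 h3 h4
    obtain ⟨i, rfl⟩ := hgen k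
    exact ⟨i, by simpa using hk⟩
  refine ⟨g, ⟨hp, htr, ?_, u, v, huv, hu1, hu2, hv1, hv2⟩, fun x h1 h2 i j hij => ?_⟩
  · refine ⟨Nat.card {x : P // x ≠ 1 ∧ x * x = 1}, ?_, ?_⟩
    · -- the number of involutions is odd
      haveI : Fact (Nat.Prime 2) := ⟨Nat.prime_two⟩
      have hdvd : 2 ∣ Fintype.card P := by
        rw [← Nat.card_eq_fintype_card, ← orderOf_eq_prime (x := u) (p := 2) (by rw [pow_two, hu2]) hu1]
        exact orderOf_dvd_natCard u
      have hev : Even (Finset.univ.filter fun x : P => x * x ≠ 1).card := by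
        rw [Finset.card_eq_sum_ones, Nat.even_iff,
          ← ZMod.natCast_eq_zero_iff_even.trans Nat.even_iff, Nat.cast_sum]
        refine Finset.sum_involution (fun x _ => x⁻¹) (fun _ _ => by simp only [Nat.cast_one]; rfl) ?_ ?_
          (fun x _ => inv_inv x)
        · intro x hx _ e
          have := (Finset.mem_filter.mp hx).2
          exact this (by nth_rewrite 1 [← e]; exact inv_mul_cancel x)
        · intro x hx
          have := (Finset.mem_filter.mp hx).2
          exact Finset.mem_filter.mpr ⟨Finset.mem_univ _, fun e => this (by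
            have := congrArg (·⁻¹) e; simpa using this)⟩
      have hsplit := Finset.card_filter_add_card_filter_not (s := (Finset.univ : Finset P))
        (fun x : P => x * x ≠ 1)
      have hinv : Nat.card {x : P // x ≠ 1 ∧ x * x = 1} + 1 =
          (Finset.univ.filter fun x : P => ¬ (x * x ≠ 1)).card := by
        rw [← Finset.card_erase_add_one (a := (1 : P)) (by simp), Nat.card_eq_fintype_card,
          Fintype.card_subtype]
        congr 1
        refine congrArg Finset.card ?_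
        ext x
        simp
      rw [Finset.card_univ] at hsplit
      rw [Nat.odd_iff]
      obtain ⟨c, hc⟩ := hdvd
      obtain ⟨d, hd⟩ := hev
      omega
    · -- the generator has that order
      have hcard : Nat.card K = Nat.card {x : P // x ≠ 1 ∧ x * x = 1} := by
        refine Nat.card_congr (Equiv.ofBijective
          (fun k : K => (⟨(k : MulAut P) u, by simp [hu1], by rw [← map_mul, hu2, map_one]⟩ :
            {x : P // x ≠ 1 ∧ x * x = 1})) ⟨fun k k' e => ?_, fun y => ?_⟩)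
        · obtain ⟨w, -, huniq⟩ := hreg u ((k : MulAut P) u) hu1 hu2 (by simp [hu1])
            (by rw [← map_mul, hu2, map_one])
          exact (huniq k rfl).trans (huniq k' (congrArg Subtype.val e).symm).symm
        · obtain ⟨k, hk, -⟩ := hreg u y hu1 hu2 y.2.1 y.2.2
          exact ⟨k, Subtype.ext hk⟩
      rw [← hcard]
      have : g ^ Nat.card K = 1 := pow_card_eq_one'
      exact congrArg Subtype.val this
  · have e := congrArg (fun z : P => z) hij
    obtain ⟨w, -, huniq⟩ := hreg x (((g : MulAut P) ^ i) x) h1 h2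
      (by simp [h1]) (by rw [← map_mul, h2, map_one])
    have := (huniq (g ^ i) (by simp)).trans (huniq (g ^ j) (by simpa using hij.symm)).symm
    simpa using congrArg Subtype.val this

end Cfsg.Agent.H38
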