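import Mathlib

/-! Over `F₂`, an anisotropic quadratic map into an `n`-dimensional space lives on a space of
dimension at most `2n` (Chevalley–Warning). -/

set_option autoImplicit false

namespace Cfsg.Agent.H38

open MvPolynomial

theorem anisotropic_finrank_le {V W : Type*} [AddCommGroup V] [AddCommGroup W] [Module (ZMod 2) V]
    [Module (ZMod 2) W] [Module.Finite (ZMod 2) V] [Module.Finite (ZMod 2) W]
    (Q : QuadraticMap (ZMod 2) V W) (haniso : ∀ v, Q v = 0 → v = 0) :
    Module.finrank (ZMod 2) V ≤ 2 * Module.finrank (ZMod 2) W := by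
  classical
  haveI : Fact (Nat.Prime 2) := ⟨Nat.prime_two⟩
  let bV := Module.finBasis (ZMod 2) V
  let bW := Module.finBasis (ZMod 2) W
  let β := Q.toBilin bV
  have hβ : ∀ v, β v v = Q v := fun v => by
    conv_rhs => rw [← QuadraticMap.toQuadraticMap_toBilin Q bV]
    rw [LinearMap.BilinMap.toQuadraticMap_apply]
  let f : Fin (Module.finrank (ZMod 2) W) → MvPolynomial (Fin (Module.finrank (ZMod 2) V)) (ZMod 2) :=
    fun k => ∑ i, ∑ j, C (bW.repr (β (bV i) (bV j)) k) * X i * X j
  have hdeg : ∀ k, (f k).totalDegree ≤ 2 := fun k => by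
    refine (totalDegree_finset_sum _ _).trans (Finset.sup_le fun i _ => ?_)
    refine (totalDegree_finset_sum _ _).trans (Finset.sup_le fun j _ => ?_)
    refine (totalDegree_mul _ _).trans ?_
    refine (Nat.add_le_add (totalDegree_mul _ _) le_rfl).trans ?_
    simp [totalDegree_C, totalDegree_X]
  by_contra hlt
  push Not at hlt
  have hsum : (∑ k : Fin (Module.finrank (ZMod 2) W), (f k).totalDegree) <
      Fintype.card (Fin (Module.finrank (ZMod 2) V)) := by
    refine lt_of_le_of_lt (Finset.sum_le_sum (g := fun _ => 2) fun k _ => hdeg k) ?_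
    simpa [mul_comm] using hlt
  have hdvd := char_dvd_card_solutions_of_sum_lt (p := 2) (s := Finset.univ) hsum
  have heval : ∀ (x : Fin (Module.finrank (ZMod 2) V) → ZMod 2) k,
      eval x (f k) = bW.repr (Q (∑ i, x i • bV i)) k := fun x k => by
    rw [← hβ]
    simp only [f, map_sum, LinearMap.sum_apply, map_smul, LinearMap.smul_apply, Finsupp.coe_finset_sum,
      Finset.sum_apply, Finsupp.coe_smul, Pi.smul_apply, smul_eq_mul, map_mul, eval_C, eval_X,
      Finset.mul_sum]
    rw [Finset.sum_comm]
    exact Finset.sum_congr rfl fun i _ => Finset.sum_congr rfl fun j _ => by ring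
  have hone : Fintype.card {x : Fin (Module.finrank (ZMod 2) V) → ZMod 2 //
      ∀ k ∈ Finset.univ, eval x (f k) = 0} = 1 := by
    refine Fintype.card_eq_one_iff.mpr ⟨⟨0, fun k _ => by rw [heval]; simp⟩, fun y => Subtype.ext ?_⟩
    have h0 : Q (∑ i, y.1 i • bV i) = 0 := bW.repr.injective (Finsupp.ext fun k => by
      rw [← heval, y.2 k (Finset.mem_univ k), map_zero, Finsupp.zero_apply])
    funext i
    have h1 := congrArg (fun v => bV.repr v i) (haniso _ h0)
    simp only [Module.Basis.repr_sum_self, map_zero, Finsupp.zero_apply] at h1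
    exact h1
  rw [Fintype.card_eq_nat_card] at hdvd hone
  rw [hone] at hdvd
  exact absurd (Nat.le_of_dvd one_pos hdvd) (by norm_num)

end Cfsg.Agent.H38
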