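import Cfsg.Agent.H38.SuzukiMain
import Cfsg.Agent.H38.QuadBound

/-! The order of a Suzuki 2-group. -/

set_option autoImplicit false

namespace Cfsg.Agent.H38

open scoped IsMulCommutative

universe u

theorem card_quot_le {P : Type u} [Group P] [Finite P] {σ : MulAut P} (h : TwoHyp P σ)
    (hnc : ∃ x y : P, x * y ≠ y * x) {n m : ℕ} (hn : Nat.card (Subgroup.center P) = 2 ^ n)
    (hm : Nat.card (P ⧸ Subgroup.center P) = 2 ^ m) : m ≤ 2 * n := by
  classical
  set Z := Subgroup.center P with hZdef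
  have hZ2 : ∀ z ∈ Z, z * z = 1 := center_sq_eq_one h hnc
  have hsq : ∀ p : P, p * p ∈ Z := sq_mem_center h hnc
  have hcomm : ∀ p p' : P, p * p' * p⁻¹ * p'⁻¹ ∈ Z := class_two h hnc
  letI : CommGroup (P ⧸ Z) :=
    { (inferInstance : Group (P ⧸ Z)) with
      mul_comm := fun a b => by
        obtain ⟨x, rfl⟩ := QuotientGroup.mk_surjective a
        obtain ⟨y, rfl⟩ := QuotientGroup.mk_surjective b
        rw [← QuotientGroup.mk_mul, ← QuotientGroup.mk_mul, QuotientGroup.eq]
        have := hcomm y⁻¹ x⁻¹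
        simpa [mul_assoc] using this }
  letI : Module (ZMod 2) (Additive (P ⧸ Z)) := AddCommGroup.zmodModule fun a => by
    obtain ⟨p, hp⟩ := QuotientGroup.mk_surjective (Additive.toMul a)
    rw [two_nsmul]
    show Additive.ofMul (Additive.toMul a * Additive.toMul a) = _
    rw [← hp, ← QuotientGroup.mk_mul, (QuotientGroup.eq_one_iff _).mpr (hsq p)]
    rfl
  letI : Module (ZMod 2) (Additive Z) := AddCommGroup.zmodModule fun a => by
    rw [two_nsmul]
    exact congrArg Additive.ofMul (Subtype.ext (hZ2 _ (Additive.toMul a).2))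
  let s : P ⧸ Z → Z := fun x => ⟨x.out * x.out, hsq _⟩
  have hs : ∀ p : P, (s (p : P ⧸ Z) : P) = p * p := fun p => by
    obtain ⟨w, hw⟩ := QuotientGroup.mk_out_eq_mul Z p
    show (p : P ⧸ Z).out * (p : P ⧸ Z).out = p * p
    rw [hw, show p * (w : P) * (p * w) = p * ((w : P) * p) * w by group,
      ← Subgroup.mem_center_iff.mp w.2 p, ← mul_assoc, mul_assoc (p * p), hZ2 _ w.2, mul_one]
  let cm : P → P → Z := fun p p' => ⟨p' * p * p'⁻¹ * p⁻¹, hcomm p' p⟩
  have hmul : ∀ p p' : P, s ((p : P ⧸ Z) * p') = cm p p' * s p * s p' := fun p p' => by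
    refine Subtype.ext ?_
    rw [← QuotientGroup.mk_mul, hs, Subgroup.coe_mul, Subgroup.coe_mul, hs, hs]
    show p * p' * (p * p') = p' * p * p'⁻¹ * p⁻¹ * (p * p) * (p' * p')
    have hc := Subgroup.mem_center_iff.mp (hcomm p' p) p
    calc p * p' * (p * p') = p * (p' * p * p'⁻¹ * p⁻¹) * p * p' * p' := by group
      _ = (p' * p * p'⁻¹ * p⁻¹) * p * p * p' * p' := by rw [hc]
      _ = _ := by group
  have hcm : ∀ p p' r : P, cm (p * p') r = cm p r * cm p' r := fun p p' r => by
    refine Subtype.ext ?_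
    show r * (p * p') * r⁻¹ * (p * p')⁻¹ = r * p * r⁻¹ * p⁻¹ * (r * p' * r⁻¹ * p'⁻¹)
    have hc := Subgroup.mem_center_iff.mp (hcomm r p') p
    calc r * (p * p') * r⁻¹ * (p * p')⁻¹
        = r * p * r⁻¹ * p⁻¹ * (p * (r * p' * r⁻¹ * p'⁻¹) * p⁻¹) := by group
      _ = _ := by rw [hc, mul_inv_cancel_right]
  let q : Additive (P ⧸ Z) → Additive Z := fun a => Additive.ofMul (s (Additive.toMul a))
  have hq0 : q 0 = 0 := congrArg Additive.ofMul (Subtype.ext (by
    rw [toMul_zero, ← QuotientGroup.mk_one, hs]; simp))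
  have h2 : ∀ a : Additive Z, a + a = 0 := fun a => by
    rw [← two_nsmul, ← Nat.cast_smul_eq_nsmul (ZMod 2), show ((2 : ℕ) : ZMod 2) = 0 by decide,
      zero_smul]
  have hpolar : ∀ p r : P, QuadraticMap.polar q (Additive.ofMul (p : P ⧸ Z))
      (Additive.ofMul (r : P ⧸ Z)) = Additive.ofMul (cm p r) := fun p r => by
    show Additive.ofMul (s ((p : P ⧸ Z) * r)) - Additive.ofMul (s p) - Additive.ofMul (s r) = _
    rw [hmul, ofMul_mul, ofMul_mul]
    abel
  have hzero : ∀ y, QuadraticMap.polar q 0 y = 0 := fun y => by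
    simp [QuadraticMap.polar, hq0]
  let Q : QuadraticMap (ZMod 2) (Additive (P ⧸ Z)) (Additive Z) := QuadraticMap.ofPolar q
    (fun a x => by
      rcases (by decide : ∀ r : ZMod 2, r = 0 ∨ r = 1) a with rfl | rfl
      · simp [hq0]
      · simp)
    (fun x x' y => by
      obtain ⟨p, hp⟩ := QuotientGroup.mk_surjective (Additive.toMul x)
      obtain ⟨p', hp'⟩ := QuotientGroup.mk_surjective (Additive.toMul x')
      obtain ⟨r, hr⟩ := QuotientGroup.mk_surjective (Additive.toMul y)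
      obtain rfl : x = Additive.ofMul (p : P ⧸ Z) := by rw [hp]; rfl
      obtain rfl : x' = Additive.ofMul (p' : P ⧸ Z) := by rw [hp']; rfl
      obtain rfl : y = Additive.ofMul (r : P ⧸ Z) := by rw [hr]; rfl
      rw [← ofMul_mul, ← QuotientGroup.mk_mul, hpolar, hpolar, hpolar, hcm, ofMul_mul])
    (fun a x y => by
      rcases (by decide : ∀ r : ZMod 2, r = 0 ∨ r = 1) a with rfl | rfl
      · rw [zero_smul, zero_smul, hzero]
      · rw [one_smul, one_smul])
  have haniso : ∀ v, Q v = 0 → v = 0 := fun v hv => by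
    obtain ⟨p, hp⟩ := QuotientGroup.mk_surjective (Additive.toMul v)
    have h1 : s (Additive.toMul v) = 1 := congrArg Additive.toMul hv
    rw [← hp] at h1
    have h3 : p * p = 1 := by rw [← hs, h1]; rfl
    have h4 : p ∈ Z := by
      by_cases hp1 : p = 1
      · exact hp1 ▸ one_mem Z
      · exact ((invol_iff_central h hnc p).mp ⟨hp1, h3⟩).1
    apply Additive.toMul.injective
    rw [← hp, (QuotientGroup.eq_one_iff p).mpr h4]
    rfl
  haveI : Fact (Nat.Prime 2) := ⟨Nat.prime_two⟩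
  have hb := anisotropic_finrank_le Q haniso
  have hV := Module.natCard_eq_pow_finrank (K := ZMod 2) (V := Additive (P ⧸ Z))
  have hW := Module.natCard_eq_pow_finrank (K := ZMod 2) (V := Additive Z)
  rw [Nat.card_zmod, Nat.card_congr Additive.toMul] at hV hW
  rw [hV] at hm
  rw [hW] at hn
  rw [← Nat.pow_right_injective le_rfl hm, ← Nat.pow_right_injective le_rfl hn]
  exact hb

theorem card_dichotomy {P : Type u} [Group P] [Finite P] {σ : MulAut P} (h : TwoHyp P σ)
    (hreg : ∀ x : P, x ≠ 1 → x * x = 1 → ∀ i j : ℕ, (σ ^ i) x = (σ ^ j) x → σ ^ i = σ ^ j)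
    (hnc : ∃ x y : P, x * y ≠ y * x) :
    Nat.card P = Nat.card (Subgroup.center P) ^ 2 ∨ Nat.card P = Nat.card (Subgroup.center P) ^ 3 := by
  classical
  haveI : Fact (Nat.Prime 2) := ⟨Nat.prime_two⟩
  set Z := Subgroup.center P with hZdef
  have hZ2 : ∀ z ∈ Z, z * z = 1 := center_sq_eq_one h hnc
  obtain ⟨u₀, v₀, huv, hu1, hu2, -, -⟩ := h.two
  obtain ⟨n, hn⟩ := IsPGroup.iff_card.mp (h.pgroup.to_subgroup Z)
  obtain ⟨m, hm⟩ := IsPGroup.iff_card.mp (h.pgroup.to_quotient Z)
  have hle := card_quot_le h hnc hn hm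
  have hn0 : 1 ≤ n := by
    by_contra hn0
    rw [show n = 0 by omega, pow_zero] at hn
    exact hu1 (Subgroup.mem_bot.mp
      ((Subgroup.card_eq_one.mp hn) ▸ ((invol_iff_central h hnc u₀).mp ⟨hu1, hu2⟩).1))
  have hm0 : 1 ≤ m := by
    by_contra hm0
    rw [show m = 0 by omega, pow_zero] at hm
    obtain ⟨x, y, hxy⟩ := hnc
    have ht : Z = ⊤ := Subgroup.index_eq_one.mp hm
    exact hxy (Subgroup.mem_center_iff.mp (by rw [show Subgroup.center P = ⊤ from ht]; trivial) x)
  -- the powers of `σ` act freely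
  haveI : Finite (MulAut P) :=
    Finite.of_injective (fun f : MulAut P => (f : P → P)) DFunLike.coe_injective
  let K := Subgroup.zpowers σ
  have hKpow : ∀ k : K, ∃ i : ℕ, σ ^ i = (k : MulAut P) := fun k =>
    mem_powers_iff_mem_zpowers.mpr k.2
  let X := {x : P // x ≠ 1}
  letI : MulAction K X :=
    { smul := fun k x => ⟨(k : MulAut P) x.1, fun q => x.2 ((MulEquiv.map_eq_one_iff _).mp q)⟩
      one_smul := fun x => Subtype.ext rfl
      mul_smul := fun k k' x => Subtype.ext rfl }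
  have hfree : ∀ x : X, MulAction.stabilizer K x = ⊥ := fun x => by
    refine (Subgroup.eq_bot_iff_forall _).mpr fun k hk => ?_
    obtain ⟨i, hi⟩ := hKpow k
    obtain ⟨j, hj1, hj2⟩ := h.exists_pow_invol x.2
    have hkx : (σ ^ i) x.1 = x.1 := by rw [hi]; exact congrArg Subtype.val hk
    have := hreg _ hj1 hj2 i 0 (by rw [map_pow, hkx]; simp)
    exact Subtype.ext (by rw [← hi, this, pow_zero]; rfl)
  have hcardK : Nat.card K = 2 ^ n - 1 := by
    have e : K ≃ {z : Z // z ≠ 1} := Equiv.ofBijective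
      (fun k => ⟨⟨(k : MulAut P) u₀, ((invol_iff_central h hnc _).mp
        ⟨by simpa using hu1, by rw [← map_mul, hu2, map_one]⟩).1⟩,
        fun q => hu1 ((MulEquiv.map_eq_one_iff _).mp (congrArg Subtype.val q))⟩)
      ⟨fun k k' q => by
        obtain ⟨i, hi⟩ := hKpow k
        obtain ⟨j, hj⟩ := hKpow k'
        have q' : (k : MulAut P) u₀ = (k' : MulAut P) u₀ :=
          congrArg (fun z : {z : Z // z ≠ 1} => ((z.1 : Z) : P)) q
        rw [← hi, ← hj] at q'
        exact Subtype.ext (by rw [← hi, ← hj]; exact hreg u₀ hu1 hu2 i j q'),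
      fun z => by
        obtain ⟨i, hi⟩ := h.trans u₀ z.1 hu1 hu2 (fun q => z.2 (Subtype.ext q)) (hZ2 _ z.1.2)
        exact ⟨⟨σ ^ i, Subgroup.npow_mem_zpowers σ i⟩, Subtype.ext (Subtype.ext hi)⟩⟩
    have := Fintype.ofFinite Z
    rw [Nat.card_congr e, Nat.card_eq_fintype_card, Fintype.card_subtype_compl,
      Fintype.card_subtype_eq, ← Nat.card_eq_fintype_card, hn]
  have hdvd : 2 ^ n - 1 ∣ 2 ^ (m + n) - 1 := by
    have hcardX : Nat.card X = 2 ^ (m + n) - 1 := by
      have := Fintype.ofFinite P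
      have hP : Nat.card P = 2 ^ (m + n) := by
        rw [Z.card_eq_card_quotient_mul_card_subgroup, hm, hn, pow_add]
      rw [Nat.card_eq_fintype_card, Fintype.card_subtype_compl, Fintype.card_subtype_eq,
        ← Nat.card_eq_fintype_card, hP]
    refine ⟨Nat.card (Quotient (MulAction.orbitRel K X)), ?_⟩
    rw [← hcardX, ← hcardK, Nat.card_congr (MulAction.selfEquivOrbitsQuotientProd hfree),
      Nat.card_prod, mul_comm]
  have hgcd := Nat.pow_sub_one_gcd_pow_sub_one 2 n (m + n)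
  rw [Nat.gcd_eq_left hdvd] at hgcd
  have h1 : 2 ^ n = 2 ^ Nat.gcd n (m + n) := by
    have := Nat.one_le_two_pow (n := n)
    have := Nat.one_le_two_pow (n := Nat.gcd n (m + n))
    omega
  have h2 := Nat.pow_right_injective le_rfl h1
  rw [Nat.gcd_add_self_right] at h2
  obtain ⟨c, rfl⟩ : n ∣ m := h2.symm ▸ Nat.gcd_dvd_right n m
  have hc : c = 1 ∨ c = 2 := by
    have h3 : c ≤ 2 := Nat.le_of_mul_le_mul_left (hle.trans_eq (mul_comm 2 n)) hn0
    rcases Nat.eq_zero_or_pos c with rfl | hc0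
    · simp at hm0
    · omega
  rw [Z.card_eq_card_quotient_mul_card_subgroup, hm, hn]
  rcases hc with rfl | rfl
  · exact Or.inl (by ring)
  · exact Or.inr (by ring)

theorem exponent_four {P : Type u} [Group P] [Finite P] {σ : MulAut P} (h : TwoHyp P σ)
    (hnc : ∃ x y : P, x * y ≠ y * x) : Monoid.exponent P = 4 := by
  have h4 : Monoid.exponent P ∣ 2 ^ 2 := Monoid.exponent_dvd_of_forall_pow_eq_one fun x => by
    have := center_sq_eq_one h hnc _ (sq_mem_center h hnc x)
    simpa [pow_succ, mul_assoc] using this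
  obtain ⟨k, hk, hk2⟩ := (Nat.dvd_prime_pow Nat.prime_two).mp h4
  interval_cases k
  · exfalso
    obtain ⟨x, y, hxy⟩ := hnc
    have := Monoid.pow_exponent_eq_one x
    rw [hk2, pow_zero, pow_one] at this
    exact hxy (by simp [this])
  · exfalso
    obtain ⟨x, y, hxy⟩ := hnc
    refine hxy ?_
    have e : ∀ z : P, z * z = 1 := fun z => by
      have := Monoid.pow_exponent_eq_one z
      rw [hk2, pow_one, pow_two] at this
      exact this
    calc x * y = x⁻¹ * y⁻¹ := by
          rw [inv_eq_of_mul_eq_one_right (e x), inv_eq_of_mul_eq_one_right (e y)]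
      _ = (y * x)⁻¹ := (mul_inv_rev y x).symm
      _ = y * x := inv_eq_of_mul_eq_one_right (e _)
  · rw [hk2]; norm_num

end Cfsg.Agent.H38
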