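import Cfsg.Agent.H38.Odd

/-! An involution acting on a subgroup of odd order: `X = C_X(t) · invertedBy X t`. -/

set_option autoImplicit false

namespace Cfsg.Agent.H38

variable {G : Type*} [Group G]

lemma exists_unique_decomp {t : G} (ht : t * t = 1) {X : Subgroup G} (hodd : Odd (Nat.card X))
    (hnorm : ∀ x ∈ X, t * x * t⁻¹ ∈ X) {x : G} (hx : x ∈ X) :
    ∃! p : G × G, p.1 ∈ X ⊓ Subgroup.centralizer {t} ∧ p.2 ∈ invertedBy X t ∧ x = p.1 * p.2 := by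
  set w := (t * x * t⁻¹)⁻¹ * x with hw
  have hwX : w ∈ X := mul_mem (inv_mem (hnorm x hx)) hx
  have hwt : t * w * t⁻¹ = w⁻¹ := by
    have e : t * (t * x * t⁻¹) * t⁻¹ = x := by
      rw [show t * (t * x * t⁻¹) * t⁻¹ = t * t * x * (t * t)⁻¹ by group, ht]; group
    rw [hw, ← conj_mul, ← conj_inv, e, mul_inv_rev, inv_inv]
  set z := rt X w with hz
  have hzX : z ∈ X := rt_mem hwX
  have hzz : z * z = w := rt_mul_self hodd hwX
  have hzt : t * z * t⁻¹ = z⁻¹ := by rw [hz, conj_rt, hwt, rt_inv]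
  refine ⟨(x * z⁻¹, z), ⟨Subgroup.mem_inf.mpr ⟨mul_mem hx (inv_mem hzX),
    Subgroup.mem_centralizer_singleton_iff.mpr ?_⟩, ⟨hzX, hzt⟩, (inv_mul_cancel_right x z).symm⟩,
    ?_⟩
  · show x * z⁻¹ * t = t * (x * z⁻¹)
    have h1 : t * x * t⁻¹ * w = x := by rw [hw]; group
    have h2 : t * (x * z⁻¹) * t⁻¹ = x * z⁻¹ := by
      rw [show t * (x * z⁻¹) * t⁻¹ = t * x * t⁻¹ * (t * z * t⁻¹)⁻¹ by group, hzt, inv_inv]
      rw [eq_mul_inv_iff_mul_eq, mul_assoc, hzz, h1]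
    exact (mul_inv_eq_iff_eq_mul.mp h2).symm
  · rintro ⟨y, u⟩ ⟨⟨hy, hyt⟩, ⟨hu, hut⟩, rfl⟩
    have hyt' : y * t = t * y := Subgroup.mem_centralizer_singleton_iff.mp hyt
    have h3 : t * y * t⁻¹ = y := by rw [← hyt', mul_inv_cancel_right]
    have h4 : w = u * u := by
      rw [hw, ← conj_mul, h3, hut, mul_inv_rev, inv_inv]; group
    have : z = u := by rw [hz, h4, rt_of_sq hodd hu]
    simp [this]

lemma card_decomp {t : G} (ht : t * t = 1) {X : Subgroup G} (hodd : Odd (Nat.card X))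
    (hnorm : ∀ x ∈ X, t * x * t⁻¹ ∈ X) :
    Nat.card X = Nat.card ↥(X ⊓ Subgroup.centralizer {t}) * Nat.card (invertedBy X t) := by
  rw [← Nat.card_prod]
  refine (Nat.card_congr (Equiv.ofBijective
    (fun p : ↥(X ⊓ Subgroup.centralizer {t}) × invertedBy X t =>
      (⟨(p.1 : G) * p.2, mul_mem p.1.2.1 p.2.2.1⟩ : X)) ⟨?_, ?_⟩)).symm
  · rintro ⟨⟨y, hy⟩, ⟨z, hz⟩⟩ ⟨⟨y', hy'⟩, ⟨z', hz'⟩⟩ h
    have hx : y * z ∈ X := mul_mem hy.1 hz.1
    obtain ⟨p, -, hu⟩ := exists_unique_decomp ht hodd hnorm hx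
    have e1 := hu (y, z) ⟨hy, hz, rfl⟩
    have e2 := hu (y', z') ⟨hy', hz', congrArg Subtype.val h⟩
    have e := e1.trans e2.symm
    simp only [Prod.mk.injEq] at e
    obtain ⟨rfl, rfl⟩ := e
    rfl
  · rintro ⟨x, hx⟩
    obtain ⟨p, ⟨h1, h2, h3⟩, -⟩ := exists_unique_decomp ht hodd hnorm hx
    exact ⟨(⟨p.1, h1⟩, ⟨p.2, h2⟩), Subtype.ext h3.symm⟩

lemma closure_inverted_conj {t : G} (ht : t * t = 1) {X : Subgroup G} (hodd : Odd (Nat.card X))
    (hnorm : ∀ x ∈ X, t * x * t⁻¹ ∈ X) {x c : G} (hx : x ∈ X)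
    (hc : c ∈ Subgroup.closure (invertedBy X t)) :
    x * c * x⁻¹ ∈ Subgroup.closure (invertedBy X t) := by
  obtain ⟨⟨y, z⟩, ⟨⟨hy, hyt⟩, hz, rfl⟩, -⟩ := exists_unique_decomp ht hodd hnorm hx
  have hzc : z * c * z⁻¹ ∈ Subgroup.closure (invertedBy X t) :=
    mul_mem (mul_mem (Subgroup.subset_closure hz) hc) (inv_mem (Subgroup.subset_closure hz))
  have key : ∀ c' ∈ Subgroup.closure (invertedBy X t),
      y * c' * y⁻¹ ∈ Subgroup.closure (invertedBy X t) := by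
    intro c' hc'
    induction hc' using Subgroup.closure_induction with
    | mem v hv =>
      refine Subgroup.subset_closure ⟨mul_mem (mul_mem hy hv.1) (inv_mem hy), ?_⟩
      have hyt' : y * t = t * y := Subgroup.mem_centralizer_singleton_iff.mp hyt
      have h3 : t * y * t⁻¹ = y := by rw [← hyt', mul_inv_cancel_right]
      rw [show t * (y * v * y⁻¹) * t⁻¹ = t * y * t⁻¹ * (t * v * t⁻¹) * (t * y * t⁻¹)⁻¹ by group,
        h3, hv.2]
      group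
    | one => rw [mul_one, mul_inv_cancel]; exact one_mem _
    | mul u v _ _ iu iv => rw [← conj_mul]; exact mul_mem iu iv
    | inv u _ iu => rw [← conj_inv]; exact inv_mem iu
  rw [show y * z * c * (y * z)⁻¹ = y * (z * c * z⁻¹) * y⁻¹ by group]
  exact key _ hzc

end Cfsg.Agent.H38
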