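import Cfsg.Agent.H38.RankOne
import Cfsg.Agent.H38.Invert

/-! Centralisers of subsets of the two-point stabiliser in the rank-one set-up. -/

set_option autoImplicit false

namespace Cfsg.Agent.H38

open MulAction

variable {G Ω : Type*} [Group G] [MulAction G Ω] {a : Ω} {t : G} {Q : Subgroup G}

/-- The fixed points of a subset of `G`. -/
def fixPts (Ω : Type*) [MulAction G Ω] (X : Set G) : Set Ω := {c | ∀ x ∈ X, x • c = c}

lemma smul_mem_fixPts {X : Set G} {g : G} (hg : g ∈ Subgroup.centralizer X) {c : Ω}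
    (hc : c ∈ fixPts Ω X) : g • c ∈ fixPts Ω X := fun x hx => by
  rw [← mul_smul, Subgroup.mem_centralizer_iff.mp hg x hx, mul_smul, hc x hx]

lemma base_mem_fixPts {X : Set G} (hX : X ⊆ (stabilizer G a ⊓ stabilizer G (t • a) : Set G)) :
    a ∈ fixPts Ω X ∧ t • a ∈ fixPts Ω X :=
  ⟨fun _ hx => (hX hx).1, fun _ hx => (hX hx).2⟩

lemma commute_of_conj_fixed (hS : IsRankOneSetup G Ω a t Q) {x q : G}
    (hx : x ∈ stabilizer G a ⊓ stabilizer G (t • a)) (hq : q ∈ Q)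
    (h : x • (q • (t • a)) = q • (t • a)) : x * q = q * x := by
  have h1 : (x * q * x⁻¹) • (t • a) = q • (t • a) := by
    rw [mul_smul, mul_smul, inv_smul_eq_iff.mpr (mem_D_iff.mp hx).2.symm, h]
  have := Q_inj_base hS (hS.conj_mem x hx.1 q hq) hq h1
  exact mul_inv_eq_iff_eq_mul.mp this

/-- `C_Q(X)` is transitive on the fixed points of `X` other than `a`. -/
lemma exists_CQ (hS : IsRankOneSetup G Ω a t Q) {X : Set G}
    (hX : X ⊆ (stabilizer G a ⊓ stabilizer G (t • a) : Set G)) {c : Ω} (hc : c ∈ fixPts Ω X)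
    (hca : c ≠ a) : ∃ q, q ∈ Subgroup.centralizer X ⊓ Q ∧ q • (t • a) = c := by
  obtain ⟨q, hq, rfl⟩ := exists_Q hS hca
  exact ⟨q, ⟨Subgroup.mem_centralizer_iff.mpr
    fun x hx => commute_of_conj_fixed hS (hX hx) hq (hc x hx), hq⟩, rfl⟩

lemma exists_CQ' (hS : IsRankOneSetup G Ω a t Q) {X : Set G}
    (hX : X ⊆ (stabilizer G a ⊓ stabilizer G (t • a) : Set G)) {c : Ω} (hc : c ∈ fixPts Ω X)
    (hcb : c ≠ t • a) : ∃ g ∈ Subgroup.centralizer X, g • (t • a) = t • a ∧ g • a = c := by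
  set Y : Set G := (fun x => t * x * t⁻¹) '' X
  have hY : Y ⊆ (stabilizer G a ⊓ stabilizer G (t • a) : Set G) := by
    rintro _ ⟨x, hx, rfl⟩
    exact t_mem_normalizer_D hS (hX hx)
  have hcY : t • c ∈ fixPts Ω Y := by
    rintro _ ⟨x, hx, rfl⟩
    rw [t_inv hS, mul_smul, mul_smul, t_smul_t_smul hS, hc x hx]
  have hne : t • c ≠ a := fun h => hcb (by rw [← h, t_smul_t_smul hS])
  obtain ⟨q, ⟨hq, hqQ⟩, hqc⟩ := exists_CQ hS hY hcY hne
  refine ⟨t * q * t, ?_, ?_, ?_⟩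
  · rw [Subgroup.mem_centralizer_iff]
    intro x hx
    have := Subgroup.mem_centralizer_iff.mp hq (t * x * t⁻¹) ⟨x, hx, rfl⟩
    have := congrArg (fun z => t * z * t) this
    simpa [t_inv hS, mul_assoc, hS.mul_self, ← mul_assoc t t] using this
  · rw [mul_smul, t_smul_t_smul hS, mul_smul, Q_fix hS hqQ]
  · rw [mul_smul, mul_smul, hqc, t_smul_t_smul hS]

lemma trans_pairs (hS : IsRankOneSetup G Ω a t Q) {X : Set G}
    (hX : X ⊆ (stabilizer G a ⊓ stabilizer G (t • a) : Set G))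
    (h3 : ∃ c ∈ fixPts Ω X, c ≠ a ∧ c ≠ t • a) {b₁ b₂ : Ω} (h1 : b₁ ∈ fixPts Ω X)
    (h2 : b₂ ∈ fixPts Ω X) (hne : b₁ ≠ b₂) :
    ∃ g ∈ Subgroup.centralizer X, g • b₁ = a ∧ g • b₂ = t • a := by
  have step : ∀ c ∈ fixPts Ω X, c ≠ t • a →
      ∃ g ∈ Subgroup.centralizer X, g • c = a := by
    intro c hc hcb
    obtain ⟨g, hg, -, hga⟩ := exists_CQ' hS hX hc hcb
    exact ⟨g⁻¹, inv_mem hg, by rw [← hga, inv_smul_smul]⟩
  obtain ⟨g₁, hg₁, hg₁a⟩ : ∃ g ∈ Subgroup.centralizer X, g • b₁ = a := by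
    by_cases hb : b₁ = t • a
    · obtain ⟨c, hc, hca, hcb⟩ := h3
      obtain ⟨q, ⟨hq, hqQ⟩, hqc⟩ := exists_CQ hS hX hc hca
      obtain ⟨g, hg, hga⟩ := step c hc hcb
      exact ⟨g * q, mul_mem hg hq, by rw [hb, mul_smul, hqc, hga]⟩
    · exact step b₁ h1 hb
  have hne' : g₁ • b₂ ≠ a := fun h => hne (smul_left_cancel g₁ (hg₁a.trans h.symm))
  obtain ⟨q, ⟨hq, hqQ⟩, hqc⟩ := exists_CQ hS hX (smul_mem_fixPts hg₁ h2) hne'
  refine ⟨q⁻¹ * g₁, mul_mem (inv_mem hq) hg₁, ?_, ?_⟩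
  · rw [mul_smul, hg₁a, Q_fix hS (inv_mem hqQ)]
  · rw [mul_smul, ← hqc, inv_smul_smul]

lemma swap_invol [Finite G] (hS : IsRankOneSetup G Ω a t Q) {g : G} (h1 : g • a = t • a)
    (h2 : g • (t • a) = a) :
    ∃ k : ℕ, (g ^ k) * (g ^ k) = 1 ∧ (g ^ k) • a = t • a := by
  have hg2 : g * g ∈ stabilizer G a ⊓ stabilizer G (t • a) :=
    mem_D_iff.mpr ⟨by rw [mul_smul, h1, h2], by rw [mul_smul, h2, h1]⟩
  refine ⟨Nat.card ↥(stabilizer G a ⊓ stabilizer G (t • a)), ?_, ?_⟩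
  · rw [← (Commute.refl g).mul_pow, pow_natCard_eq_one hg2]
  · obtain ⟨j, hj⟩ := hS.odd_card
    rw [hj, pow_succ, pow_mul, pow_two, mul_smul, h1]
    have : (g * g) ^ j ∈ stabilizer G a ⊓ stabilizer G (t • a) := pow_mem hg2 j
    exact (mem_D_iff.mp this).2

/-- An involution centralising `X` interchanges `a` and `t • a`. -/
lemma exists_invol_cent [Finite G] (hS : IsRankOneSetup G Ω a t Q) {X : Set G}
    (hX : X ⊆ (stabilizer G a ⊓ stabilizer G (t • a) : Set G))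
    (h3 : ∃ c ∈ fixPts Ω X, c ≠ a ∧ c ≠ t • a) :
    ∃ w ∈ Subgroup.centralizer X, w * w = 1 ∧ w • a = t • a := by
  obtain ⟨ha, hb⟩ := base_mem_fixPts hX
  obtain ⟨g, hg, hg1, hg2⟩ := trans_pairs hS hX h3 hb ha (t_smul_ne hS)
  obtain ⟨k, hk1, hk2⟩ := swap_invol hS hg2 hg1
  exact ⟨g ^ k, pow_mem hg k, hk1, hk2⟩

/-- A subset of `D` fixing a third point is `D`-conjugate into `C_D(t)`. -/
lemma exists_conj_into_C [Finite G] (hS : IsRankOneSetup G Ω a t Q) {X : Set G}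
    (hX : X ⊆ (stabilizer G a ⊓ stabilizer G (t • a) : Set G))
    (h3 : ∃ c ∈ fixPts Ω X, c ≠ a ∧ c ≠ t • a) :
    ∃ k ∈ stabilizer G a ⊓ stabilizer G (t • a),
      ∀ x ∈ X, (k * x * k⁻¹) * t = t * (k * x * k⁻¹) := by
  obtain ⟨w, hw, hw2, hwa⟩ := exists_invol_cent hS hX h3
  obtain ⟨hkD, hki⟩ := (t_mul_invol_iff hS).mp ⟨hw2, hwa⟩
  set k := t * w with hk
  have hwk : w = t * k := by rw [hk, ← mul_assoc, hS.mul_self, one_mul]
  set l := rt (stabilizer G a ⊓ stabilizer G (t • a)) k with hl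
  have hlD := rt_mem (X := stabilizer G a ⊓ stabilizer G (t • a)) hkD
  have hll := rt_mul_self hS.odd_card hkD
  have hlt : t * l * t⁻¹ = l⁻¹ := by rw [hl, conj_rt, hki, rt_inv]
  have h1 : t * l = l⁻¹ * t := by rw [← hlt, inv_mul_cancel_right]
  have h2 : l * w * l⁻¹ = t := by
    rw [hwk, ← hll]
    rw [show l * (t * (l * l)) * l⁻¹ = l * (t * l) by group, h1, ← mul_assoc, mul_inv_cancel,
      one_mul]
  refine ⟨l, hlD, fun x hx => ?_⟩
  rw [← h2]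
  simp only [mul_assoc, inv_mul_cancel_left]
  rw [← mul_assoc x w, Subgroup.mem_centralizer_iff.mp hw x hx, mul_assoc]

/-- A non-identity element of `D` inverted by `t` fixes only `a` and `t • a`. -/
lemma inverted_fix [Finite G] (hS : IsRankOneSetup G Ω a t Q) {x : G}
    (hx : x ∈ invertedBy (stabilizer G a ⊓ stabilizer G (t • a)) t) (hx1 : x ≠ 1) {c : Ω}
    (hc : x • c = c) : c = a ∨ c = t • a := by
  by_contra hne
  rw [not_or] at hne
  apply hx1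
  have hX : ({x} : Set G) ⊆ (stabilizer G a ⊓ stabilizer G (t • a) : Set G) := by
    rw [Set.singleton_subset_iff]; exact hx.1
  obtain ⟨d, hd, hdx⟩ := exists_conj_into_C hS hX
    ⟨c, by intro y hy; rw [Set.mem_singleton_iff] at hy; rw [hy]; exact hc, hne.1, hne.2⟩
  have h1 := hdx x rfl
  set d' := t * d * t⁻¹ with hd'
  have h2 : d * x * d⁻¹ = d' * x⁻¹ * d'⁻¹ := by
    rw [hd', ← hx.2, show t * d * t⁻¹ * (t * x * t⁻¹) * (t * d * t⁻¹)⁻¹ =
      t * (d * x * d⁻¹) * t⁻¹ by group, ← h1, mul_inv_cancel_right]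
  refine eq_one_of_conj_eq_inv hS.odd_card hx.1 (d := d'⁻¹ * d)
    (mul_mem (inv_mem (t_mem_normalizer_D hS hd)) hd) ?_
  rw [show d'⁻¹ * d * x * (d'⁻¹ * d)⁻¹ = d'⁻¹ * (d * x * d⁻¹) * d' by group, h2]
  group

lemma inverted_fpf [Finite G] (hS : IsRankOneSetup G Ω a t Q) {x : G}
    (hx : x ∈ invertedBy (stabilizer G a ⊓ stabilizer G (t • a)) t) (hx1 : x ≠ 1) :
    Q ⊓ Subgroup.centralizer {x} = ⊥ := by
  rw [Subgroup.eq_bot_iff_forall]
  rintro q ⟨hq, hqx'⟩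
  have hqx : q * x = x * q := Subgroup.mem_centralizer_singleton_iff.mp hqx'
  have hfix : x • (q • (t • a)) = q • (t • a) := by
    rw [← mul_smul, ← hqx, mul_smul, (mem_D_iff.mp hx.1).2]
  rcases inverted_fix hS hx hx1 hfix with h | h
  · have : q • (t • a) = q • a := h.trans (Q_fix hS hq).symm
    exact absurd (smul_left_cancel _ this) (t_smul_ne hS)
  · exact eq_one_of_fix_base hS hq h

/-- Subsets of `C_D(t)` conjugate in `G` are conjugate in `C_D(t)`. -/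
lemma fusion_in_V [Finite G] (hS : IsRankOneSetup G Ω a t Q) {X : Set G}
    (hX : X ⊆ ((stabilizer G a ⊓ stabilizer G (t • a)) ⊓ Subgroup.centralizer {t} : Subgroup G))
    (g : G) (hY : (fun x => g * x * g⁻¹) '' X ⊆
      ((stabilizer G a ⊓ stabilizer G (t • a)) ⊓ Subgroup.centralizer {t} : Subgroup G)) :
    ∃ v ∈ (stabilizer G a ⊓ stabilizer G (t • a)) ⊓ Subgroup.centralizer {t},
      ∀ x ∈ X, v * x * v⁻¹ = g * x * g⁻¹ := by
  set Y := (fun x => g * x * g⁻¹) '' X with hYdef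
  have hXD : X ⊆ (stabilizer G a ⊓ stabilizer G (t • a) : Set G) := fun x hx => (hX hx).1
  have hYD : Y ⊆ (stabilizer G a ⊓ stabilizer G (t • a) : Set G) := fun y hy => (hY hy).1
  obtain ⟨c, hc⟩ := exists_fix hS hS.mul_self
  have hca : c ≠ a := fun h => t_smul_ne hS (h ▸ hc)
  have hcb : c ≠ t • a := fun h => by
    rw [h, t_smul_t_smul hS] at hc
    exact t_smul_ne hS hc.symm
  have h3 : ∀ Z : Set G, Z ⊆ ((stabilizer G a ⊓ stabilizer G (t • a)) ⊓ Subgroup.centralizer {t} :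
      Subgroup G) → ∃ d ∈ fixPts Ω Z, d ≠ a ∧ d ≠ t • a :=
    fun Z hZ => ⟨c, fun z hz => commute_fix hS hS.ne_one hS.mul_self
      (Subgroup.mem_centralizer_singleton_iff.mp (hZ hz).2) hc, hca, hcb⟩
  have hfix : ∀ p ∈ fixPts Ω X, g • p ∈ fixPts Ω Y := by
    rintro p hp _ ⟨x, hx, rfl⟩
    rw [mul_smul, mul_smul, inv_smul_smul, hp x hx]
  obtain ⟨ha, hb⟩ := base_mem_fixPts hXD
  obtain ⟨e, he, hea, heb⟩ := trans_pairs hS hYD (h3 Y hY) (hfix _ ha) (hfix _ hb)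
    (fun h => t_smul_ne hS (smul_left_cancel g h).symm)
  set d := e * g with hd
  have hdD : d ∈ stabilizer G a ⊓ stabilizer G (t • a) :=
    mem_D_iff.mpr ⟨by rw [mul_smul, hea], by rw [mul_smul, heb]⟩
  have hdx : ∀ x ∈ X, d * x * d⁻¹ = g * x * g⁻¹ := by
    intro x hx
    rw [hd, show e * g * x * (e * g)⁻¹ = e * (g * x * g⁻¹) * e⁻¹ by group]
    rw [← Subgroup.mem_centralizer_iff.mp he _ ⟨x, hx, rfl⟩, mul_inv_cancel_right]
  obtain ⟨⟨v, k⟩, ⟨hv, hk, hdk⟩, -⟩ :=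
    exists_unique_decomp hS.mul_self hS.odd_card (fun _ h => t_mem_normalizer_D hS h) hdD
  simp only at hv hk hdk
  refine ⟨v, hv, fun x hx => ?_⟩
  have tc : ∀ {y : G}, y * t = t * y → t * y * t⁻¹ = y := fun h => by
    rw [← h, mul_inv_cancel_right]
  have htv : t * v * t⁻¹ = v := tc (Subgroup.mem_centralizer_singleton_iff.mp hv.2)
  have htx : t * x * t⁻¹ = x := tc (Subgroup.mem_centralizer_singleton_iff.mp (hX hx).2)
  have hty : t * (d * x * d⁻¹) * t⁻¹ = d * x * d⁻¹ :=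
    tc (Subgroup.mem_centralizer_singleton_iff.mp (by rw [hdx x hx]; exact (hY ⟨x, hx, rfl⟩).2))
  have e1 : k⁻¹ * x * k = k * x * k⁻¹ := by
    have e2 : t * (v * k * x * (v * k)⁻¹) * t⁻¹ =
        (t * v * t⁻¹) * (t * k * t⁻¹) * (t * x * t⁻¹) * (t * k * t⁻¹)⁻¹ * (t * v * t⁻¹)⁻¹ := by
      group
    rw [hdk, e2, htv, htx, hk.2, inv_inv] at hty
    have := congrArg (fun z => v⁻¹ * z * v) hty
    simpa [mul_assoc] using this
  have hc2 : Commute (k * k) x := by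
    have := congrArg (fun z => k * z * k) e1
    simp only [← mul_assoc, mul_inv_cancel, one_mul] at this
    show k * k * x = x * (k * k)
    simpa [mul_assoc] using this.symm
  have hck := commute_of_commute_sq hS.odd_card hk.1 hc2
  rw [← hdx x hx, hdk, show v * k * x * (v * k)⁻¹ = v * (k * x * k⁻¹) * v⁻¹ by group, hck.eq,
    mul_inv_cancel_right]

end Cfsg.Agent.H38
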