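import Cfsg.Agent.H38.EquivForm

/-! An elementary abelian 2-group with a transitive automorphism is a finite field, the automorphism
being multiplication by a generator of the multiplicative group. -/

set_option autoImplicit false

namespace Cfsg.Agent.H38

universe u

theorem exists_field_coords {E : Type u} [CommGroup E] [Finite E] [Nontrivial E]
    (h2 : ∀ x : E, x * x = 1) (σ : MulAut E)
    (htr : ∀ u v : E, u ≠ 1 → v ≠ 1 → ∃ i : ℕ, (σ ^ i) u = v) :
    ∃ n : ℕ, 1 ≤ n ∧ Nat.card E = 2 ^ n ∧ ∃ (e : E ≃ GaloisField 2 n) (lam : GaloisField 2 n),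
      (∀ u v, e (u * v) = e u + e v) ∧ (∀ x, e (σ x) = lam * e x) ∧
        ∀ a : GaloisField 2 n, a ≠ 0 → ∃ i : ℕ, lam ^ i = a := by
  classical
  obtain ⟨e₀, he₀⟩ := exists_ne (1 : E)
  choose op hop hope using exists_equivariant htr he₀
  have huniq : ∀ {r s : E →* E}, (∀ x, r (σ x) = σ (r x)) → (∀ x, s (σ x) = σ (s x)) →
      r e₀ = s e₀ → ∀ x, r x = s x := by
    intro r s hr hs h x
    by_cases hx : x = 1
    · simp [hx]
    obtain ⟨i, rfl⟩ := htr e₀ x he₀ hx
    clear hx
    induction i with
    | zero => simpa using h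
    | succ i ih => rw [pow_succ', MulAut.mul_apply, hr, hs, ih]
  have hcomp : ∀ u v x, op (op u v) x = op u (op v x) := fun u v x =>
    huniq (hop _) (s := (op u).comp (op v)) (fun y => by simp [hop])
      (by simp [hope]) x
  have hcomm : ∀ u v, op u v = op v u := by
    intro u v
    have h1 : ∀ x, op u (op v x) = op v (op u x) := fun x => by
      rcases equivariant_cases htr (hop u) with hu | ⟨i, hu⟩
      · simp [hu]
      rcases equivariant_cases htr (hop v) with hv | ⟨j, hv⟩
      · simp [hv]
      simp only [hu, hv]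
      rw [← MulAut.mul_apply, ← MulAut.mul_apply, ← pow_add, ← pow_add, Nat.add_comm]
    have h3 := h1 e₀
    rwa [hope, hope] at h3
  have hadd : ∀ u v x, op (u * v) x = op u x * op v x := fun u v x =>
    huniq (hop _) (s := op u * op v) (fun y => by simp [hop]) (by simp [hope]) x
  have hone : ∀ x, op e₀ x = x := fun x =>
    huniq (hop _) (s := MonoidHom.id E) (fun y => rfl) (by simp [hope]) x
  letI instM : Mul (Additive E) :=
    ⟨fun a b => Additive.ofMul (op (Additive.toMul a) (Additive.toMul b))⟩
  letI instO : One (Additive E) := ⟨Additive.ofMul e₀⟩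
  letI instR : CommRing (Additive E) :=
    { (inferInstance : AddCommGroup (Additive E)), instM, instO with
      left_distrib := fun a b c => congrArg Additive.ofMul (map_mul (op _) _ _)
      right_distrib := fun a b c => congrArg Additive.ofMul (hadd _ _ _)
      zero_mul := fun a => congrArg Additive.ofMul (by
        show op 1 (Additive.toMul a) = 1
        exact mul_eq_left.mp (by rw [← hadd, one_mul]))
      mul_zero := fun a => congrArg Additive.ofMul (map_one (op _))
      mul_assoc := fun a b c => congrArg Additive.ofMul (hcomp _ _ _)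
      one_mul := fun a => congrArg Additive.ofMul (hone _)
      mul_one := fun a => congrArg Additive.ofMul (hope _)
      mul_comm := fun a b => congrArg Additive.ofMul (hcomm _ _) }
  have hfield : IsField (Additive E) := by
    refine ⟨⟨0, Additive.ofMul e₀, fun h => he₀ (congrArg Additive.toMul h).symm⟩,
      mul_comm, fun {a} ha => ?_⟩
    have ha' : Additive.toMul a ≠ 1 := fun h => ha (congrArg Additive.ofMul h)
    rcases equivariant_cases htr (hop (Additive.toMul a)) with h | ⟨i, h⟩
    · exact absurd ((hope _).symm.trans (h e₀)) ha'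
    · refine ⟨Additive.ofMul ((σ ^ i).symm e₀), congrArg Additive.ofMul ?_⟩
      show op (Additive.toMul a) ((σ ^ i).symm e₀) = e₀
      rw [h, MulEquiv.apply_symm_apply]
  letI : Field (Additive E) := hfield.toField
  haveI : Finite (Additive E) := ‹Finite E›
  obtain ⟨n, hn⟩ : ∃ n : ℕ, Nat.card E = 2 ^ n :=
    (IsPGroup.iff_card (p := 2)).mp (fun x => ⟨1, by rw [pow_one, pow_two]; exact h2 x⟩)
  have hn0 : n ≠ 0 := fun h => by
    rw [h, pow_zero] at hn
    exact absurd hn Finite.one_lt_card.ne'
  haveI : Fintype (Additive E) := Fintype.ofFinite _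
  haveI : Fintype (GaloisField 2 n) := Fintype.ofFinite _
  have hcard : Fintype.card (Additive E) = Fintype.card (GaloisField 2 n) := by
    rw [← Nat.card_eq_fintype_card, ← Nat.card_eq_fintype_card, GaloisField.card 2 n hn0, ← hn]
    rfl
  let φ : Additive E ≃+* GaloisField 2 n := FiniteField.ringEquivOfCardEq hcard
  let ee : E ≃ GaloisField 2 n := Additive.ofMul.trans φ.toEquiv
  let lam := φ (Additive.ofMul (σ e₀))
  have hlin : ∀ x, ee (σ x) = lam * ee x := by
    intro x
    show φ (Additive.ofMul (σ x)) = φ (Additive.ofMul (σ e₀)) * φ (Additive.ofMul x)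
    rw [← map_mul]
    refine congrArg φ (congrArg Additive.ofMul ?_)
    show σ x = op (σ e₀) x
    exact (huniq (hop _) (s := σ.toMonoidHom) (fun _ => rfl) (by simp [hope]) x).symm
  refine ⟨n, Nat.one_le_iff_ne_zero.mpr hn0, hn, ee, lam, fun u v => ?_, hlin, fun a ha => ?_⟩
  · exact map_add φ (Additive.ofMul u) (Additive.ofMul v)
  · have hsy : ee.symm a ≠ 1 := fun h => ha (by
      rw [← ee.apply_symm_apply a, h]; exact map_zero φ)
    obtain ⟨i, hi⟩ := htr e₀ (ee.symm a) he₀ hsy
    refine ⟨i, ?_⟩
    rw [← ee.apply_symm_apply a, ← hi]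
    clear hi
    induction i with
    | zero =>
      rw [pow_zero, pow_zero, MulAut.one_apply]
      exact (map_one φ).symm
    | succ i ih => rw [pow_succ', pow_succ', MulAut.mul_apply, hlin, ih]

end Cfsg.Agent.H38
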