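import Mathlib

/-! Additive endomorphisms, biadditive and quadratic maps of a finite field of characteristic two. -/

set_option autoImplicit false

namespace Cfsg.Agent.H38

variable {F : Type*} [Field F]

lemma zmod_two_cases : ∀ r : ZMod 2, r = 0 ∨ r = 1 := by decide

lemma autos_linearIndependent :
    LinearIndependent F (fun σ : F ≃+* F => ((σ : F →+* F) : F → F)) := by
  have h := (linearIndependent_monoidHom F F).comp
    (fun σ : F ≃+* F => ((σ : F →+* F) : F →* F))
    (fun σ τ h => RingEquiv.ext fun x => by simpa using DFunLike.congr_fun h x)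
  exact h

lemma autos_coeff_unique [Fintype (F ≃+* F)] {c c' : (F ≃+* F) → F}
    (h : ∀ x : F, ∑ σ, c σ * σ x = ∑ σ, c' σ * σ x) : c = c' := by
  have hli := Fintype.linearIndependent_iff.mp (autos_linearIndependent (F := F))
  funext σ
  refine sub_eq_zero.mp (hli (fun τ => c τ - c' τ) ?_ σ)
  funext x
  simp [Finset.sum_apply, sub_mul, Finset.sum_sub_distrib, h x]

variable [Fintype F] [Fintype (F ≃+* F)] [CharP F 2]

lemma additive_eq_sum (f : F →+ F) :
    ∃ c : (F ≃+* F) → F, ∀ x : F, f x = ∑ σ, c σ * σ x := by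
  haveI : Fact (Nat.Prime 2) := ⟨Nat.prime_two⟩
  letI : Algebra (ZMod 2) F := ZMod.algebra F 2
  let e : (F ≃+* F) ≃ (F ≃ₐ[ZMod 2] F) :=
    { toFun := fun σ => AlgEquiv.ofRingEquiv (f := σ) fun r => by
        obtain ⟨n, rfl⟩ : ∃ n : ℕ, (n : ZMod 2) = r := ⟨r.val, ZMod.natCast_zmod_val r⟩
        simp
      invFun := fun σ => σ.toRingEquiv
      left_inv := fun σ => rfl
      right_inv := fun σ => rfl }
  let v : (F ≃+* F) → (F →ₗ[ZMod 2] F) := fun σ => σ.toAddMonoidHom.toZModLinearMap 2
  have hv : LinearIndependent F v := by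
    rw [Fintype.linearIndependent_iff]
    intro c hc σ
    have := autos_coeff_unique (c := c) (c' := 0) fun x => by
      have := LinearMap.congr_fun hc x
      simpa [v, LinearMap.sum_apply] using this
    exact congrFun this σ
  have hspan := hv.span_eq_top_of_card_eq_finrank (by
    rw [Module.finrank_linearMap_self, ← Nat.card_eq_fintype_card, Nat.card_congr e]
    exact IsGalois.card_aut_eq_finrank _ _)
  obtain ⟨c, hc⟩ := (Submodule.mem_span_range_iff_exists_fun F).mp
    (hspan ▸ Submodule.mem_top : (f.toZModLinearMap 2 : F →ₗ[ZMod 2] F) ∈ Submodule.span F (Set.range v))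
  refine ⟨c, fun x => ?_⟩
  have := LinearMap.congr_fun hc x
  simpa [v, LinearMap.sum_apply] using this.symm

lemma biadditive_eq_sum (B : F →+ F →+ F) :
    ∃ c : (F ≃+* F) × (F ≃+* F) → F, ∀ x y : F, B x y = ∑ p, c p * (p.1 x * p.2 y) := by
  choose d hd using fun x => additive_eq_sum (B x)
  have hadd : ∀ x x', d (x + x') = d x + d x' := fun x x' => autos_coeff_unique fun y => by
    rw [← hd, map_add, AddMonoidHom.add_apply, hd, hd]
    simp [add_mul, Finset.sum_add_distrib]
  choose c hc using fun σ : F ≃+* F => additive_eq_sum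
    (AddMonoidHom.mk' (fun x => d x σ) fun x x' => congrFun (hadd x x') σ)
  refine ⟨fun p => c p.2 p.1, fun x y => ?_⟩
  rw [hd, Fintype.sum_prod_type, Finset.sum_comm]
  refine Finset.sum_congr rfl fun σ _ => ?_
  rw [show d x σ = _ from hc σ x, Finset.sum_mul]
  exact Finset.sum_congr rfl fun τ _ => by rw [mul_assoc]

omit [Fintype F] [Fintype (F ≃+* F)] in
lemma quadratic_zero (q : F → F)
    (hq : ∀ x y z : F,
      q (x + y + z) + q (x + y) + q (x + z) + q (y + z) + q x + q y + q z = 0) : q 0 = 0 := by
  have h := hq 0 0 0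
  simp only [add_zero, CharTwo.add_self_eq_zero, zero_add] at h
  exact h

lemma quadratic_eq_sum (q : F → F)
    (hq : ∀ x y z : F,
      q (x + y + z) + q (x + y) + q (x + z) + q (y + z) + q x + q y + q z = 0) :
    ∃ c : (F ≃+* F) × (F ≃+* F) → F, ∀ x : F, q x = ∑ p, c p * (p.1 x * p.2 x) := by
  haveI : Fact (Nat.Prime 2) := ⟨Nat.prime_two⟩
  letI : Algebra (ZMod 2) F := ZMod.algebra F 2
  have h2 : ∀ a : F, a + a = 0 := fun a => CharTwo.add_self_eq_zero a
  have hq0 := quadratic_zero q hq
  let D : F → F → F := fun x y => q (x + y) + q x + q y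
  have hD : ∀ x z y, D (x + z) y = D x y + D z y := by
    intro x z y
    have h := hq x z y
    simp only [D]
    linear_combination (norm := ring_nf) h
    simp [CharTwo.two_eq_zero, mul_two]
  let Dh : F → (F →ₗ[ZMod 2] F) :=
    fun y => (AddMonoidHom.mk' (fun x => D x y) fun x z => hD x z y).toZModLinearMap 2
  have hDapp : ∀ x y, Dh y x = D x y := fun _ _ => rfl
  let b := Module.finBasis (ZMod 2) F
  classical
  let β : F →+ F →+ F := AddMonoidHom.mk' (fun x => AddMonoidHom.mk' (fun y =>
      ∑ j, (b.repr x j * b.repr y j) • q (b j) +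
        ∑ j, ∑ i ∈ Finset.univ.filter (· < j), (b.repr x i * b.repr y j) • D (b i) (b j))
      fun y y' => by simp [mul_add, add_smul, Finset.sum_add_distrib]; abel)
    fun x x' => by
      ext y
      simp [add_mul, add_smul, Finset.sum_add_distrib]
      abel
  obtain ⟨c, hc⟩ := biadditive_eq_sum β
  refine ⟨c, fun x => (?_ : q x = β x x).trans (hc x x)⟩
  suffices H : ∀ s : Finset (Fin (Module.finrank (ZMod 2) F)),
      q (∑ j ∈ s, b.repr x j • b j) = ∑ j ∈ s, (b.repr x j * b.repr x j) • q (b j) +
        ∑ j ∈ s, ∑ i ∈ s.filter (· < j), (b.repr x i * b.repr x j) • D (b i) (b j) by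
    have := H Finset.univ
    rwa [b.sum_repr x] at this
  intro s
  induction s using Finset.induction_on_max with
  | empty => simp [hq0]
  | insert m s hm ih =>
    have hms : m ∉ s := fun h => lt_irrefl _ (hm m h)
    set S := ∑ j ∈ s, b.repr x j • b j
    have h01 := zmod_two_cases
    have hsm : ∀ (r : ZMod 2) (v : F), q (r • v) = (r * r) • q v := by
      intro r v
      obtain rfl | rfl := h01 r
      · simp [hq0]
      · simp
    have hDlin : D S (b.repr x m • b m) =
        ∑ i ∈ s, (b.repr x i * b.repr x m) • D (b i) (b m) := by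
      rw [← hDapp, map_sum]
      refine Finset.sum_congr rfl fun i _ => ?_
      rw [map_smul, hDapp, mul_smul]
      congr 1
      generalize b.repr x m = r
      obtain rfl | rfl := h01 r
      · simp only [zero_smul, D]
        simp [hq0, h2]
      · simp
    have hsplit : q (b.repr x m • b m + S) =
        q (b.repr x m • b m) + q S + D S (b.repr x m • b m) := by
      simp only [D, add_comm S (b.repr x m • b m)]
      linear_combination (norm := ring_nf)
        (0 : F) - h2 (q S) - h2 (q (b.repr x m • b m))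
    rw [Finset.sum_insert hms, hsplit, ih, hsm, hDlin, Finset.sum_insert hms,
      Finset.sum_insert hms]
    have e1 : ((insert m s).filter (· < m)) = s := by
      ext i
      simp only [Finset.mem_filter, Finset.mem_insert]
      exact ⟨fun h => h.1.resolve_left h.2.ne, fun h => ⟨Or.inr h, hm i h⟩⟩
    have e2 : ∀ j ∈ s, (insert m s).filter (· < j) = s.filter (· < j) := fun j hj => by
      rw [Finset.filter_insert, if_neg (not_lt.mpr (hm j hj).le)]
    have e3 : ∑ j ∈ s, ∑ i ∈ (insert m s).filter (· < j),
        (b.repr x i * b.repr x j) • D (b i) (b j) =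
        ∑ j ∈ s, ∑ i ∈ s.filter (· < j), (b.repr x i * b.repr x j) • D (b i) (b j) :=
      Finset.sum_congr rfl fun j hj => by rw [e2 j hj]
    rw [e1, e3]
    abel

end Cfsg.Agent.H38
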