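import Mathlib

/-! Two extensions with the same squaring map are isomorphic. -/

set_option autoImplicit false

namespace Cfsg.Agent.H38

lemma sq_mem_imp_normal {G : Type*} [Group G] {C W : Subgroup G} (hCW : C ≤ W)
    (hsq : ∀ w ∈ W, w * w ∈ C) {w c : G} (hw : w ∈ W) (hc : c ∈ C) : w * c * w⁻¹ ∈ C := by
  have e : w * c * w⁻¹ = (w * w) * ((w⁻¹ * c) * (w⁻¹ * c)) * c⁻¹ := by group
  rw [e]
  exact mul_mem (mul_mem (hsq w hw) (hsq _ (mul_mem (inv_mem hw) (hCW hc)))) (inv_mem hc)

theorem iso_of_squares {P A V : Type*} [Group P] [Group A] [Group V] [Finite P] [Finite A]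
    (π : P →* V) (π' : A →* V) (hπ : Function.Surjective π) (hπ' : Function.Surjective π')
    (ι : π.ker ≃* π'.ker)
    (hsq : ∀ (p : P) (g : A), π p = π' g →
      ∃ z : π.ker, (z : P) = p * p ∧ (ι z : A) = g * g) :
    Nonempty (P ≃* A) := by
  let W : Subgroup (P × A) :=
    { carrier := {w | π w.1 = π' w.2}
      one_mem' := by simp
      mul_mem' := fun {x y} hx hy => by
        show π (x.1 * y.1) = π' (x.2 * y.2)
        rw [map_mul, map_mul, hx, hy]
      inv_mem' := fun {x} hx => by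
        show π x.1⁻¹ = π' x.2⁻¹
        rw [map_inv, map_inv, hx] }
  let dhom : π.ker →* P × A := (π.ker.subtype).prod (π'.ker.subtype.comp ι.toMonoidHom)
  let Good : Set (Subgroup (P × A)) :=
    {C | C ≤ W ∧ dhom.range ≤ C ∧ ∀ z : P, π z = 1 → (z, (1 : A)) ∈ C → z = 1}
  have h0 : dhom.range ∈ Good := by
    refine ⟨?_, le_rfl, ?_⟩
    · rintro _ ⟨z, rfl⟩
      show π (z : P) = π' (ι z : A)
      rw [z.2, (ι z).2]
    · rintro z _ ⟨y, hy⟩
      have h1 : (y : P) = z := congrArg Prod.fst hy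
      have h2 : ι y = 1 := Subtype.ext (congrArg Prod.snd hy)
      rw [← h1, (MulEquiv.map_eq_one_iff ι).mp h2]
      rfl
  obtain ⟨C, ⟨hCW, hDC, hC1⟩, hmax⟩ := (Set.toFinite Good).exists_maximal ⟨_, h0⟩
  have hCsq : ∀ w ∈ W, w * w ∈ C := by
    rintro ⟨p, g⟩ hw
    obtain ⟨z, hz1, hz2⟩ := hsq p g hw
    exact hDC ⟨z, Prod.ext hz1 hz2⟩
  -- every element of `W` can be moved into `C` by an element of `ker π`
  have hcov : ∀ w ∈ W, ∃ z : P, π z = 1 ∧ (z, (1 : A)) * w ∈ C := by
    intro w hw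
    by_contra hcon
    push Not at hcon
    let C' : Subgroup (P × A) :=
      { carrier := {x | x ∈ C ∨ w⁻¹ * x ∈ C}
        one_mem' := Or.inl (one_mem C)
        mul_mem' := by
          rintro x y (hx | hx) (hy | hy)
          · exact Or.inl (mul_mem hx hy)
          · refine Or.inr ?_
            rw [show w⁻¹ * (x * y) = w⁻¹ * x * w⁻¹⁻¹ * (w⁻¹ * y) by group]
            exact mul_mem (sq_mem_imp_normal hCW hCsq (inv_mem hw) hx) hy
          · refine Or.inr ?_
            rw [← mul_assoc]; exact mul_mem hx hy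
          · refine Or.inl ?_
            rw [show x * y = w * (w⁻¹ * x) * w⁻¹ * ((w * w) * (w⁻¹ * y)) by group]
            exact mul_mem (sq_mem_imp_normal hCW hCsq hw hx) (mul_mem (hCsq w hw) hy)
        inv_mem' := by
          rintro x (hx | hx)
          · exact Or.inl (inv_mem hx)
          · refine Or.inr ?_
            rw [show w⁻¹ * x⁻¹ = w⁻¹ * (w⁻¹ * x)⁻¹ * w⁻¹⁻¹ * (w⁻¹ * w⁻¹) by group]
            exact mul_mem (sq_mem_imp_normal hCW hCsq (inv_mem hw) (inv_mem hx))
              (hCsq _ (inv_mem hw)) }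
    have hgood : C' ∈ Good := by
      refine ⟨?_, fun x hx => Or.inl (hDC hx), ?_⟩
      · rintro x (hx | hx)
        · exact hCW hx
        · have := mul_mem hw (hCW hx)
          rwa [mul_inv_cancel_left] at this
      · rintro z hz (hx | hx)
        · exact hC1 z hz hx
        · exfalso
          refine hcon z⁻¹ (by rw [map_inv, hz, inv_one]) ?_
          have := inv_mem hx
          simpa [mul_inv_rev] using this
    have hwC : w ∈ C := hmax hgood (fun x hx => Or.inl hx) (Or.inr (by rw [inv_mul_cancel]; exact one_mem C))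
    exact hcon 1 (map_one π) (by rwa [show ((1 : P), (1 : A)) = 1 from rfl, one_mul])
  let f : C →* A := (MonoidHom.snd P A).comp C.subtype
  let g : C →* P := (MonoidHom.fst P A).comp C.subtype
  have hg : Function.Bijective g := by
    refine ⟨(injective_iff_map_eq_one g).mpr ?_, fun p => ?_⟩
    · rintro ⟨⟨p, a⟩, hpa⟩ (hp : p = 1)
      subst hp
      have ha : π' a = 1 := by
        have := hCW hpa
        exact (show π 1 = π' a from this).symm.trans (map_one π)
      obtain ⟨z, hz⟩ := ι.surjective ⟨a, ha⟩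
      have hd : ((z : P), a) ∈ C := hDC ⟨z, Prod.ext rfl (congrArg Subtype.val hz)⟩
      have h1 := mul_mem hd (inv_mem hpa)
      have hz1 : (z : P) = 1 := hC1 z z.2 (by simpa using h1)
      have hz' : z = 1 := Subtype.ext hz1
      rw [hz', map_one] at hz
      have ha1 : (1 : A) = a := congrArg Subtype.val hz
      exact Subtype.ext (Prod.ext rfl ha1.symm)
    · obtain ⟨a, ha⟩ := hπ' (π p)
      obtain ⟨z, hz, hzC⟩ := hcov (p, a) ha.symm
      let z' : π.ker := ⟨z, hz⟩
      have hd := inv_mem (hDC ⟨z', rfl⟩ : dhom z' ∈ C)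
      refine ⟨⟨_, mul_mem hd hzC⟩, ?_⟩
      show (dhom z')⁻¹.1 * (z * p) = p
      show z⁻¹ * (z * p) = p
      rw [inv_mul_cancel_left]
  have hf : Function.Bijective f := by
    refine ⟨(injective_iff_map_eq_one f).mpr ?_, fun a => ?_⟩
    · rintro ⟨⟨p, a⟩, hpa⟩ (ha : a = 1)
      subst ha
      have : π p = π' 1 := hCW hpa
      exact Subtype.ext (Prod.ext (hC1 p (this.trans (map_one π')) hpa) rfl)
    · obtain ⟨p, hp⟩ := hπ (π' a)
      obtain ⟨z, -, hzC⟩ := hcov (p, a) hp
      exact ⟨⟨_, hzC⟩, one_mul a⟩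
  exact ⟨(MulEquiv.ofBijective g hg).symm.trans (MulEquiv.ofBijective f hf)⟩

end Cfsg.Agent.H38
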