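import Cfsg.Prelude.Def_LieRecognition
import Mathlib

/-! Coordinates on the group `suzukiTypeA F φ`. -/

set_option autoImplicit false

namespace Cfsg.Agent.H38

variable {F : Type*} [Field F] [CharP F 2] {φ : F →+* F}

/-- The element with parameters `x`, `y`. -/
def taMat (φ : F →+* F) (x y : F) : Matrix (Fin 3) (Fin 3) F := !![1, 0, 0; x, 1, 0; y, φ x, 1]

omit [CharP F 2] in
lemma taMat_mul (x y x' y' : F) :
    taMat φ x y * taMat φ x' y' = taMat φ (x + x') (y + y' + φ x * x') := by
  ext i j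
  fin_cases i <;> fin_cases j <;>
    simp [taMat, Matrix.mul_apply, Fin.sum_univ_three, map_add] <;> ring

omit [CharP F 2] in
lemma taMat_zero : taMat φ 0 0 = 1 := by
  ext i j
  fin_cases i <;> fin_cases j <;> simp [taMat]

/-- The element with parameters `x`, `y`, as an invertible matrix. -/
def ta (φ : F →+* F) (x y : F) : GL (Fin 3) F where
  val := taMat φ x y
  inv := taMat φ x (y + φ x * x)
  val_inv := by
    rw [taMat_mul, ← taMat_zero (φ := φ), CharTwo.add_self_eq_zero,
      show y + (y + φ x * x) + φ x * x = (y + y) + (φ x * x + φ x * x) by ring,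
      CharTwo.add_self_eq_zero, CharTwo.add_self_eq_zero, add_zero]
  inv_val := by
    rw [taMat_mul, ← taMat_zero (φ := φ), CharTwo.add_self_eq_zero,
      show y + φ x * x + y + φ x * x = (y + y) + (φ x * x + φ x * x) by ring,
      CharTwo.add_self_eq_zero, CharTwo.add_self_eq_zero, add_zero]

lemma ta_mul (x y x' y' : F) : ta φ x y * ta φ x' y' = ta φ (x + x') (y + y' + φ x * x') :=
  Units.ext (taMat_mul x y x' y')

lemma ta_one : ta φ 0 0 = 1 := Units.ext taMat_zero

lemma ta_inj {x y x' y' : F} (h : ta φ x y = ta φ x' y') : x = x' ∧ y = y' := by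
  have h' := congrArg Units.val h
  exact ⟨by simpa [ta, taMat] using congrFun (congrFun h' 1) 0,
    by simpa [ta, taMat] using congrFun (congrFun h' 2) 0⟩

lemma ta_sq (x y : F) : ta φ x y * ta φ x y = ta φ 0 (φ x * x) := by
  rw [ta_mul, CharTwo.add_self_eq_zero, CharTwo.add_self_eq_zero, zero_add]

lemma mem_typeA {g : GL (Fin 3) F} : g ∈ suzukiTypeA F φ ↔ ∃ x y, g = ta φ x y := by
  constructor
  · intro hg
    induction hg using Subgroup.closure_induction with
    | mem g hg =>
      obtain ⟨x, y, h⟩ := hg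
      exact ⟨x, y, Units.ext h⟩
    | one => exact ⟨0, 0, ta_one.symm⟩
    | mul g g' _ _ ig ig' =>
      obtain ⟨x, y, rfl⟩ := ig
      obtain ⟨x', y', rfl⟩ := ig'
      exact ⟨_, _, ta_mul x y x' y'⟩
    | inv g _ ig =>
      obtain ⟨x, y, rfl⟩ := ig
      exact ⟨x, y + φ x * x, Units.ext rfl⟩
  · rintro ⟨x, y, rfl⟩
    exact Subgroup.subset_closure ⟨x, y, rfl⟩

/-- The element with parameters `x`, `y`, in `suzukiTypeA F φ`. -/
def taEl (φ : F →+* F) (x y : F) : suzukiTypeA F φ := ⟨ta φ x y, mem_typeA.mpr ⟨x, y, rfl⟩⟩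

lemma taEl_surj (g : suzukiTypeA F φ) : ∃ x y, g = taEl φ x y := by
  obtain ⟨x, y, h⟩ := mem_typeA.mp g.2
  exact ⟨x, y, Subtype.ext h⟩

/-- The first coordinate. -/
def taFst (φ : F →+* F) : suzukiTypeA F φ →* Multiplicative F :=
  MonoidHom.mk' (fun g => Multiplicative.ofAdd ((g : GL (Fin 3) F).1 1 0)) fun g h => by
    obtain ⟨x, y, rfl⟩ := taEl_surj g
    obtain ⟨x', y', rfl⟩ := taEl_surj h
    rw [show taEl φ x y * taEl φ x' y' = taEl φ (x + x') (y + y' + φ x * x') from
      Subtype.ext (ta_mul x y x' y'), ← ofAdd_add]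
    rfl

lemma taFst_taEl (x y : F) : taFst φ (taEl φ x y) = Multiplicative.ofAdd x := rfl

lemma taFst_surjective : Function.Surjective (taFst φ) := fun v =>
  ⟨taEl φ (Multiplicative.toAdd v) 0, rfl⟩

/-- The kernel of the first coordinate is a copy of the additive group. -/
def taKerEquiv (φ : F →+* F) : Multiplicative F ≃* (taFst φ).ker where
  toFun y := ⟨taEl φ 0 (Multiplicative.toAdd y), rfl⟩
  invFun g := Multiplicative.ofAdd ((g : suzukiTypeA F φ).1.1 2 0)
  left_inv y := rfl
  right_inv g := by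
    obtain ⟨x, y, h⟩ := taEl_surj (g : suzukiTypeA F φ)
    have hx := g.2
    rw [MonoidHom.mem_ker, h, taFst_taEl] at hx
    have hx' : x = 0 := by simpa using hx
    refine Subtype.ext ?_
    show taEl φ 0 ((g : suzukiTypeA F φ).1.1 2 0) = (g : suzukiTypeA F φ)
    rw [h, hx']
    rfl
  map_mul' y y' := Subtype.ext <| Subtype.ext <| by
    show ta φ 0 (Multiplicative.toAdd (y * y')) =
      ta φ 0 (Multiplicative.toAdd y) * ta φ 0 (Multiplicative.toAdd y')
    rw [ta_mul, add_zero, mul_zero, add_zero, toAdd_mul]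

lemma finite_typeA [Finite F] : Finite (suzukiTypeA F φ) :=
  Finite.of_surjective (fun p : F × F => taEl φ p.1 p.2) fun g => by
    obtain ⟨x, y, h⟩ := taEl_surj g
    exact ⟨(x, y), h.symm⟩

end Cfsg.Agent.H38
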