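import Cfsg.Agent.H38.SuzukiCentre
import Cfsg.Agent.H38.FieldCoords
import Cfsg.Agent.H38.SquareIso
import Cfsg.Agent.H38.TypeAGroup
import Cfsg.Agent.H38.FieldEndo

/-! Suzuki 2-groups of order `q²` are of type A. -/

set_option autoImplicit false

namespace Cfsg.Agent.H38

universe u

section field

variable {F : Type*} [Field F] [Fintype F] [CharP F 2]

/-- A multiplicative bijection that is quadratic over the prime field is `x ↦ σ x * τ x`. -/
lemma monomial_of_multiplicative (χ : F →* F) (hχ0 : χ 0 = 0)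
    (hq : ∀ x y z : F, χ (x + y + z) + χ (x + y) + χ (x + z) + χ (y + z) + χ x + χ y + χ z = 0) :
    ∃ σ τ : F ≃+* F, ∀ x, χ x = σ x * τ x := by
  classical
  haveI : Finite (F ≃+* F) :=
    Finite.of_injective (fun σ : F ≃+* F => (σ : F → F)) DFunLike.coe_injective
  have := Fintype.ofFinite (F ≃+* F)
  obtain ⟨c, hc⟩ := quadratic_eq_sum χ hq
  by_contra hcon
  push Not at hcon
  let hom : (F ≃+* F) × (F ≃+* F) → (F →* F) := fun p => (p.1 : F →* F) * (p.2 : F →* F)
  let g : (F →* F) → F := fun h =>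
    if h = χ then -1 else ∑ p ∈ Finset.univ.filter (fun p => hom p = h), c p
  have hne : ∀ p, hom p ≠ χ := fun p e => by
    obtain ⟨x, hx⟩ := hcon p.1 p.2
    exact hx (by rw [← e]; rfl)
  have hli := linearIndependent_iff'.mp (linearIndependent_monoidHom F F)
    (insert χ (Finset.univ.image hom)) g ?_ χ (Finset.mem_insert_self _ _)
  · simp [g] at hli
  · funext x
    rw [Finset.sum_insert (by simp [hne]), Pi.add_apply, Finset.sum_apply]
    simp only [Pi.smul_apply, smul_eq_mul, Pi.zero_apply]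
    have e1 : ∑ h ∈ Finset.univ.image hom, g h * h x = χ x := by
      rw [hc x, ← Finset.sum_fiberwise_of_maps_to (t := Finset.univ.image hom) (g := hom)
        (fun p _ => Finset.mem_image_of_mem _ (Finset.mem_univ p)) (fun p => c p * (p.1 x * p.2 x))]
      refine Finset.sum_congr rfl fun h hh => ?_
      obtain ⟨p, -, rfl⟩ := Finset.mem_image.mp hh
      simp only [g, if_neg (hne p), Finset.sum_mul]
      refine Finset.sum_congr rfl fun p' hp' => ?_
      rw [← (Finset.mem_filter.mp hp').2]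
      rfl
    rw [e1]
    simp [g]

/-- If `x ↦ x φ(x)` is injective then `φ` has odd order. -/
lemma odd_order_of_injective (φ : F ≃+* F) (hinj : Function.Injective fun x => x * φ x) :
    Odd (orderOf φ) := by
  classical
  haveI : Finite (F ≃+* F) :=
    Finite.of_injective (fun σ : F ≃+* F => (σ : F → F)) DFunLike.coe_injective
  rw [← Nat.not_even_iff_odd]
  intro hev
  have hsame : ∀ y : F, φ (φ y) = y → φ y = y := by
    intro y hy
    by_cases hy0 : y = 0
    · simp [hy0]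
    have hφy : φ y ≠ 0 := by simpa using hy0
    have h1 : (fun x => x * φ x) (y / φ y) = (fun x => x * φ x) 1 := by
      simp only [map_one, one_mul, map_div₀, hy]
      field_simp
    have := hinj h1
    rw [div_eq_one_iff_eq hφy] at this
    exact this.symm
  let H : Subgroup (F ≃+* F) := Subgroup.zpowers φ
  let H2 : Subgroup (F ≃+* F) := Subgroup.zpowers (φ * φ)
  have hle : (⊤ : Set F) ∩ {y | φ (φ y) = y} ⊆ {y | φ y = y} := fun y hy => hsame y hy.2
  have e : FixedPoints.subfield H F = FixedPoints.subfield H2 F := by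
    ext y
    constructor
    · rintro hy ⟨g, hg⟩
      obtain ⟨i, rfl⟩ := hg
      exact hy ⟨(φ * φ) ^ i, Subgroup.zpow_mem _ (mul_mem (Subgroup.mem_zpowers φ)
        (Subgroup.mem_zpowers φ)) i⟩
    · intro hy g
      obtain ⟨g, hg⟩ := g
      have h2 : φ (φ y) = y := hy ⟨φ * φ, Subgroup.mem_zpowers _⟩
      have hfix : φ ∈ MulAction.stabilizer (F ≃+* F) y := hsame y h2
      exact Subgroup.zpowers_le.mpr hfix hg
  have := Fintype.ofFinite H
  have := Fintype.ofFinite H2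
  haveI : FaithfulSMul H F := ⟨fun {g g'} h => Subtype.ext (RingEquiv.ext h)⟩
  haveI : FaithfulSMul H2 F := ⟨fun {g g'} h => Subtype.ext (RingEquiv.ext h)⟩
  have h1 := FixedPoints.finrank_eq_card H F
  have h2 := FixedPoints.finrank_eq_card H2 F
  rw [e, h2, ← Nat.card_eq_fintype_card, ← Nat.card_eq_fintype_card, Nat.card_zpowers,
    Nat.card_zpowers, ← pow_two, orderOf_pow, Nat.gcd_eq_right (even_iff_two_dvd.mp hev)] at h1
  have := orderOf_pos φ
  omega

end field

/-- Two modules of the same order, coordinatised by one finite field. -/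
lemma exists_coords_pair {E E' : Type u} [CommGroup E] [CommGroup E'] [Finite E] [Finite E']
    [Nontrivial E] [Nontrivial E'] (h2 : ∀ x : E, x * x = 1) (h2' : ∀ x : E', x * x = 1)
    (σ : MulAut E) (σ' : MulAut E')
    (htr : ∀ u v : E, u ≠ 1 → v ≠ 1 → ∃ i : ℕ, (σ ^ i) u = v)
    (htr' : ∀ u v : E', u ≠ 1 → v ≠ 1 → ∃ i : ℕ, (σ' ^ i) u = v)
    (hcard : Nat.card E' = Nat.card E) :
    ∃ (F : Type) (_ : Field F) (_ : Fintype F) (_ : CharP F 2),
      Fintype.card F = Nat.card E ∧ ∃ (e : E ≃ F) (lam : F) (e' : E' ≃ F) (mu : F),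
        (∀ u v, e (u * v) = e u + e v) ∧ (∀ x, e (σ x) = lam * e x) ∧
        (∀ u v, e' (u * v) = e' u + e' v) ∧ (∀ x, e' (σ' x) = mu * e' x) ∧
        ∀ a : F, a ≠ 0 → ∃ i : ℕ, mu ^ i = a := by
  haveI : Fact (Nat.Prime 2) := ⟨Nat.prime_two⟩
  obtain ⟨n, hn, hEn, e, lam, he, hel, -⟩ := exists_field_coords h2 σ htr
  obtain ⟨n', hn', hEn', e', mu, he', hem, hgen⟩ := exists_field_coords h2' σ' htr'
  obtain rfl : n = n' := Nat.pow_right_injective le_rfl (hEn.symm.trans (hcard.symm.trans hEn'))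
  refine ⟨GaloisField 2 n, inferInstance, Fintype.ofFinite _, inferInstance, ?_, e, lam, e', mu,
    he, hel, he', hem, hgen⟩
  rw [@Fintype.card_eq_nat_card, hEn]
  exact GaloisField.card 2 n (by omega)

/-- The structure of a non-abelian 2-group `P` with `|P| = |Z(P)|²` and a transitive odd-order
automorphism on involutions. -/
theorem typeA_of_twoHyp {P : Type u} [Group P] [Finite P] {σ : MulAut P} (h : TwoHyp P σ)
    (hnc : ∃ x y : P, x * y ≠ y * x)
    (hcard : Nat.card P = Nat.card (Subgroup.center P) ^ 2) :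
    ∃ (F : Type) (_ : Field F) (_ : Fintype F) (φ : F ≃+* F),
      Fintype.card F = Nat.card (Subgroup.center P) ∧ φ ≠ RingEquiv.refl F ∧ Odd (orderOf φ) ∧
        Nonempty (P ≃* suzukiTypeA F (φ : F →+* F)) := by
  classical
  haveI : Fact (Nat.Prime 2) := ⟨Nat.prime_two⟩
  set Z := Subgroup.center P with hZdef
  have hZ2 : ∀ z ∈ Z, z * z = 1 := center_sq_eq_one h hnc
  have hinvZ : ∀ {w : P}, w * w = 1 → w ∈ Z := fun {w} hw => by
    by_cases hw1 : w = 1
    · exact hw1 ▸ one_mem Z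
    · exact ((invol_iff_central h hnc w).mp ⟨hw1, hw⟩).1
  have hσZ : ∀ x ∈ Z, σ x ∈ Z := center_invariant σ
  have hcq : Nat.card (P ⧸ Z) = Nat.card Z := by
    have := Z.card_eq_card_quotient_mul_card_subgroup
    rw [hcard, pow_two] at this
    exact (Nat.eq_of_mul_eq_mul_right Nat.card_pos this).symm
  obtain ⟨u₀, v₀, huv, hu1, hu2, hv1, hv2⟩ := h.two
  haveI : Nontrivial Z := ⟨⟨u₀, hinvZ hu2⟩, 1, fun e => hu1 (congrArg Subtype.val e)⟩
  haveI : Nontrivial (P ⧸ Z) := by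
    rw [← Finite.one_lt_card_iff_nontrivial, hcq]
    exact Finite.one_lt_card
  -- the elements squaring into the centre and central modulo the centre
  let M : Subgroup (P ⧸ Z) :=
    { carrier := {x | x ∈ Subgroup.center (P ⧸ Z) ∧ x * x = 1}
      one_mem' := ⟨one_mem _, one_mul 1⟩
      mul_mem' := fun {x y} hx hy => ⟨mul_mem hx.1 hy.1, by
        rw [show x * y * (x * y) = x * (y * x) * y by group, Subgroup.mem_center_iff.mp hx.1 y,
          show x * (x * y) * y = x * x * (y * y) by group, hx.2, hy.2, one_mul]⟩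
      inv_mem' := fun {x} hx => ⟨inv_mem hx.1, by rw [← mul_inv_rev, hx.2, inv_one]⟩ }
  obtain ⟨x₁, hx₁M, hx₁⟩ : ∃ x ∈ M, x ≠ 1 := by
    haveI : Nontrivial (Subgroup.center (P ⧸ Z)) := (h.pgroup.to_quotient Z).center_nontrivial
    obtain ⟨c, hc⟩ := exists_ne (1 : Subgroup.center (P ⧸ Z))
    have hex := (h.pgroup.to_quotient Z) (c : P ⧸ Z)
    have hk := Nat.find_spec hex
    have h0 : Nat.find hex ≠ 0 := fun e => hc (Subtype.ext (by simpa [e] using hk))
    refine ⟨(c : P ⧸ Z) ^ 2 ^ (Nat.find hex - 1), ⟨pow_mem c.2 _, ?_⟩, Nat.find_min hex (by omega)⟩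
    rw [← pow_add, ← two_mul, ← pow_succ', show Nat.find hex - 1 + 1 = Nat.find hex by omega]
    exact hk
  have hsqdef : ∀ p : P, (p : P ⧸ Z) * p = 1 → p * p ∈ Z := fun p hp => by
    rwa [← QuotientGroup.mk_mul, QuotientGroup.eq_one_iff] at hp
  -- `M` is everything
  have hMtop : M = ⊤ := by
    refine Subgroup.eq_top_of_card_eq M (le_antisymm (Subgroup.card_le_card_group M) ?_)
    rw [hcq]
    obtain ⟨p₁, rfl⟩ := QuotientGroup.mk_surjective x₁
    have hp₁ := hsqdef p₁ hx₁M.2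
    have hp₁1 : p₁ * p₁ ≠ 1 := fun e => hx₁ ((QuotientGroup.eq_one_iff p₁).mpr (hinvZ e))
    let sM : M → Z := fun x => ⟨x.1.out * x.1.out, hsqdef _ (by
      rw [QuotientGroup.out_eq']; exact x.2.2)⟩
    refine Nat.card_le_card_of_surjective sM fun z => ?_
    by_cases hz : z = 1
    · refine ⟨1, Subtype.ext ?_⟩
      have : ((1 : M) : P ⧸ Z).out ∈ Z := by
        rw [← QuotientGroup.eq_one_iff, QuotientGroup.out_eq']
        rfl
      rw [hz]
      exact hZ2 _ this
    · obtain ⟨i, hi⟩ := h.trans (p₁ * p₁) z hp₁1 (hZ2 _ hp₁) (fun e => hz (Subtype.ext e))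
        (hZ2 _ z.2)
      have hmem : (((σ ^ i) p₁ : P) : P ⧸ Z) ∈ M := by
        refine ⟨Subgroup.mem_center_iff.mpr fun y => ?_, ?_⟩
        · obtain ⟨y, rfl⟩ := QuotientGroup.mk_surjective y
          have hc := Subgroup.mem_center_iff.mp hx₁M.1 (((σ ^ i).symm y : P) : P ⧸ Z)
          rw [← QuotientGroup.mk_mul, ← QuotientGroup.mk_mul, QuotientGroup.eq] at hc ⊢
          have h4 := aut_pow_mem hσZ i hc
          rw [map_mul, map_inv, map_mul, map_mul, MulEquiv.apply_symm_apply] at h4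
          exact h4
        · rw [← QuotientGroup.mk_mul, QuotientGroup.eq_one_iff, ← map_mul]
          exact aut_pow_mem hσZ i hp₁
      refine ⟨⟨_, hmem⟩, Subtype.ext ?_⟩
      show ((((σ ^ i) p₁ : P) : P ⧸ Z)).out * _ = (z : P)
      obtain ⟨w, hw⟩ := QuotientGroup.mk_out_eq_mul Z ((σ ^ i) p₁)
      rw [hw, ← hi, map_mul]
      have hwc := Subgroup.mem_center_iff.mp w.2
      calc (σ ^ i) p₁ * (w : P) * ((σ ^ i) p₁ * w)
          = (σ ^ i) p₁ * ((w : P) * (σ ^ i) p₁) * w := by group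
        _ = (σ ^ i) p₁ * ((σ ^ i) p₁ * w) * w := by rw [← hwc ((σ ^ i) p₁)]
        _ = (σ ^ i) p₁ * (σ ^ i) p₁ * ((w : P) * w) := by group
        _ = _ := by rw [hZ2 _ w.2, mul_one]
  have hVcen : ∀ x : P ⧸ Z, x ∈ Subgroup.center (P ⧸ Z) ∧ x * x = 1 := fun x =>
    (hMtop.symm ▸ Subgroup.mem_top x : x ∈ M)
  have hsq : ∀ p : P, p * p ∈ Z := fun p => hsqdef p (hVcen _).2
  have hcommZ : ∀ p p' : P, p * p' * p⁻¹ * p'⁻¹ ∈ Z := fun p p' => by
    rw [← QuotientGroup.eq_one_iff]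
    rw [QuotientGroup.mk_mul, QuotientGroup.mk_mul, QuotientGroup.mk_mul, QuotientGroup.mk_inv,
      QuotientGroup.mk_inv, ← Subgroup.mem_center_iff.mp (hVcen (p : P ⧸ Z)).1 (p' : P ⧸ Z),
      mul_inv_cancel_right, mul_inv_cancel]
  letI : CommGroup (P ⧸ Z) :=
    { (inferInstance : Group (P ⧸ Z)) with
      mul_comm := fun x y => (Subgroup.mem_center_iff.mp (hVcen x).1 y).symm }
  haveI : IsMulCommutative Z := inferInstance
  letI : CommGroup Z :=
    { (inferInstance : Group Z) with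
      mul_comm := fun x y => Subtype.ext ((Subgroup.mem_center_iff.mp x.2 y).symm) }
  -- the squaring bijection
  have hsqlift : ∀ p w : P, w ∈ Z → p * w * (p * w) = p * p := fun p w hw => by
    rw [show p * w * (p * w) = p * (w * p) * w by group,
      ← Subgroup.mem_center_iff.mp hw p, ← mul_assoc, mul_assoc (p * p) w w, hZ2 _ hw, mul_one]
  let s : P ⧸ Z → Z := fun x => ⟨x.out * x.out, hsq _⟩
  have hs_mk : ∀ p : P, (s (p : P ⧸ Z) : P) = p * p := fun p => by
    obtain ⟨w, hw⟩ := QuotientGroup.mk_out_eq_mul Z p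
    show (p : P ⧸ Z).out * (p : P ⧸ Z).out = p * p
    rw [hw]
    exact hsqlift p w w.2
  let τZ : MulAut Z := restrictAut σ Z hσZ
  let τV : MulAut (P ⧸ Z) := QuotientGroup.congr Z Z σ (le_antisymm
    (by rintro _ ⟨x, hx, rfl⟩; exact hσZ x hx)
    fun x hx => ⟨σ.symm x, by
      have : Z.map σ.symm.toMonoidHom ≤ Z := fun _ ⟨y, hy, e⟩ => by
        rw [← e]; exact center_invariant σ⁻¹ y hy
      exact this ⟨x, hx, rfl⟩, σ.apply_symm_apply x⟩)
  have hτV : ∀ p : P, τV (p : P ⧸ Z) = ((σ p : P) : P ⧸ Z) := fun p => rfl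
  have hs_equiv : ∀ x, s (τV x) = τZ (s x) := fun x => by
    obtain ⟨p, rfl⟩ := QuotientGroup.mk_surjective x
    refine Subtype.ext ?_
    rw [hτV, restrictAut_apply, hs_mk, hs_mk, map_mul]
  have hs1 : ∀ x, s x = 1 → x = 1 := fun x hx => by
    obtain ⟨p, rfl⟩ := QuotientGroup.mk_surjective x
    have e : (s (p : P ⧸ Z) : P) = 1 := congrArg Subtype.val hx
    rw [hs_mk] at e
    exact (QuotientGroup.eq_one_iff p).mpr (hinvZ e)
  have hs_one : s 1 = 1 := Subtype.ext (by rw [← QuotientGroup.mk_one, hs_mk, one_mul]; rfl)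
  have htrZ : ∀ u v : Z, u ≠ 1 → v ≠ 1 → ∃ i : ℕ, (τZ ^ i) u = v := fun u v hu hv => by
    obtain ⟨i, hi⟩ := h.trans u v (fun e => hu (Subtype.ext e)) (hZ2 _ u.2)
      (fun e => hv (Subtype.ext e)) (hZ2 _ v.2)
    exact ⟨i, Subtype.ext ((restrictAut_pow_apply hσZ i u).trans hi)⟩
  have hiter : ∀ i x, s ((τV ^ i) x) = (τZ ^ i) (s x) := fun i => by
    induction i with
    | zero => simp
    | succ i ih => intro x; rw [pow_succ', pow_succ', MulAut.mul_apply, MulAut.mul_apply, hs_equiv, ih]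
  have hs_surj : Function.Surjective s := fun z => by
    obtain ⟨x, hx⟩ := exists_ne (1 : P ⧸ Z)
    by_cases hz : z = 1
    · exact ⟨1, by rw [hs_one, hz]⟩
    obtain ⟨i, hi⟩ := htrZ (s x) z (fun e => hx (hs1 x e)) hz
    exact ⟨(τV ^ i) x, by rw [hiter, hi]⟩
  have hs_bij : Function.Bijective s :=
    (Nat.bijective_iff_surjective_and_card s).mpr ⟨hs_surj, hcq⟩
  have htrV : ∀ u v : P ⧸ Z, u ≠ 1 → v ≠ 1 → ∃ i : ℕ, (τV ^ i) u = v := fun u v hu hv => by
    obtain ⟨i, hi⟩ := htrZ (s u) (s v) (fun e => hu (hs1 u e)) (fun e => hv (hs1 v e))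
    exact ⟨i, hs_bij.1 (by rw [hiter, hi])⟩
  obtain ⟨F, instF, instFin, instC, hFcard, b, lam, a, mu, hb, hblam, ha, hamu, hmugen⟩ :=
    exists_coords_pair (E := Z) (E' := P ⧸ Z) (fun x => Subtype.ext (hZ2 _ x.2))
      (fun x => (hVcen x).2) τZ τV htrZ htrV hcq
  have hb1 : b 1 = 0 := by
    have := hb 1 1; rw [one_mul] at this; exact left_eq_add.mp this
  have ha1 : a 1 = 0 := by
    have := ha 1 1; rw [one_mul] at this; exact left_eq_add.mp this
  -- coordinates of the squaring map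
  let q : F → F := fun x => b (s (a.symm x))
  have hq_bij : Function.Bijective q := b.bijective.comp (hs_bij.comp a.symm.bijective)
  have hq0 : q 0 = 0 := by
    show b (s (a.symm 0)) = 0
    rw [show a.symm 0 = 1 by rw [← ha1, Equiv.symm_apply_apply], hs_one, hb1]
  have hq_mu : ∀ x, q (mu * x) = lam * q x := fun x => by
    show b (s (a.symm (mu * x))) = lam * b (s (a.symm x))
    rw [← hblam, ← hs_equiv]
    congr 2
    apply a.injective
    rw [Equiv.apply_symm_apply, hamu, Equiv.apply_symm_apply]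
  set c₀ := q 1 with hc₀
  have hc₀0 : c₀ ≠ 0 := fun e => one_ne_zero (hq_bij.1 (e.trans hq0.symm))
  have hq_pow : ∀ i : ℕ, q (mu ^ i) = lam ^ i * c₀ := fun i => by
    induction i with
    | zero => simp [hc₀]
    | succ i ih => rw [pow_succ', hq_mu, ih, pow_succ', mul_assoc]
  let χ : F →* F :=
    { toFun := fun x => q x * c₀⁻¹
      map_one' := mul_inv_cancel₀ hc₀0
      map_mul' := fun x y => by
        by_cases hx : x = 0
        · simp [hx, hq0]
        by_cases hy : y = 0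
        · simp [hy, hq0]
        obtain ⟨i, rfl⟩ := hmugen x hx
        obtain ⟨j, rfl⟩ := hmugen y hy
        show q (mu ^ i * mu ^ j) * c₀⁻¹ = q (mu ^ i) * c₀⁻¹ * (q (mu ^ j) * c₀⁻¹)
        rw [← pow_add, hq_pow, hq_pow, hq_pow, pow_add]
        field_simp }
  -- the commutator is biadditive
  let cm : P → P → Z := fun p p' => ⟨p' * p * p'⁻¹ * p⁻¹, hcommZ p' p⟩
  have hs_mul : ∀ p p' : P, s ((p : P ⧸ Z) * p') = cm p p' * s p * s p' := fun p p' => by
    refine Subtype.ext ?_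
    rw [← QuotientGroup.mk_mul, hs_mk, Subgroup.coe_mul, Subgroup.coe_mul, hs_mk, hs_mk]
    show p * p' * (p * p') = p' * p * p'⁻¹ * p⁻¹ * (p * p) * (p' * p')
    have hc := Subgroup.mem_center_iff.mp (hcommZ p' p) p
    calc p * p' * (p * p') = p * (p' * p * p'⁻¹ * p⁻¹) * p * p' * p' := by group
      _ = (p' * p * p'⁻¹ * p⁻¹) * p * p * p' * p' := by rw [hc]
      _ = _ := by group
  have hcm_mul : ∀ p p' r : P, cm (p * p') r = cm p r * cm p' r := fun p p' r => by
    refine Subtype.ext ?_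
    show r * (p * p') * r⁻¹ * (p * p')⁻¹ = r * p * r⁻¹ * p⁻¹ * (r * p' * r⁻¹ * p'⁻¹)
    have hc := Subgroup.mem_center_iff.mp (hcommZ r p') p
    calc r * (p * p') * r⁻¹ * (p * p')⁻¹
        = r * p * r⁻¹ * p⁻¹ * (p * (r * p' * r⁻¹ * p'⁻¹) * p⁻¹) := by group
      _ = _ := by rw [hc, mul_inv_cancel_right]
  have hq_quad : ∀ x y z : F,
      q (x + y + z) + q (x + y) + q (x + z) + q (y + z) + q x + q y + q z = 0 := by
    intro x y z
    obtain ⟨p, hp⟩ := QuotientGroup.mk_surjective (a.symm x)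
    obtain ⟨p', hp'⟩ := QuotientGroup.mk_surjective (a.symm y)
    obtain ⟨r, hr⟩ := QuotientGroup.mk_surjective (a.symm z)
    have hsum : ∀ u v : F, a.symm (u + v) = a.symm u * a.symm v := fun u v =>
      a.injective (by rw [ha, Equiv.apply_symm_apply, Equiv.apply_symm_apply, Equiv.apply_symm_apply])
    simp only [q, hsum, ← hp, ← hp', ← hr]
    have hs3 := hs_mul (p * p') r
    rw [QuotientGroup.mk_mul] at hs3
    simp only [hs3, hs_mul, hcm_mul, hb]
    linear_combination (b (cm p r) + b (cm p' r) + b (cm p p') + 2 * b (s (p : P ⧸ Z)) +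
      2 * b (s (p' : P ⧸ Z)) + 2 * b (s (r : P ⧸ Z))) * (CharTwo.two_eq_zero : (2 : F) = 0)
  have hχ0 : χ 0 = 0 := by show q 0 * c₀⁻¹ = 0; simp [hq0]
  have hχquad : ∀ x y z : F,
      χ (x + y + z) + χ (x + y) + χ (x + z) + χ (y + z) + χ x + χ y + χ z = 0 := fun x y z => by
    show q (x + y + z) * c₀⁻¹ + q (x + y) * c₀⁻¹ + q (x + z) * c₀⁻¹ + q (y + z) * c₀⁻¹ +
      q x * c₀⁻¹ + q y * c₀⁻¹ + q z * c₀⁻¹ = 0
    simp only [← add_mul, hq_quad, zero_mul]
  obtain ⟨σ₁, τ₁, hχ⟩ := monomial_of_multiplicative χ hχ0 hχquad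
  let φ : F ≃+* F := τ₁.trans σ₁.symm
  let cc : Z → F := fun z => σ₁.symm (b z * c₀⁻¹)
  have hcc_s : ∀ p : P, cc (s (p : P ⧸ Z)) = φ (a (p : P ⧸ Z)) * a (p : P ⧸ Z) := fun p => by
    have h1 := hχ (a (p : P ⧸ Z))
    have h2 : χ (a (p : P ⧸ Z)) = b (s (p : P ⧸ Z)) * c₀⁻¹ := by
      show q _ * c₀⁻¹ = _
      simp [q]
    rw [h2] at h1
    show σ₁.symm (b (s (p : P ⧸ Z)) * c₀⁻¹) = σ₁.symm (τ₁ (a (p : P ⧸ Z))) * a (p : P ⧸ Z)
    rw [h1, map_mul, RingEquiv.symm_apply_apply, mul_comm]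
  have hφinj : Function.Injective fun x => x * φ x := by
    intro x y hxy
    apply hq_bij.1
    have hx := hχ x
    have hy := hχ y
    have e : ∀ w, σ₁ w * τ₁ w = σ₁ (w * φ w) := fun w => by simp [φ, map_mul]
    rw [e] at hx hy
    have h1 : q x * c₀⁻¹ = q y * c₀⁻¹ :=
      hx.trans ((congrArg σ₁ hxy).trans hy.symm)
    exact mul_right_cancel₀ (inv_ne_zero hc₀0) h1
  have hφ1 : φ ≠ RingEquiv.refl F := by
    intro e
    obtain ⟨p, p', hpp⟩ := hnc
    apply hpp
    have hadd : ∀ u v : P ⧸ Z, s (u * v) = s u * s v := fun u v => by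
      apply b.injective
      apply mul_right_cancel₀ (inv_ne_zero hc₀0)
      apply σ₁.symm.injective
      obtain ⟨u, rfl⟩ := QuotientGroup.mk_surjective u
      obtain ⟨v, rfl⟩ := QuotientGroup.mk_surjective v
      show cc (s _) = σ₁.symm (b (s (u : P ⧸ Z) * s (v : P ⧸ Z)) * c₀⁻¹)
      rw [hb, add_mul, map_add, ← QuotientGroup.mk_mul]
      show _ = cc (s (u : P ⧸ Z)) + cc (s (v : P ⧸ Z))
      rw [hcc_s, hcc_s, hcc_s, e, QuotientGroup.mk_mul, ha]
      show (a _ + a _) * (a _ + a _) = _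
      rw [CharTwo.add_mul_self]
      rfl
    have h2 := hs_mul p' p
    rw [hadd, mul_assoc] at h2
    have h3 : cm p' p = 1 := mul_eq_right.mp h2.symm
    have h4 : p * p' * p⁻¹ * p'⁻¹ = 1 := congrArg Subtype.val h3
    rwa [mul_inv_eq_one, mul_inv_eq_iff_eq_mul] at h4
  refine ⟨F, inferInstance, inferInstance, φ, hFcard, hφ1, odd_order_of_injective φ hφinj, ?_⟩
  haveI := finite_typeA (F := F) (φ := (φ : F →+* F))
  let aM : P ⧸ Z ≃* Multiplicative F :=
    { a.trans Multiplicative.ofAdd with map_mul' := fun u v => congrArg Multiplicative.ofAdd (ha u v) }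
  let π : P →* Multiplicative F := aM.toMonoidHom.comp (QuotientGroup.mk' Z)
  have hker : π.ker = Z := by
    ext p
    rw [MonoidHom.mem_ker, MonoidHom.comp_apply, MulEquiv.coe_toMonoidHom, MulEquiv.map_eq_one_iff,
      QuotientGroup.mk'_apply, QuotientGroup.eq_one_iff]
  let ccE : Z ≃* Multiplicative F :=
    { b.trans ((Equiv.mulRight₀ c₀⁻¹ (inv_ne_zero hc₀0)).trans
        (σ₁.symm.toEquiv.trans Multiplicative.ofAdd)) with
      map_mul' := fun u v => by
        show Multiplicative.ofAdd (σ₁.symm (b (u * v) * c₀⁻¹)) = _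
        rw [hb, add_mul, map_add, ofAdd_add]
        rfl }
  let ι : π.ker ≃* (taFst (φ : F →+* F)).ker :=
    ((MulEquiv.subgroupCongr hker).trans ccE).trans (taKerEquiv _)
  refine iso_of_squares π (taFst _) (aM.surjective.comp (QuotientGroup.mk'_surjective Z))
    taFst_surjective ι fun p g hpg => ?_
  obtain ⟨x, y, rfl⟩ := taEl_surj g
  have hx : a (p : P ⧸ Z) = x := Multiplicative.ofAdd.injective hpg
  refine ⟨⟨p * p, by rw [hker]; exact hsq p⟩, rfl, ?_⟩
  refine Subtype.ext ?_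
  show ta _ 0 (cc ⟨p * p, hsq p⟩) = ta _ x y * ta _ x y
  rw [ta_sq, show (⟨p * p, hsq p⟩ : Z) = s (p : P ⧸ Z) from Subtype.ext (hs_mk p).symm, hcc_s, hx]
  rfl

end Cfsg.Agent.H38
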