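import Cfsg.Agent.H38.SuzukiCentre
import Cfsg.Agent.H38.FieldCoords
import Cfsg.Agent.H38.FieldEndo
import Cfsg.Agent.H24.Nilp

/-! A non-abelian 2-group with an odd-order automorphism transitive on its (at least two)
involutions has class two (G. Higman). -/

set_option autoImplicit false

namespace Cfsg.Agent.H38

open scoped IsMulCommutative

universe u

variable {P : Type u} [Group P] [Finite P]

omit [Finite P] in
lemma commute_commutator {a : P} (ha : ∀ p : P, p * a * p⁻¹ * a⁻¹ ∈ Subgroup.center P) :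
    ∀ w ∈ commutator P, w * a = a * w := by
  let f : P →* Subgroup.center P := MonoidHom.mk' (fun p => ⟨_, ha p⟩) fun p q => Subtype.ext <| by
    show p * q * a * (p * q)⁻¹ * a⁻¹ = p * a * p⁻¹ * a⁻¹ * (q * a * q⁻¹ * a⁻¹)
    have hq := Subgroup.mem_center_iff.mp (ha q) (p * a * p⁻¹ * a⁻¹)
    rw [hq]
    have hq2 := Subgroup.mem_center_iff.mp (ha q) p
    calc p * q * a * (p * q)⁻¹ * a⁻¹
        = p * (q * a * q⁻¹ * a⁻¹) * (a * p⁻¹ * a⁻¹) := by group
      _ = _ := by rw [hq2]; group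
  intro w hw
  have h1 : f w = 1 := Abelianization.commutator_subset_ker f hw
  have h2 : w * a * w⁻¹ * a⁻¹ = 1 := congrArg Subtype.val h1
  rwa [mul_inv_eq_one, mul_inv_eq_iff_eq_mul] at h2

omit [Finite P] in
lemma commutator_mem' (x y : P) : x * y * x⁻¹ * y⁻¹ ∈ commutator P := by
  rw [← commutatorElement_def]
  exact Subgroup.commutator_mem_commutator (Subgroup.mem_top _) (Subgroup.mem_top _)

/-- The decisive step: no minimal invariant piece over the abelian layer `R = P'Z`. -/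
lemma no_piece {σ : MulAut P} (h : TwoHyp P σ) (hnc : ∃ x y : P, x * y ≠ y * x)
    {R : Subgroup P} [IsMulCommutative R] (hR : ∀ x ∈ R, σ x ∈ R) (hZR : Subgroup.center P ≤ R)
    (hP'R : commutator P ≤ R) (hRgen : R ≤ commutator P ⊔ Subgroup.center P)
    (hRsq : ∀ r ∈ R, r * r ∈ Subgroup.center P)
    (hRne : ∃ r ∈ R, r ∉ Subgroup.center P)
    (hRcen : ∀ r ∈ R, ∀ p : P, p * r * p⁻¹ * r⁻¹ ∈ Subgroup.center P)
    (hPsq : ∀ p : P, p * p ∈ R)
    (hW : ∀ x : P, (∀ r ∈ R, x * r = r * x) → x ∈ R)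
    {J : Subgroup P} (hJ : ∀ x ∈ J, σ x ∈ J) (hRJ : R < J)
    (hmin : ∀ S : Subgroup P, (∀ x ∈ S, σ x ∈ S) → R ≤ S → S < J → S = R) : False := by
  classical
  set Z := Subgroup.center P with hZdef
  have hZ2 : ∀ z ∈ Z, z * z = 1 := center_sq_eq_one h hnc
  have hZσ : ∀ x ∈ Z, σ x ∈ Z := center_invariant σ
  have hinvZ : ∀ {w : P}, w * w = 1 → w ∈ Z := fun {w} hw => by
    by_cases hw1 : w = 1
    · exact hw1 ▸ one_mem Z
    · exact ((invol_iff_central h hnc w).mp ⟨hw1, hw⟩).1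
  obtain ⟨u₀, v₀, huv, hu1, hu2, -, -⟩ := h.two
  haveI : Nontrivial Z := ⟨⟨u₀, hinvZ hu2⟩, 1, fun e => hu1 (congrArg Subtype.val e)⟩
  let τ := restrictAut σ Z hZσ
  have hZsq : ∀ z : Z, z * z = 1 := fun z => Subtype.ext (hZ2 _ z.2)
  obtain ⟨n, hn, -, e, lam, he, hlam, hgen⟩ := exists_field_coords hZsq τ fun u v hu hv => by
    obtain ⟨i, hi⟩ := h.trans u v (fun q => hu (Subtype.ext q)) (hZ2 _ u.2)
      (fun q => hv (Subtype.ext q)) (hZ2 _ v.2)
    exact ⟨i, Subtype.ext ((restrictAut_pow_apply hZσ i u).trans hi)⟩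
  haveI : Fact (Nat.Prime 2) := ⟨Nat.prime_two⟩
  have := Fintype.ofFinite (GaloisField 2 n)
  haveI : Finite (GaloisField 2 n ≃+* GaloisField 2 n) := Finite.of_injective
    (fun f => (f : GaloisField 2 n → GaloisField 2 n)) DFunLike.coe_injective
  have := Fintype.ofFinite (GaloisField 2 n ≃+* GaloisField 2 n)
  have he1 : e 1 = 0 := by have := he 1 1; rw [one_mul] at this; exact left_eq_add.mp this
  have hecong : ∀ {a b : P} (ha : a ∈ Z) (hb : b ∈ Z), a = b → e ⟨a, ha⟩ = e ⟨b, hb⟩ :=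
    fun _ _ q => congrArg e (Subtype.ext q)
  -- the square coordinate on `R`
  let ρ : P → GaloisField 2 n := fun p => if hp : p * p ∈ Z then e ⟨p * p, hp⟩ else 0
  have hρ : ∀ {r} (hr : r ∈ R), ρ r = e ⟨r * r, hRsq r hr⟩ := fun hr => dif_pos (hRsq _ hr)
  have hRcomm : ∀ {a b : P}, a ∈ R → b ∈ R → a * b = b * a := fun ha hb =>
    congrArg Subtype.val (mul_comm (⟨_, ha⟩ : R) ⟨_, hb⟩)
  have hρmul : ∀ {a b : P}, a ∈ R → b ∈ R → ρ (a * b) = ρ a + ρ b := fun {a b} ha hb => by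
    rw [hρ ha, hρ hb, hρ (mul_mem ha hb), ← he]
    refine hecong _ (mul_mem (hRsq a ha) (hRsq b hb)) ?_
    rw [show a * b * (a * b) = a * (b * a) * b by group, ← hRcomm ha hb]; group
  have hρ0 : ∀ {r}, r ∈ R → (ρ r = 0 ↔ r ∈ Z) := fun {r} hr => by
    rw [hρ hr, ← he1, e.apply_eq_iff_eq, Subtype.ext_iff]
    exact ⟨fun q => hinvZ q, fun q => hZ2 r q⟩
  have hρσ : ∀ {r}, r ∈ R → ρ (σ r) = lam * ρ r := fun {r} hr => by
    rw [hρ hr, hρ (hR r hr), ← hlam]
    exact hecong _ (τ ⟨r * r, hRsq r hr⟩).2 (map_mul σ r r).symm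
  have hRn : ∀ {r} (p : P), r ∈ R → p * r * p⁻¹ ∈ R := fun {r} p hr => by
    rw [show p * r * p⁻¹ = p * r * p⁻¹ * r⁻¹ * r by group]
    exact mul_mem (hZR (hRcen r hr p)) hr
  have hρconj : ∀ {r} (p : P), r ∈ R → ρ (p * r * p⁻¹) = ρ r := fun {r} p hr => by
    rw [show p * r * p⁻¹ = p * r * p⁻¹ * r⁻¹ * r by group, hρmul (hZR (hRcen r hr p)) hr,
      (hρ0 (hZR (hRcen r hr p))).mpr (hRcen r hr p), zero_add]
  obtain ⟨r₀, hr₀, hr₀Z⟩ := hRne
  have hρsurj : ∀ u, ∃ r ∈ R, ρ r = u := by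
    intro u
    by_cases hu : u = 0
    · exact ⟨1, one_mem R, hu ▸ (hρ0 (one_mem R)).mpr (one_mem Z)⟩
    obtain ⟨i, hi⟩ := hgen (u / ρ r₀) (div_ne_zero hu (mt (hρ0 hr₀).mp hr₀Z))
    have key : ∀ j : ℕ, ρ ((σ ^ j) r₀) = lam ^ j * ρ r₀ := fun j => by
      induction j with
      | zero => simp
      | succ j ih =>
        rw [pow_succ', MulAut.mul_apply, hρσ (aut_pow_mem hR j hr₀), ih, pow_succ', mul_assoc]
    refine ⟨(σ ^ i) r₀, aut_pow_mem hR i hr₀, ?_⟩
    rw [key, hi, div_mul_cancel₀ _ (mt (hρ0 hr₀).mp hr₀Z)]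
  choose sec hsec hρsec using hρsurj
  -- the action of `P` on `R`, as additive maps of the field
  let d : P → P → GaloisField 2 n := fun p r =>
    if hr : p * r * p⁻¹ * r⁻¹ ∈ Z then e ⟨_, hr⟩ else 0
  have hd : ∀ p {r}, (hr : r ∈ R) → d p r = e ⟨_, hRcen r hr p⟩ :=
    fun p r hr => dif_pos (hRcen r hr p)
  have hdr : ∀ p {a b}, a ∈ R → b ∈ R → d p (a * b) = d p a + d p b := fun p {a b} ha hb => by
    rw [hd p ha, hd p hb, hd p (mul_mem ha hb), ← he]
    refine hecong _ (mul_mem (hRcen a ha p) (hRcen b hb p)) ?_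
    have hc := Subgroup.mem_center_iff.mp (hRcen b hb p) a
    calc p * (a * b) * p⁻¹ * (a * b)⁻¹
        = p * a * p⁻¹ * a⁻¹ * (a * (p * b * p⁻¹ * b⁻¹) * a⁻¹) := by group
      _ = _ := by rw [hc, mul_inv_cancel_right]
  have hdl : ∀ p p' {r}, r ∈ R → d (p * p') r = d p r + d p' r := fun p p' {r} hr => by
    rw [hd _ hr, hd _ hr, hd _ hr, ← he]
    refine hecong _ (mul_mem (hRcen r hr p) (hRcen r hr p')) ?_
    have hc := Subgroup.mem_center_iff.mp (hRcen r hr p') p
    have hc' := Subgroup.mem_center_iff.mp (hRcen r hr p') (p * r * p⁻¹ * r⁻¹)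
    calc p * p' * r * (p * p')⁻¹ * r⁻¹
        = p * (p' * r * p'⁻¹ * r⁻¹) * p⁻¹ * (p * r * p⁻¹ * r⁻¹) := by group
      _ = _ := by rw [hc, mul_inv_cancel_right, hc']
  have hdσ : ∀ p {r}, r ∈ R → d (σ p) (σ r) = lam * d p r := fun p {r} hr => by
    rw [hd _ (hR r hr), hd _ hr, ← hlam]
    exact hecong _ (τ ⟨_, hRcen r hr p⟩).2 (by
      show _ = σ _
      simp [map_mul, map_inv])
  have hdz : ∀ p {z}, z ∈ Z → d p z = 0 := fun p {z} hz => by
    rw [hd p (hZR hz), ← he1]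
    exact hecong _ (one_mem Z) (by
      rw [Subgroup.mem_center_iff.mp hz p, mul_inv_cancel_right, mul_inv_cancel])
  have hdwell : ∀ p {a b}, a ∈ R → b ∈ R → ρ a = ρ b → d p a = d p b := fun p {a b} ha hb q => by
    have hz : a⁻¹ * b ∈ Z := (hρ0 (mul_mem (inv_mem ha) hb)).mp (by
      have h1 := hρmul ha (mul_mem (inv_mem ha) hb)
      rw [mul_inv_cancel_left, ← q] at h1
      exact left_eq_add.mp h1)
    have h1 := hdr p ha (hZR hz)
    rwa [mul_inv_cancel_left, hdz p hz, add_zero, eq_comm] at h1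
  let Dm : P → (GaloisField 2 n →+ GaloisField 2 n) := fun p =>
    AddMonoidHom.mk' (fun u => d p (sec u)) fun u v => by
      rw [← hdr p (hsec u) (hsec v)]
      exact hdwell p (hsec _) (mul_mem (hsec u) (hsec v))
        (by rw [hρmul (hsec u) (hsec v), hρsec, hρsec, hρsec])
  have hDm : ∀ p {r}, r ∈ R → Dm p (ρ r) = d p r := fun p {r} hr =>
    hdwell p (hsec _) hr (hρsec _)
  choose c hc using fun p => additive_eq_sum (Dm p)
  have hcl : ∀ p p' ψ, c (p * p') ψ = c p ψ + c p' ψ := fun p p' => congrFun <|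
    autos_coeff_unique (c := c (p * p')) (c' := fun ψ => c p ψ + c p' ψ) fun u => by
      rw [← hc]
      simp only [add_mul, Finset.sum_add_distrib, ← hc]
      exact hdl p p' (hsec u)
  have hc1 : ∀ ψ, c 1 ψ = 0 := fun ψ => by
    have := hcl 1 1 ψ; rw [one_mul] at this; exact left_eq_add.mp this
  have hlam0 : lam ≠ 0 := fun q => by
    obtain ⟨z, hz⟩ := exists_ne (1 : Z)
    have h0 := hlam z
    rw [q, zero_mul, ← he1] at h0
    exact hz ((MulEquiv.map_eq_one_iff τ).mp (e.injective h0))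
  have hcσ : ∀ p ψ, c (σ p) ψ = lam / ψ lam * c p ψ := fun p ψ => by
    have h1 := autos_coeff_unique (c := fun χ => c (σ p) χ * χ lam) (c' := fun χ => lam * c p χ)
      fun u => by
        have h2 : Dm (σ p) (lam * u) = lam * Dm p u := by
          rw [← hρsec u, ← hρσ (hsec u), hDm _ (hR _ (hsec u)), hdσ _ (hsec u), hDm _ (hsec u)]
        rw [hc, hc] at h2
        simpa [Finset.mul_sum, mul_assoc] using h2
    have h3 := congrFun h1 ψ
    have hψ : ψ lam ≠ 0 := by simpa using hlam0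
    field_simp
    linear_combination h3
  have hciter : ∀ (i : ℕ) p ψ, c ((σ ^ i) p) ψ = lam ^ i / ψ (lam ^ i) * c p ψ := fun i => by
    induction i with
    | zero => simp
    | succ i ih =>
      intro p ψ
      rw [pow_succ', MulAut.mul_apply, hcσ, ih, pow_succ', map_mul]
      field_simp
  have hzeroR : ∀ p, (∀ ψ, c p ψ = 0) → p ∈ R := fun p hp => hW p fun r hr => by
    have h0 : d p r = 0 := by rw [← hDm p hr, hc]; simp [hp]
    rw [hd p hr, ← he1] at h0
    have h2 : p * r * p⁻¹ * r⁻¹ = 1 := congrArg Subtype.val (e.injective h0)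
    rwa [mul_inv_eq_one, mul_inv_eq_iff_eq_mul] at h2
  have hRzero : ∀ p ∈ R, ∀ ψ, c p ψ = 0 := fun p hp => congrFun <|
    autos_coeff_unique (c := c p) (c' := fun _ => 0) fun u => by
      rw [← hc]
      show d p (sec u) = _
      rw [hd p (hsec u)]
      refine Eq.trans ?_ (by simp : (0 : GaloisField 2 n) = _)
      rw [← he1]
      exact hecong _ (one_mem Z) (by
        rw [hRcomm hp (hsec u), mul_inv_cancel_right, mul_inv_cancel])
  obtain ⟨t₀, ht₀, ht₀R⟩ := SetLike.exists_of_lt hRJ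
  obtain ⟨φ, hφ₀⟩ : ∃ φ, c t₀ φ ≠ 0 := by
    by_contra hh
    push Not at hh
    exact ht₀R (hzeroR t₀ hh)
  let K : Subgroup P :=
    { carrier := {p | p ∈ J ∧ c p φ = 0}
      one_mem' := ⟨one_mem J, hc1 φ⟩
      mul_mem' := fun {a b} ha hb => ⟨mul_mem ha.1 hb.1, by rw [hcl, ha.2, hb.2, add_zero]⟩
      inv_mem' := fun {a} ha => ⟨inv_mem ha.1, by
        have := hcl a⁻¹ a φ
        rw [inv_mul_cancel, hc1, ha.2, add_zero] at this
        exact this.symm⟩ }
  have hKR : K = R := hmin K (fun x hx => ⟨hJ x hx.1, by rw [hcσ, hx.2, mul_zero]⟩)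
    (fun r hr => ⟨hRJ.le hr, hRzero r hr φ⟩)
    (lt_of_le_of_ne (fun x hx => hx.1) fun q => hφ₀ (q ▸ ht₀ : t₀ ∈ K).2)
  have hker : ∀ {a b}, a ∈ J → b ∈ J → c a φ = c b φ → a⁻¹ * b ∈ R := fun {a b} ha hb q => by
    rw [← hKR]
    refine ⟨mul_mem (inv_mem ha) hb, ?_⟩
    have := hcl a (a⁻¹ * b) φ
    rw [mul_inv_cancel_left, ← q] at this
    exact left_eq_add.mp this
  -- the fixed field of `φ` is the prime field
  obtain ⟨N, hNodd, hN⟩ := h.odd
  have hfix : ∀ a, a ≠ 0 → φ a = a → a = 1 := by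
    intro a ha hφa
    obtain ⟨i, rfl⟩ := hgen a ha
    have hq : c t₀ φ = c ((σ ^ i) t₀) φ := by rw [hciter, hφa, div_self ha, one_mul]
    have hy := hker ht₀ (aut_pow_mem hJ i ht₀) hq
    obtain ⟨w, hw, hwfix⟩ := exists_fixed_of_coset h.pgroup hNodd
      (σ := σ ^ i) (by rw [← pow_mul, mul_comm, pow_mul, hN, one_pow])
      (fun x hx => aut_pow_mem hR i hx) hy
    obtain ⟨k, hk1, hk2⟩ := h.exists_pow_invol (x := t₀ * w) fun q => ht₀R (by
      rw [eq_inv_of_mul_eq_one_left q]; exact inv_mem hw)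
    set z : Z := ⟨(t₀ * w) ^ 2 ^ k, hinvZ hk2⟩ with hz
    have hτ : ∀ j, e ((τ ^ j) z) = lam ^ j * e z := fun j => by
      induction j with
      | zero => simp
      | succ j ih => rw [pow_succ', MulAut.mul_apply, hlam, ih, pow_succ', mul_assoc]
    have hz0 : e z ≠ 0 := fun q => hk1 (congrArg Subtype.val (e.injective (q.trans he1.symm)))
    have h2 : (τ ^ i) z = z := Subtype.ext (by
      rw [restrictAut_pow_apply, hz]
      show (σ ^ i) ((t₀ * w) ^ 2 ^ k) = _
      rw [map_pow, hwfix])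
    have h3 := hτ i
    rw [h2] at h3
    exact (mul_eq_right₀ hz0).mp h3.symm
  have hrat : Function.Injective fun a : GaloisField 2 n => a / φ a := by
    intro a b (q : a / φ a = b / φ b)
    by_cases hb : b = 0
    · subst hb
      simpa using q
    by_cases ha : a = 0
    · subst ha
      simp [eq_comm (a := (0 : GaloisField 2 n)), hb] at q
    have hb' : φ b ≠ 0 := by simpa using hb
    have ha' : φ a ≠ 0 := by simpa using ha
    have := hfix (a / b) (div_ne_zero ha hb) (by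
      rw [map_div₀, div_eq_div_iff hb' hb]
      rw [div_eq_div_iff ha' hb'] at q
      linear_combination -q)
    exact (div_eq_one_iff_eq hb).mp this
  have hratsurj := Finite.injective_iff_surjective.mp hrat
  have hJsurj : ∀ v, ∃ t ∈ J, c t φ = v := by
    intro v
    by_cases hv : v = 0
    · exact ⟨1, one_mem J, hv ▸ hc1 φ⟩
    obtain ⟨a, ha⟩ := hratsurj (v / c t₀ φ)
    have ha0 : a ≠ 0 := fun q => by
      rw [q] at ha; simp only [map_zero, div_zero] at ha
      exact div_ne_zero hv hφ₀ ha.symm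
    obtain ⟨i, rfl⟩ := hgen a ha0
    refine ⟨(σ ^ i) t₀, aut_pow_mem hJ i ht₀, ?_⟩
    simp only at ha
    rw [hciter, ha, div_mul_cancel₀ _ hφ₀]
  choose tv htv hctv using hJsurj
  -- only `φ` occurs on `J`
  have hmono : ∀ t ∈ J, ∀ ψ, ψ ≠ φ → c t ψ = 0 := by
    intro t ht ψ hψ
    by_contra hne
    have hd₀ : c t₀ ψ ≠ 0 := by
      intro q
      apply hne
      obtain ⟨a, ha⟩ := hratsurj (c t φ / c t₀ φ)
      simp only at ha
      by_cases ha0 : a = 0
      · have : c t φ = c 1 φ := by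
          rw [ha0, zero_div, eq_comm, div_eq_zero_iff] at ha
          rw [hc1]; exact ha.resolve_right hφ₀
        have h4 := hRzero _ (hker (one_mem J) ht this.symm) ψ
        rwa [inv_one, one_mul] at h4
      obtain ⟨i, rfl⟩ := hgen a ha0
      have h3 := hker (aut_pow_mem hJ i ht₀) ht (by rw [hciter, ha, div_mul_cancel₀ _ hφ₀])
      have h4 := hcl ((σ ^ i) t₀) (((σ ^ i) t₀)⁻¹ * t) ψ
      rwa [mul_inv_cancel_left, hRzero _ h3 ψ, hciter, q, mul_zero, add_zero] at h4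
    let H : GaloisField 2 n → GaloisField 2 n := fun v => c (tv (v * c t₀ φ)) ψ / c t₀ ψ
    have hwellψ : ∀ {a b}, a ∈ J → b ∈ J → c a φ = c b φ → c a ψ = c b ψ := fun {a b} ha hb q => by
      have := hcl a (a⁻¹ * b) ψ
      rw [mul_inv_cancel_left, hRzero _ (hker ha hb q) ψ, add_zero] at this
      exact this.symm
    have hHval : ∀ a, H (a / φ a) = a / ψ a := fun a => by
      by_cases ha : a = 0
      · subst ha
        have := hwellψ (htv ((0 : GaloisField 2 n) / φ 0 * c t₀ φ)) (one_mem J)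
          (by rw [hctv, hc1]; simp)
        simp only [H, this, hc1]; simp
      obtain ⟨i, rfl⟩ := hgen a ha
      have := hwellψ (htv (lam ^ i / φ (lam ^ i) * c t₀ φ)) (aut_pow_mem hJ i ht₀)
        (by rw [hctv, hciter])
      simp only [H, this, hciter, mul_div_assoc, div_self hd₀, mul_one]
    have hHadd : ∀ v w, H (v + w) = H v + H w := fun v w => by
      simp only [H, ← add_div, ← hcl]
      congr 1
      exact hwellψ (htv _) (mul_mem (htv _) (htv _)) (by rw [hcl, hctv, hctv, hctv, add_mul])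
    have hHmul : ∀ v w, H (v * w) = H v * H w := fun v w => by
      obtain ⟨a, rfl⟩ := hratsurj v
      obtain ⟨b, rfl⟩ := hratsurj w
      simp only
      rw [div_mul_div_comm, ← map_mul, hHval, hHval, hHval, map_mul, div_mul_div_comm]
    have hH1 : H 1 = 1 := by
      have := hHval 1
      simpa using this
    let θ : GaloisField 2 n →+* GaloisField 2 n :=
      RingHom.mk' ⟨⟨H, hH1⟩, hHmul⟩ hHadd
    have hθinj : Function.Injective θ := θ.injective
    have key : ∀ a, θ a * ψ a = a * θ (φ a) := fun a => by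
      by_cases ha : a = 0
      · simp [ha]
      have h5 : θ (a / φ a) = a / ψ a := hHval a
      rw [map_div₀, div_eq_div_iff (by simpa using ha) (by simpa using ha)] at h5
      exact h5
    have key2 : ∀ a, θ a + ψ a = a + θ (φ a) := fun a => by
      have := key (a + 1)
      simp only [map_add, map_one] at this
      linear_combination this - key a
    have hθid : ∀ a, θ a = a := fun a => by
      have h6 : (θ a - a) * (θ a - θ (φ a)) = 0 := by
        linear_combination (θ a) * key2 a - key a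
      rcases mul_eq_zero.mp h6 with h7 | h7
      · exact sub_eq_zero.mp h7
      by_cases ha : a = 0
      · simp [ha]
      have := hfix a ha (hθinj (sub_eq_zero.mp h7)).symm
      simp [this]
    refine hψ (RingEquiv.ext fun a => ?_)
    have := key2 a
    rw [hθid, hθid] at this
    exact add_left_cancel this
  have hDt : ∀ t ∈ J, ∀ u, Dm t u = c t φ * φ u := fun t ht u => by
    rw [hc]
    exact Finset.sum_eq_single φ (fun ψ _ hψ => by rw [hmono t ht ψ hψ, zero_mul]) (by simp)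
  have hJsq : ∀ t ∈ J, t * t ∈ Z := fun t ht => by
    by_cases htR : t ∈ R
    · exact hRsq t htR
    have hct : c t φ ≠ 0 := fun q => htR (hKR ▸ (⟨ht, q⟩ : t ∈ K))
    have h1 : d t (t * t) = 0 := by
      rw [hd t (hPsq t), ← he1]
      exact hecong _ (one_mem Z) (by group)
    rw [← hDm t (hPsq t), hDt t ht, mul_eq_zero, or_iff_right hct] at h1
    exact (hρ0 (hPsq t)).mp (by simpa using h1)
  -- commutators with `J`
  have hkR : ∀ y t : P, y * t * y⁻¹ * t⁻¹ ∈ R := fun y t => hP'R (commutator_mem' y t)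
  let g : P → P → GaloisField 2 n := fun y t => ρ (y * t * y⁻¹ * t⁻¹)
  have hgr : ∀ y t t', g y (t * t') = g y t + g y t' := fun y t t' => by
    show ρ _ = ρ _ + ρ _
    rw [show y * (t * t') * y⁻¹ * (t * t')⁻¹ =
      y * t * y⁻¹ * t⁻¹ * (t * (y * t' * y⁻¹ * t'⁻¹) * t⁻¹) by group,
      hρmul (hkR y t) (hRn t (hkR y t')), hρconj t (hkR y t')]
  have hgl : ∀ y y' t, g (y * y') t = g y t + g y' t := fun y y' t => by
    show ρ _ = ρ _ + ρ _
    rw [show y * y' * t * (y * y')⁻¹ * t⁻¹ =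
      y * (y' * t * y'⁻¹ * t⁻¹) * y⁻¹ * (y * t * y⁻¹ * t⁻¹) by group,
      hρmul (hRn y (hkR y' t)) (hkR y t), hρconj y (hkR y' t), add_comm]
  have hgR : ∀ y {r}, r ∈ R → g y r = 0 := fun y {r} hr =>
    (hρ0 (hkR y r)).mpr (hRcen r hr y)
  have hgfix : ∀ y, ∀ t ∈ J, g y t = c t φ * φ (g y t) := fun y t ht => by
    set k := y * t * y⁻¹ * t⁻¹ with hk
    have hkR' : k ∈ R := hkR y t
    have h1 : k * (t * k * t⁻¹) = 1 := by
      have h2 : y * (t * t) * y⁻¹ = t * t := by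
        rw [Subgroup.mem_center_iff.mp (hJsq t ht) y, mul_inv_cancel_right]
      rw [show k * (t * k * t⁻¹) = y * (t * t) * y⁻¹ * (t * t)⁻¹ by rw [hk]; group, h2,
        mul_inv_cancel]
    have hz : t * k * t⁻¹ * k⁻¹ ∈ Z := hRcen k hkR' t
    have h3 : k * k = t * k * t⁻¹ * k⁻¹ := by
      have h4 : k * (t * k * t⁻¹ * k⁻¹) * k = 1 := by simpa [mul_assoc] using h1
      rw [Subgroup.mem_center_iff.mp hz k, mul_assoc] at h4
      rw [eq_inv_of_mul_eq_one_right h4, inv_eq_of_mul_eq_one_right (hZ2 _ hz)]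
    show ρ k = _ * φ (ρ k)
    rw [← hDt t ht, hDm t hkR', hρ hkR', hd t hkR']
    exact hecong _ hz h3
  have hgwell : ∀ y {a b}, a ∈ J → b ∈ J → c a φ = c b φ → g y a = g y b := fun y {a b} ha hb q => by
    have := hgr y a (a⁻¹ * b)
    rw [mul_inv_cancel_left, hgR y (hker ha hb q), add_zero] at this
    exact this.symm
  have hG : ∀ y v w, g y (tv (v + w)) = g y (tv v) + g y (tv w) := fun y v w => by
    rw [← hgr]
    exact hgwell y (htv _) (mul_mem (htv _) (htv _)) (by rw [hcl, hctv, hctv, hctv])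
  let Y : Subgroup P :=
    { carrier := {y | ∀ t ∈ J, g y t = 0}
      one_mem' := fun t _ => by
        show ρ _ = 0
        simpa using (hρ0 (one_mem R)).mpr (one_mem Z)
      mul_mem' := fun {a b} ha hb t ht => by rw [hgl, ha t ht, hb t ht, add_zero]
      inv_mem' := fun {a} ha t ht => by
        have := hgl a⁻¹ a t
        rw [inv_mul_cancel, ha t ht, add_zero] at this
        rw [← this]
        show ρ _ = 0
        simpa using (hρ0 (one_mem R)).mpr (one_mem Z) }
  -- all elements outside `Y` induce the same map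
  have hsame : ∀ y, y ∉ Y → ∀ v, v ≠ 0 → g y (tv v) ≠ 0 := by
    intro y hy v hv hv0
    apply hy
    intro t ht
    by_contra hne
    set w := c t φ
    have hgt : g y (tv w) ≠ 0 := by
      rwa [← hgwell y ht (htv w) (hctv w).symm]
    have h1 := hgfix y _ (htv w)
    have h2 := hgfix y _ (htv (w + v))
    rw [hctv] at h1 h2
    rw [hG, hv0, add_zero] at h2
    have h3 : (w + v) * φ (g y (tv w)) = w * φ (g y (tv w)) := h2.symm.trans h1
    exact hv (add_eq_left.mp (mul_right_cancel₀ (by simpa using hgt) h3))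
  have hdiff : ∀ y y', y ∉ Y → y' ∉ Y → y⁻¹ * y' ∈ Y := by
    intro y y' hy hy' t ht
    have key : g y t = g y' t := by
      by_cases hw : c t φ = 0
      · rw [hgR y (hKR ▸ (⟨ht, hw⟩ : t ∈ K)), hgR y' (hKR ▸ (⟨ht, hw⟩ : t ∈ K))]
      rw [hgwell y ht (htv _) (hctv _).symm, hgwell y' ht (htv _) (hctv _).symm]
      have h1 := hgfix y _ (htv (c t φ))
      have h2 := hgfix y' _ (htv (c t φ))
      rw [hctv] at h1 h2
      apply hrat
      show _ / _ = _ / _
      rw [eq_comm, ← eq_div_iff (by simpa using hsame y hy _ hw)] at h1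
      rw [eq_comm, ← eq_div_iff (by simpa using hsame y' hy' _ hw)] at h2
      rw [← h1, ← h2]
    have := hgl y (y⁻¹ * y') t
    rw [mul_inv_cancel_left, key] at this
    exact left_eq_add.mp this
  have hRY : R ≤ Y := fun r hr t ht => by
    have h1 : r * t * r⁻¹ * t⁻¹ ∈ Z := by
      rw [show r * t * r⁻¹ * t⁻¹ = (t * r * t⁻¹ * r⁻¹)⁻¹ by group]
      exact inv_mem (hRcen r hr t)
    exact (hρ0 (hkR r t)).mpr h1
  have hYσ : ∀ y ∈ Y, σ y ∈ Y := fun y hy t ht => by
    have ht' : σ.symm t ∈ J := by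
      have h1 : (σ ^ (N - 1)) t ∈ J := aut_pow_mem hJ _ ht
      have h2 : σ ((σ ^ (N - 1)) t) = t := by
        rw [← MulAut.mul_apply, ← pow_succ', Nat.sub_add_cancel hNodd.pos, hN, MulAut.one_apply]
      rwa [← h2, MulEquiv.symm_apply_apply]
    have h3 := hy _ ht'
    rw [show t = σ (σ.symm t) from (σ.apply_symm_apply t).symm]
    show ρ _ = 0
    rw [show σ y * σ (σ.symm t) * (σ y)⁻¹ * (σ (σ.symm t))⁻¹ =
      σ (y * σ.symm t * y⁻¹ * (σ.symm t)⁻¹) by simp [map_mul, map_inv], hρσ (hkR _ _)]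
    exact mul_eq_zero_of_right _ h3
  -- `x ↦ x⁻¹σ(x)` is onto modulo `R`
  haveI hRnormal : R.Normal := ⟨fun r hr p => hRn p hr⟩
  have hYtop : ∀ z, z ∈ Y := by
    intro z
    have hwell : ∀ x y : P, x⁻¹ * y ∈ R → (x⁻¹ * σ x)⁻¹ * (y⁻¹ * σ y) ∈ R := fun x y hxy => by
      have h1 : σ (x⁻¹ * y) ∈ R := hR _ hxy
      have h2 : x * y⁻¹ ∈ R := by
        have := hRn x (inv_mem hxy)
        rwa [show x * (x⁻¹ * y)⁻¹ * x⁻¹ = x * y⁻¹ by group] at this
      have h3 := hRn (σ x)⁻¹ h2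
      rw [show (x⁻¹ * σ x)⁻¹ * (y⁻¹ * σ y) =
        (σ x)⁻¹ * (x * y⁻¹) * (σ x)⁻¹⁻¹ * σ (x⁻¹ * y) by rw [map_mul, map_inv]; group]
      exact mul_mem h3 h1
    let F' : P ⧸ R → P ⧸ R := Quotient.lift (fun x => ((x⁻¹ * σ x : P) : P ⧸ R)) fun x y hxy =>
      QuotientGroup.eq.mpr (hwell x y (QuotientGroup.leftRel_apply.mp hxy))
    have hinj : Function.Injective F' := by
      intro a b
      obtain ⟨x, rfl⟩ := QuotientGroup.mk_surjective a
      obtain ⟨y, rfl⟩ := QuotientGroup.mk_surjective b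
      intro q
      have q' : (x⁻¹ * σ x)⁻¹ * (y⁻¹ * σ y) ∈ R := QuotientGroup.eq.mp q
      refine QuotientGroup.eq.mpr ?_
      have hyx : (y * x⁻¹)⁻¹ * σ (y * x⁻¹) ∈ R := by
        have h4 := hRn (σ x) q'
        rw [show σ x * ((x⁻¹ * σ x)⁻¹ * (y⁻¹ * σ y)) * (σ x)⁻¹ =
          x * y⁻¹ * σ (y * x⁻¹) by rw [map_mul, map_inv]; group] at h4
        rw [show (y * x⁻¹)⁻¹ = x * y⁻¹ by group]
        exact h4
      have := hRn x⁻¹ (h.coset_fix hR hyx)
      rwa [show x⁻¹ * (y * x⁻¹) * x⁻¹⁻¹ = x⁻¹ * y by group] at this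
    obtain ⟨a, ha⟩ := (Finite.injective_iff_surjective.mp hinj) (z : P ⧸ R)
    obtain ⟨x, rfl⟩ := QuotientGroup.mk_surjective a
    have hx : x⁻¹ * σ x ∈ Y := by
      by_cases hxY : x ∈ Y
      · exact mul_mem (inv_mem hxY) (hYσ x hxY)
      refine hdiff x (σ x) hxY fun q => hxY ?_
      have h1 := aut_pow_mem hYσ (N - 1) q
      rwa [← MulAut.mul_apply, ← pow_succ, Nat.sub_add_cancel hNodd.pos, hN,
        MulAut.one_apply] at h1
    have := mul_mem hx (hRY (QuotientGroup.eq.mp ha))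
    rwa [mul_inv_cancel_left] at this
  apply ht₀R
  have hcen₀ : ∀ p, p * t₀ * p⁻¹ * t₀⁻¹ ∈ Z := fun p =>
    (hρ0 (hkR p t₀)).mp (hYtop p t₀ ht₀)
  refine hW t₀ fun r hr => ?_
  have : R ≤ Subgroup.centralizer {t₀} := by
    refine hRgen.trans (sup_le ?_ ?_)
    · exact fun w hw => Subgroup.mem_centralizer_singleton_iff.mpr (commute_commutator hcen₀ w hw)
    · exact fun z hz => Subgroup.mem_centralizer_singleton_iff.mpr
        (Subgroup.mem_center_iff.mp hz t₀).symm
  exact (Subgroup.mem_centralizer_singleton_iff.mp (this hr)).symm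

end Cfsg.Agent.H38
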