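import Cfsg.Agent.H38.Homocyclic

/-! 2-groups with an odd-order automorphism transitive on at least two involutions. -/

set_option autoImplicit false

namespace Cfsg.Agent.H38

variable {P : Type*} [Group P]

/-- An odd-order automorphism whose powers are transitive on the (at least two) involutions. -/
structure TwoHyp (P : Type*) [Group P] (σ : MulAut P) : Prop where
  pgroup : IsPGroup 2 P
  trans : ∀ x y : P, x ≠ 1 → x * x = 1 → y ≠ 1 → y * y = 1 → ∃ i : ℕ, (σ ^ i) x = y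
  odd : ∃ N : ℕ, Odd N ∧ σ ^ N = 1
  two : ∃ x y : P, x ≠ y ∧ x ≠ 1 ∧ x * x = 1 ∧ y ≠ 1 ∧ y * y = 1

variable {σ : MulAut P}

lemma aut_pow_mem {S : Subgroup P} (hS : ∀ x ∈ S, σ x ∈ S) (i : ℕ) {x : P} (hx : x ∈ S) :
    (σ ^ i) x ∈ S := by
  induction i with
  | zero => simpa
  | succ i ih => rw [pow_succ', MulAut.mul_apply]; exact hS _ ih

lemma aut_pow_fix {x : P} (hx : σ x = x) (i : ℕ) : (σ ^ i) x = x := by
  induction i with
  | zero => simp
  | succ i ih => rw [pow_succ', MulAut.mul_apply, ih, hx]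

lemma TwoHyp.exists_pow_invol (h : TwoHyp P σ) {x : P} (hx : x ≠ 1) :
    ∃ k : ℕ, x ^ 2 ^ k ≠ 1 ∧ x ^ 2 ^ k * x ^ 2 ^ k = 1 := by
  classical
  have hex := h.pgroup x
  have hk := Nat.find_spec hex
  have h0 : Nat.find hex ≠ 0 := fun e => hx (by simpa [e] using hk)
  obtain ⟨j, hj⟩ := Nat.exists_eq_succ_of_ne_zero h0
  refine ⟨j, Nat.find_min hex (by omega), ?_⟩
  rw [← pow_add, ← two_mul, ← pow_succ', ← Nat.succ_eq_add_one, ← hj]
  exact hk

lemma TwoHyp.fix_eq_one (h : TwoHyp P σ) {x : P} (hx : σ x = x) : x = 1 := by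
  by_contra hx1
  obtain ⟨k, hk1, hk2⟩ := h.exists_pow_invol hx1
  obtain ⟨u, v, huv, hu1, hu2, hv1, hv2⟩ := h.two
  obtain ⟨i, hi⟩ := h.trans _ _ hk1 hk2 hu1 hu2
  obtain ⟨j, hj⟩ := h.trans _ _ hk1 hk2 hv1 hv2
  rw [map_pow, aut_pow_fix hx] at hi hj
  exact huv (hi.symm.trans hj)

lemma TwoHyp.invol_mem (h : TwoHyp P σ) {S : Subgroup P} (hS : ∀ x ∈ S, σ x ∈ S) (hne : S ≠ ⊥)
    {u : P} (hu : u * u = 1) : u ∈ S := by
  by_cases hu1 : u = 1
  · exact hu1 ▸ one_mem S
  obtain ⟨x, hxS, hx1⟩ : ∃ x ∈ S, x ≠ 1 := by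
    by_contra hh
    push Not at hh
    exact hne ((Subgroup.eq_bot_iff_forall _).mpr hh)
  obtain ⟨k, hk1, hk2⟩ := h.exists_pow_invol hx1
  obtain ⟨i, hi⟩ := h.trans _ _ hk1 hk2 hu1 hu
  exact hi ▸ aut_pow_mem hS i (pow_mem hxS _)

/-- The restriction of an automorphism to an invariant subgroup of a finite group. -/
noncomputable def restrictAut [Finite P] (σ : MulAut P) (S : Subgroup P)
    (hS : ∀ x ∈ S, σ x ∈ S) : MulAut S :=
  MulEquiv.ofBijective
    ((σ.toMonoidHom.comp S.subtype).codRestrict S fun x => hS x.1 x.2)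
    (Finite.injective_iff_bijective.mp fun x y e =>
      Subtype.ext (σ.injective (congrArg Subtype.val e)))

lemma restrictAut_apply [Finite P] {S : Subgroup P} (hS : ∀ x ∈ S, σ x ∈ S) (x : S) :
    (restrictAut σ S hS x : P) = σ x := rfl

lemma restrictAut_pow_apply [Finite P] {S : Subgroup P} (hS : ∀ x ∈ S, σ x ∈ S) (i : ℕ) (x : S) :
    (((restrictAut σ S hS) ^ i) x : P) = (σ ^ i) (x : P) := by
  induction i with
  | zero => rfl
  | succ i ih => rw [pow_succ', MulAut.mul_apply, restrictAut_apply, ih, pow_succ', MulAut.mul_apply]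

lemma TwoHyp.restrict [Finite P] (h : TwoHyp P σ) {S : Subgroup P} (hS : ∀ x ∈ S, σ x ∈ S)
    (hne : S ≠ ⊥) : TwoHyp S (restrictAut σ S hS) where
  pgroup := h.pgroup.to_subgroup S
  trans := fun x y hx1 hx2 hy1 hy2 => by
    obtain ⟨i, hi⟩ := h.trans x y (fun e => hx1 (Subtype.ext e)) (congrArg Subtype.val hx2)
      (fun e => hy1 (Subtype.ext e)) (congrArg Subtype.val hy2)
    exact ⟨i, Subtype.ext ((restrictAut_pow_apply hS i x).trans hi)⟩
  odd := by
    obtain ⟨N, hN, hN1⟩ := h.odd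
    refine ⟨N, hN, ?_⟩
    ext x
    rw [restrictAut_pow_apply, hN1]
    rfl
  two := by
    obtain ⟨u, v, huv, hu1, hu2, hv1, hv2⟩ := h.two
    exact ⟨⟨u, h.invol_mem hS hne hu2⟩, ⟨v, h.invol_mem hS hne hv2⟩,
      fun e => huv (congrArg Subtype.val e), fun e => hu1 (congrArg Subtype.val e),
      Subtype.ext hu2, fun e => hv1 (congrArg Subtype.val e), Subtype.ext hv2⟩

/-- A coset of a commutative invariant subgroup fixed by an odd-order automorphism of a 2-group
contains a fixed element. -/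
lemma exists_fixed_of_coset [Finite P] (hp : IsPGroup 2 P) {N : ℕ} (hNodd : Odd N) (hN : σ ^ N = 1)
    {S : Subgroup P} [IsMulCommutative S] (hS : ∀ x ∈ S, σ x ∈ S) {y : P} (hy : y⁻¹ * σ y ∈ S) :
    ∃ w ∈ S, σ (y * w) = y * w := by
  obtain ⟨m, hm⟩ := IsPGroup.iff_card.mp (hp.to_subgroup S)
  let cseq : ℕ → S := fun i => ⟨y⁻¹ * (σ ^ i) y, by
    induction i with
    | zero => simp
    | succ i ih =>
      rw [pow_succ', MulAut.mul_apply]
      have e : y⁻¹ * σ ((σ ^ i) y) = y⁻¹ * σ y * σ (y⁻¹ * (σ ^ i) y) := by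
        rw [map_mul, map_inv]; group
      rw [e]
      exact mul_mem hy (hS _ ih)⟩
  let τ := restrictAut σ S hS
  let s : S := ⟨y⁻¹ * σ y, hy⟩
  have hstep : ∀ i, s * τ (cseq i) = cseq (i + 1) := fun i => Subtype.ext <| by
    show y⁻¹ * σ y * σ (y⁻¹ * (σ ^ i) y) = y⁻¹ * (σ ^ (i + 1)) y
    rw [pow_succ', MulAut.mul_apply, map_mul, map_inv]; group
  open scoped IsMulCommutative in
  let w0 : S := ∏ i ∈ Finset.range N, cseq i
  have hw0 : τ w0 * s ^ N = w0 := by
    open scoped IsMulCommutative in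
    have h1 : ∀ i, τ (cseq i) * s = cseq (i + 1) := fun i => by rw [mul_comm, hstep]
    open scoped IsMulCommutative in
    calc τ w0 * s ^ N = (∏ i ∈ Finset.range N, τ (cseq i)) * ∏ _i ∈ Finset.range N, s := by
          rw [map_prod, Finset.prod_const, Finset.card_range]
      _ = ∏ i ∈ Finset.range N, cseq (i + 1) := by
          rw [← Finset.prod_mul_distrib]; exact Finset.prod_congr rfl fun i _ => h1 i
      _ = w0 := by
          have hN0 : cseq N = cseq 0 := Subtype.ext (by simp [cseq, hN])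
          have e1 := Finset.prod_range_succ' cseq N
          have e2 := Finset.prod_range_succ cseq N
          rw [e2, hN0] at e1
          exact (mul_right_cancel e1).symm
  obtain ⟨M, hM⟩ : ∃ M : ℕ, (s ^ N) ^ M = s := by
    obtain ⟨M, hM⟩ := exists_pow_eq_self_of_coprime (x := s) (n := N)
      ((Nat.coprime_two_right.mpr hNodd).pow_right m |>.coprime_dvd_right
        (hm ▸ orderOf_dvd_natCard s))
    exact ⟨M, hM⟩
  have hw : (w0 ^ M : S) = s * τ (w0 ^ M) := by
    open scoped IsMulCommutative in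
    conv_lhs => rw [← hw0, mul_pow, hM, ← map_pow, mul_comm]
  have hfix : σ (y * ((w0 ^ M : S) : P)) = y * ((w0 ^ M : S) : P) := by
    conv_rhs => rw [hw]
    show _ = y * (y⁻¹ * σ y * σ ((w0 ^ M : S) : P))
    rw [map_mul]; group
  exact ⟨_, (w0 ^ M).2, hfix⟩

/-- A coset of a commutative invariant subgroup fixed by `σ` is the subgroup itself. -/
lemma TwoHyp.coset_fix [Finite P] (h : TwoHyp P σ) {S : Subgroup P} [IsMulCommutative S]
    (hS : ∀ x ∈ S, σ x ∈ S) {y : P} (hy : y⁻¹ * σ y ∈ S) : y ∈ S := by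
  obtain ⟨N, hNodd, hN⟩ := h.odd
  obtain ⟨w, hw, hfix⟩ := exists_fixed_of_coset h.pgroup hNodd hN hS hy
  rw [eq_inv_of_mul_eq_one_left (h.fix_eq_one hfix)]
  exact inv_mem hw

end Cfsg.Agent.H38
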