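import Cfsg.Agent.H38.TwoGroup

/-! The squaring map `P/T → T/T²` and forms transported along it. -/

set_option autoImplicit false

namespace Cfsg.Agent.H38

open scoped IsMulCommutative

variable {P : Type*} [Group P] [Finite P] {σ : MulAut P}

/-- The square of an element, as an element of a subgroup containing all squares. -/
def sqIn (T : Subgroup P) (hsq : ∀ y : P, y * y ∈ T) (y : P) : T := ⟨y * y, hsq y⟩

lemma sqIn_equivariant {T : Subgroup P} (hT : ∀ x ∈ T, σ x ∈ T) (hsq : ∀ y : P, y * y ∈ T) (y : P) :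
    restrictAut σ T hT (sqIn T hsq y) = sqIn T hsq (σ y) := by
  refine Subtype.ext ?_
  rw [restrictAut_apply]
  show σ (y * y) = σ y * σ y
  exact map_mul σ y y

variable {T : Subgroup P} [IsMulCommutative T] {hT : ∀ x ∈ T, σ x ∈ T} {n : ℕ}

/-- The hypotheses make `y ↦ (y²)^(2^n)` a surjective homomorphism `P → Ω₁(T)` with kernel `T`;
an alternating equivariant form on it is trivial. -/
lemma form_eq_one (h : TwoHyp P σ) (hh : Homo T (restrictAut σ T hT) n) (hne : T ≠ ⊤)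
    (hsq : ∀ y : P, y * y ∈ T)
    (hadd : ∀ y y' : P,
      (sqIn T hsq (y * y')) ^ 2 ^ n = (sqIn T hsq y) ^ 2 ^ n * (sqIn T hsq y') ^ 2 ^ n)
    (hinj : ∀ y : P, (sqIn T hsq y) ^ 2 ^ n = 1 → y ∈ T)
    (F : P → P → T) (hF2 : ∀ y w, F y w ^ 2 = 1)
    (hFl : ∀ y y' w, F (y * y') w = F y w * F y' w) (hFr : ∀ y w w', F y (w * w') = F y w * F y w')
    (hkl : ∀ y ∈ T, ∀ w, F y w = 1) (hkr : ∀ w ∈ T, ∀ y, F y w = 1)
    (heq : ∀ y w, restrictAut σ T hT (F y w) = F (σ y) (σ w)) (hdiag : ∀ y, F y y = 1) :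
    (∀ y w, F y w = 1) ∧ ∀ a : T, ∃ y, ((sqIn T hsq y)⁻¹ * a) ^ 2 ^ n = 1 := by
  set τ := restrictAut σ T hT with hτ
  let E : Subgroup T := (powMonoidHom 2 : T →* T).ker
  have hEmem : ∀ {x : T}, x ∈ E ↔ x ^ 2 = 1 := Iff.rfl
  have hE : ∀ x ∈ E, τ x ∈ E := fun x hx => by
    rw [hEmem] at hx ⊢; rw [← map_pow, hx, map_one]
  let τE : MulAut E := restrictAut τ E hE
  let ψ : P →* E := MonoidHom.mk' (fun y => ⟨sqIn T hsq y ^ 2 ^ n, by
    rw [hEmem, ← pow_mul, ← pow_succ]; exact hh.exp _⟩) fun y y' => Subtype.ext (hadd y y')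
  have hψτ : ∀ y, τE (ψ y) = ψ (σ y) := fun y => Subtype.ext <| by
    rw [restrictAut_apply]
    show τ (sqIn T hsq y ^ 2 ^ n) = sqIn T hsq (σ y) ^ 2 ^ n
    rw [map_pow, sqIn_equivariant]
  have htr : ∀ u v : E, u ≠ 1 → v ≠ 1 → ∃ i : ℕ, (τE ^ i) u = v := by
    intro u v hu hv
    obtain ⟨i, hi⟩ := hh.trans u v (fun e => hu (Subtype.ext e)) (hEmem.mp u.2)
      (fun e => hv (Subtype.ext e)) (hEmem.mp v.2)
    exact ⟨i, Subtype.ext ((restrictAut_pow_apply hE i u).trans hi)⟩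
  have hker : ∀ y, ψ y = 1 ↔ y ∈ T := by
    refine fun y => ⟨fun e => hinj y (congrArg Subtype.val e), fun hy => Subtype.ext ?_⟩
    show sqIn T hsq y ^ 2 ^ n = 1
    rw [show sqIn T hsq y = (⟨y, hy⟩ : T) ^ 2 from Subtype.ext (pow_two y).symm, ← pow_mul,
      ← pow_succ']
    exact hh.exp _
  obtain ⟨y₀, -, hy₀⟩ := SetLike.exists_of_lt (lt_top_iff_ne_top.mpr hne)
  have hψ0 : ψ y₀ ≠ 1 := fun e => hy₀ ((hker y₀).mp e)
  have hsurj : Function.Surjective ψ := by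
    intro v
    by_cases hv : v = 1
    · exact ⟨1, by rw [map_one, hv]⟩
    obtain ⟨i, hi⟩ := htr _ v hψ0 hv
    refine ⟨(σ ^ i) y₀, ?_⟩
    rw [← hi]
    clear hi
    induction i with
    | zero => simp
    | succ i ih => rw [pow_succ', pow_succ', MulAut.mul_apply, MulAut.mul_apply, ← ih, hψτ]
  choose sec hsec using hsurj
  have hwell : ∀ y y' : P, ψ y = ψ y' → y⁻¹ * y' ∈ T := fun y y' e =>
    (hker _).mp (by rw [map_mul, map_inv, e, inv_mul_cancel])
  have hl : ∀ y y' w, ψ y = ψ y' → F y w = F y' w := fun y y' w e => by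
    rw [show y' = y * (y⁻¹ * y') by group, hFl, hkl _ (hwell y y' e), mul_one]
  have hr : ∀ y w w', ψ w = ψ w' → F y w = F y w' := fun y w w' e => by
    rw [show w' = w * (w⁻¹ * w') by group, hFr, hkr _ (hwell w w' e), mul_one]
  let B : E →* E →* E := MonoidHom.mk' (fun u => MonoidHom.mk'
      (fun v => (⟨F (sec u) (sec v), hEmem.mpr (hF2 _ _)⟩ : E)) fun v v' => Subtype.ext <| by
        show F _ _ = F _ _ * F _ _
        rw [← hFr]; exact hr _ _ _ (by rw [map_mul, hsec, hsec, hsec]))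
    fun u u' => MonoidHom.ext fun v => Subtype.ext <| by
      show F _ _ = F _ _ * F _ _
      rw [← hFl]; exact hl _ _ _ (by rw [map_mul, hsec, hsec, hsec])
  have hB := equivariant_form_eq_one (fun x : E => Subtype.ext (by
      rw [Subgroup.coe_mul, ← pow_two]; exact hEmem.mp x.2)) htr B
    (fun u v => Subtype.ext <| by
      rw [restrictAut_apply]
      show F (sec (τE u)) (sec (τE v)) = τ (F (sec u) (sec v))
      rw [heq, hl _ (σ (sec u)) _ (by rw [← hψτ, hsec, hsec]),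
        hr _ _ (σ (sec v)) (by rw [← hψτ, hsec, hsec])])
    (fun u => Subtype.ext (hdiag _))
  refine ⟨fun y w => ?_, fun a => ?_⟩
  · have h1 : F (sec (ψ y)) (sec (ψ w)) = 1 := congrArg Subtype.val (hB (ψ y) (ψ w))
    rwa [hl _ y _ (hsec _), hr _ _ w (hsec _)] at h1
  · obtain ⟨y, hy⟩ : ∃ y, ψ y = ⟨a ^ 2 ^ n, by
      rw [hEmem, ← pow_mul, ← pow_succ]; exact hh.exp _⟩ := ⟨_, hsec _⟩
    refine ⟨y, ?_⟩
    have h1 : sqIn T hsq y ^ 2 ^ n = a ^ 2 ^ n := congrArg Subtype.val hy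
    rw [mul_pow, inv_pow, h1, inv_mul_cancel]

end Cfsg.Agent.H38
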