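import Mathlib

/-! A biadditive equivariant alternating form `E × E → E` on a module with transitive cyclic group is zero. -/

set_option autoImplicit false

namespace Cfsg.Agent.H38

variable {E : Type*} [CommGroup E]

lemma mulAut_iter_commute (σ : MulAut E) (i : ℕ) (x : E) : (σ ^ i) (σ x) = σ ((σ ^ i) x) := by
  rw [← MulAut.mul_apply, ← MulAut.mul_apply, ← pow_succ, ← pow_succ']

/-- An endomorphism commuting with a transitive automorphism is trivial or a power of it. -/
lemma equivariant_cases {σ : MulAut E} (htr : ∀ u v : E, u ≠ 1 → v ≠ 1 → ∃ i : ℕ, (σ ^ i) u = v)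
    {r : E →* E} (hr : ∀ x, r (σ x) = σ (r x)) :
    (∀ x, r x = 1) ∨ ∃ i : ℕ, ∀ x, r x = (σ ^ i) x := by
  have hri : ∀ (i : ℕ) x, r ((σ ^ i) x) = (σ ^ i) (r x) := by
    intro i
    induction i with
    | zero => simp
    | succ i ih =>
      intro x
      rw [pow_succ', MulAut.mul_apply, hr, ih, MulAut.mul_apply]
  by_cases hE : ∀ e : E, e = 1
  · exact Or.inl fun x => hE _
  push Not at hE
  obtain ⟨e, he⟩ := hE
  by_cases hc : r e = 1
  · refine Or.inl fun x => ?_
    by_cases hx : x = 1
    · simp [hx]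
    obtain ⟨j, rfl⟩ := htr e x he hx
    rw [hri, hc, map_one]
  · obtain ⟨i, hi⟩ := htr e (r e) he hc
    refine Or.inr ⟨i, fun x => ?_⟩
    by_cases hx : x = 1
    · simp [hx]
    obtain ⟨j, rfl⟩ := htr e x he hx
    rw [hri, ← hi, ← MulAut.mul_apply, ← MulAut.mul_apply, ← pow_add, ← pow_add, Nat.add_comm]

lemma exists_equivariant {σ : MulAut E}
    (htr : ∀ u v : E, u ≠ 1 → v ≠ 1 → ∃ i : ℕ, (σ ^ i) u = v) {e : E} (he : e ≠ 1) (c : E) :
    ∃ r : E →* E, (∀ x, r (σ x) = σ (r x)) ∧ r e = c := by
  by_cases hc : c = 1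
  · exact ⟨1, fun x => by simp, by simp [hc]⟩
  obtain ⟨i, hi⟩ := htr e c he hc
  exact ⟨(σ ^ i).toMonoidHom, fun x => mulAut_iter_commute σ i x, hi⟩

lemma equivariant_form_eq_one [Finite E] (h2 : ∀ x : E, x * x = 1) {σ : MulAut E}
    (htr : ∀ u v : E, u ≠ 1 → v ≠ 1 → ∃ i : ℕ, (σ ^ i) u = v) (B : E →* E →* E)
    (hB : ∀ u v, B (σ u) (σ v) = σ (B u v)) (halt : ∀ u, B u u = 1) : ∀ u v, B u v = 1 := by
  intro u₀ v₀
  by_cases hu₀ : u₀ = 1
  · simp [hu₀]
  set e := u₀
  have hdiag : ∀ {r : E →* E}, (∀ x, r (σ x) = σ (r x)) → ∀ u v, B (r u) (r v) = r (B u v) := by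
    intro r hr u v
    rcases equivariant_cases htr hr with h | ⟨i, h⟩
    · simp [h]
    · simp only [h]
      induction i generalizing r u v with
      | zero => simp
      | succ i ih =>
        rw [pow_succ', MulAut.mul_apply, MulAut.mul_apply, MulAut.mul_apply, hB,
          ih (r := (σ ^ i).toMonoidHom) (fun x => mulAut_iter_commute σ i x) u v (fun x => rfl)]
  have hswap : ∀ {r : E →* E}, (∀ x, r (σ x) = σ (r x)) → ∀ u v,
      B (r u) v * B u (r v) = 1 := by
    intro r hr u v
    have h := hdiag (r := r * MonoidHom.id E) (fun x => by simp [hr]) u v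
    simp only [MonoidHom.mul_apply, MonoidHom.id_apply, map_mul] at h
    rw [hdiag hr u v] at h
    have h' : r (B u v) * B u v * (B (r u) v * B u (r v)) = r (B u v) * B u v := by
      refine Eq.trans ?_ h
      simp only [mul_comm, mul_left_comm]
    exact mul_eq_left.mp h'
  have hshift : ∀ {r : E →* E}, (∀ x, r (σ x) = σ (r x)) → ∀ u v, B (r u) v = B u (r v) :=
    fun hr u v => (eq_inv_of_mul_eq_one_left (hswap hr u v)).trans (inv_eq_of_mul_eq_one_right (h2 _))
  choose op hop hope using exists_equivariant htr hu₀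
  have hzero : ∀ c, B e (op c c) = 1 := by
    intro c
    rw [← hshift (hop c) e c, hope]
    exact halt c
  have hinj : Function.Injective (fun c => op c c) := by
    intro c d (h : op c c = op d d)
    have hcomm : op c d = op d c := by
      have h1 : ∀ {r s : E →* E}, (∀ x, r (σ x) = σ (r x)) → (∀ x, s (σ x) = σ (s x)) →
          ∀ x, r (s x) = s (r x) := by
        intro r s hr hs x
        rcases equivariant_cases htr hr with hr' | ⟨i, hr'⟩
        · simp [hr']
        rcases equivariant_cases htr hs with hs' | ⟨j, hs'⟩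
        · simp [hs']
        simp only [hr', hs']
        rw [← MulAut.mul_apply, ← MulAut.mul_apply, ← pow_add, ← pow_add, Nat.add_comm]
      conv_lhs => rw [← hope d]
      rw [h1 (hop c) (hop d), hope]
    have h3 : (op c * op d) ((op c * op d) e) = 1 := by
      simp only [MonoidHom.mul_apply, map_mul, hope, h, hcomm]
      rw [show op d d * op d c * (op d c * op d d) = (op d d * op d c) * (op d d * op d c) by
        simp [mul_comm, mul_left_comm]]
      exact h2 _
    have hker : c * d = 1 := by
      rcases equivariant_cases htr (r := op c * op d) (fun x => by simp [hop]) with h4 | ⟨i, h4⟩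
      · have := h4 e
        simpa [hope] using this
      · rw [h4] at h3
        have := (MulEquiv.map_eq_one_iff (σ ^ i)).mp h3
        simpa [hope] using this
    exact (eq_inv_of_mul_eq_one_left hker).trans (inv_eq_of_mul_eq_one_right (h2 d))
  obtain ⟨c, hc⟩ := (Finite.injective_iff_surjective.mp hinj) v₀
  simp only at hc
  rw [← hc]
  exact hzero c

end Cfsg.Agent.H38
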