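import Cfsg.Agent.H38.Invert

/-! A four-group acting on a subgroup of odd order: generation by centralisers. -/

set_option autoImplicit false

namespace Cfsg.Agent.H38

variable {G : Type*} [Group G]

lemma le_of_four_group {x y : G} (hx : x * x = 1) (hy : y * y = 1) (hxy : Commute x y)
    {O H : Subgroup G} (hodd : Odd (Nat.card O)) (hnx : ∀ g ∈ O, x * g * x⁻¹ ∈ O)
    (hny : ∀ g ∈ O, y * g * y⁻¹ ∈ O) (h1 : ∀ g ∈ O, Commute g x → g ∈ H)
    (h2 : ∀ g ∈ O, Commute g y → g ∈ H) (h3 : ∀ g ∈ O, Commute g (x * y) → g ∈ H) : O ≤ H := by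
  have key : ∀ i ∈ invertedBy O x, i ∈ H := by
    rintro i ⟨hi, hix⟩
    set j := y * i * y⁻¹ with hj
    have hjO : j ∈ O := hny i hi
    have hjx : x * j * x⁻¹ = j⁻¹ := by
      have e : x * y = y * x := hxy.eq
      calc x * (y * i * y⁻¹) * x⁻¹ = x * y * i * (x * y)⁻¹ := by group
        _ = y * x * i * (y * x)⁻¹ := by rw [e]
        _ = y * (x * i * x⁻¹) * y⁻¹ := by group
        _ = _ := by rw [hix, hj]; group
    set b := rt O j with hb
    have hbO : b ∈ O := rt_mem hjO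
    have hbb : b * b = j := rt_mul_self hodd hjO
    have hbi : b⁻¹ * i * b⁻¹ ∈ O := mul_mem (mul_mem (inv_mem hbO) hi) (inv_mem hbO)
    set C := b * rt O (b⁻¹ * i * b⁻¹) * b with hC
    have hCO : C ∈ O := mul_mem (mul_mem hbO (rt_mem hbi)) hbO
    have hCeq : C * j⁻¹ * C = i := by
      rw [hC, ← hbb]
      rw [show b * rt O (b⁻¹ * i * b⁻¹) * b * (b * b)⁻¹ * (b * rt O (b⁻¹ * i * b⁻¹) * b) =
        b * (rt O (b⁻¹ * i * b⁻¹) * rt O (b⁻¹ * i * b⁻¹)) * b by group, rt_mul_self hodd hbi]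
      group
    have huniq : ∀ C' ∈ O, C' * j⁻¹ * C' = i → C' = C := by
      intro C' hC'O hC'
      have e : b⁻¹ * C' * b⁻¹ * (b⁻¹ * C' * b⁻¹) = b⁻¹ * i * b⁻¹ := by
        rw [← hC', ← hbb]; group
      have e2 : b⁻¹ * C' * b⁻¹ = rt O (b⁻¹ * i * b⁻¹) := by
        rw [← e, rt_of_sq hodd (mul_mem (mul_mem (inv_mem hbO) hC'O) (inv_mem hbO))]
      rw [hC, ← e2]; group
    have hCx : x * C * x⁻¹ = C⁻¹ := by
      have e : x * C * x⁻¹ * j * (x * C * x⁻¹) = i⁻¹ := by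
        calc x * C * x⁻¹ * j * (x * C * x⁻¹) = x * C * x⁻¹ * (x * j * x⁻¹)⁻¹ * (x * C * x⁻¹) := by
              rw [hjx, inv_inv]
          _ = x * (C * j⁻¹ * C) * x⁻¹ := by group
          _ = _ := by rw [hCeq, hix]
      have e2 : (x * C * x⁻¹)⁻¹ = C := by
        refine huniq _ (inv_mem (hnx C hCO)) ?_
        have := congrArg (fun z : G => z⁻¹) e
        simpa [mul_inv_rev, mul_assoc] using this
      rw [← inv_inv (x * C * x⁻¹), e2]
    have hCy : y * C * y⁻¹ = C := by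
      refine huniq _ (hny C hCO) ?_
      have e : y * j * y⁻¹ = i := by
        rw [hj, show y * (y * i * y⁻¹) * y⁻¹ = (y * y) * i * (y * y)⁻¹ by group, hy]; group
      have e2 : y * C * y⁻¹ * i⁻¹ * (y * C * y⁻¹) = j := by
        calc y * C * y⁻¹ * i⁻¹ * (y * C * y⁻¹) =
            y * C * y⁻¹ * (y * j * y⁻¹)⁻¹ * (y * C * y⁻¹) := by rw [e]
          _ = y * (C * j⁻¹ * C) * y⁻¹ := by group
          _ = j := by rw [hCeq]
      set D := y * C * y⁻¹
      calc D * j⁻¹ * D = D * (D * i⁻¹ * D)⁻¹ * D := by rw [e2]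
        _ = i := by group
    set c := rt O C with hc
    have hcO : c ∈ O := rt_mem hCO
    have hcc : c * c = C := rt_mul_self hodd hCO
    have hcx : x * c * x⁻¹ = c⁻¹ := by rw [hc, conj_rt, hCx, rt_inv]
    have hcy : y * c * y⁻¹ = c := by rw [hc, conj_rt, hCy]
    set d := c⁻¹ * i * c⁻¹ with hd
    have hdO : d ∈ O := mul_mem (mul_mem (inv_mem hcO) hi) (inv_mem hcO)
    have hdxy : (x * y) * d * (x * y)⁻¹ = d := by
      rw [hd, show x * y * (c⁻¹ * i * c⁻¹) * (x * y)⁻¹ =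
        x * ((y * c * y⁻¹)⁻¹ * (y * i * y⁻¹) * (y * c * y⁻¹)⁻¹) * x⁻¹ by group, hcy, ← hj,
        show x * (c⁻¹ * j * c⁻¹) * x⁻¹ = (x * c * x⁻¹)⁻¹ * (x * j * x⁻¹) * (x * c * x⁻¹)⁻¹ by
          group, hcx, hjx, inv_inv]
      have := congrArg (fun z => c⁻¹ * z * c⁻¹) hCeq
      rw [← hcc] at this
      simpa [mul_assoc] using this
    have hcH : c ∈ H := h2 c hcO (mul_inv_eq_iff_eq_mul.mp hcy).symm
    have hdH : d ∈ H := h3 d hdO (mul_inv_eq_iff_eq_mul.mp hdxy).symm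
    have : i = c * d * c := by rw [hd]; group
    rw [this]
    exact mul_mem (mul_mem hcH hdH) hcH
  intro g hg
  obtain ⟨⟨c, i⟩, ⟨hc, hi, rfl⟩, -⟩ := exists_unique_decomp hx hodd hnx hg
  exact mul_mem (h1 c hc.1 (Subgroup.mem_centralizer_singleton_iff.mp hc.2)) (key i hi)

end Cfsg.Agent.H38
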