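import Cfsg.Agent.H38.EquivForm

/-! Abelian 2-groups with an automorphism transitive on involutions. -/

set_option autoImplicit false

namespace Cfsg.Agent.H38

variable {A : Type*} [CommGroup A]

/-- The subgroup of `2 ^ k`-th powers. -/
def pw (A : Type*) [CommGroup A] (k : ℕ) : Subgroup A := (powMonoidHom (2 ^ k) : A →* A).range

lemma mem_pw {k : ℕ} {x : A} : x ∈ pw A k ↔ ∃ a : A, a ^ 2 ^ k = x := Iff.rfl

lemma pw_antitone {j k : ℕ} (h : j ≤ k) : pw A k ≤ pw A j := by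
  rintro _ ⟨a, rfl⟩
  obtain ⟨d, rfl⟩ := Nat.le.dest h
  exact ⟨a ^ 2 ^ d, by simp [← pow_mul, pow_add, mul_comm]⟩

lemma map_mem_pw {k : ℕ} (φ : A →* A) {x : A} (hx : x ∈ pw A k) : φ x ∈ pw A k := by
  obtain ⟨a, rfl⟩ := hx
  exact ⟨φ a, by simp⟩

lemma sq_mem_pw_succ {k : ℕ} {x : A} (hx : x ∈ pw A k) : x ^ 2 ∈ pw A (k + 1) := by
  obtain ⟨a, rfl⟩ := hx
  exact ⟨a, show a ^ 2 ^ (k + 1) = (a ^ 2 ^ k) ^ 2 by rw [← pow_mul, ← pow_succ]⟩

/-- An abelian 2-group of exponent `2 ^ (n + 1)` with an automorphism transitive on involutions. -/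
structure Homo (A : Type*) [CommGroup A] (σ : MulAut A) (n : ℕ) : Prop where
  exp : ∀ a : A, a ^ 2 ^ (n + 1) = 1
  top : ∃ a : A, a ^ 2 ^ n ≠ 1
  trans : ∀ u v : A, u ≠ 1 → u ^ 2 = 1 → v ≠ 1 → v ^ 2 = 1 → ∃ i : ℕ, (σ ^ i) u = v

variable {σ : MulAut A} {n : ℕ}

lemma mem_of_inv {S : Subgroup A} (hS : ∀ x ∈ S, σ x ∈ S) (i : ℕ) {x : A} (hx : x ∈ S) :
    (σ ^ i) x ∈ S := by
  induction i with
  | zero => simpa
  | succ i ih => rw [pow_succ', MulAut.mul_apply]; exact hS _ ih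

lemma Homo.eq_top (h : Homo A σ n) {S : Subgroup A} (hS : ∀ x ∈ S, σ x ∈ S) {s : A} (hs : s ∈ S)
    (hs1 : s ^ 2 ^ n ≠ 1) : S = ⊤ := by
  suffices H : ∀ j ≤ n + 1, ∀ x : A, x ^ 2 ^ j = 1 → x ∈ S from
    eq_top_iff.mpr fun x _ => H (n + 1) le_rfl x (h.exp x)
  intro j
  induction j with
  | zero =>
    intro _ x hx
    rw [pow_zero, pow_one] at hx
    exact hx ▸ one_mem S
  | succ j ih =>
    intro hj x hx
    by_cases hu : x ^ 2 ^ j = 1
    · exact ih (by omega) x hu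
    obtain ⟨i, hi⟩ := h.trans (s ^ 2 ^ n) (x ^ 2 ^ j) hs1
      (by rw [← pow_mul, ← pow_succ, h.exp]) hu (by rw [← pow_mul, ← pow_succ, hx])
    set s' := (σ ^ i) s ^ 2 ^ (n - j) with hs'
    have e : (x * s'⁻¹) ^ 2 ^ j = 1 := by
      rw [mul_pow, inv_pow, hs', ← pow_mul, ← pow_add, show n - j + j = n by omega, ← map_pow, hi,
        mul_inv_cancel]
    have : x = x * s'⁻¹ * s' := by group
    rw [this]
    exact mul_mem (ih (by omega) _ e) (pow_mem (mem_of_inv hS i hs) _)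

lemma Homo.pow_eq_one_iff (h : Homo A σ n) {j : ℕ} (hj : j ≤ n + 1) {x : A} :
    x ^ 2 ^ j = 1 ↔ x ∈ pw A (n + 1 - j) := by
  refine ⟨fun hx => ?_, ?_⟩
  · induction j generalizing x with
    | zero =>
      rw [pow_zero, pow_one] at hx
      exact hx ▸ one_mem _
    | succ j ih =>
      obtain ⟨a, ha⟩ := h.top
      by_cases hu : x ^ 2 ^ j = 1
      · exact pw_antitone (by omega) (ih (by omega) hu)
      obtain ⟨i, hi⟩ := h.trans (a ^ 2 ^ n) (x ^ 2 ^ j) ha
        (by rw [← pow_mul, ← pow_succ, h.exp]) hu (by rw [← pow_mul, ← pow_succ, hx])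
      set s' := (σ ^ i) a ^ 2 ^ (n - j) with hs'
      have e : (x * s'⁻¹) ^ 2 ^ j = 1 := by
        rw [mul_pow, inv_pow, hs', ← pow_mul, ← pow_add, show n - j + j = n by omega, ← map_pow,
          hi, mul_inv_cancel]
      have : x = x * s'⁻¹ * s' := by group
      rw [this]
      refine mul_mem (pw_antitone (by omega) (ih (by omega) e)) ?_
      exact ⟨(σ ^ i) a, by rw [hs', show n + 1 - (j + 1) = n - j by omega]; rfl⟩
  · rintro ⟨a, rfl⟩
    show (a ^ 2 ^ (n + 1 - j)) ^ 2 ^ j = 1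
    rw [← pow_mul, ← pow_add, show n + 1 - j + j = n + 1 by omega, h.exp]

lemma Homo.mem_sq_iff (h : Homo A σ n) {x : A} : x ^ 2 ^ n = 1 ↔ x ∈ pw A 1 := by
  rw [h.pow_eq_one_iff (Nat.le_succ n), show n + 1 - n = 1 by omega]

lemma Homo.inv_mem_top (h : Homo A σ n) {x : A} (hx : x ^ 2 = 1) : x ∈ pw A n := by
  have := (h.pow_eq_one_iff (j := 1) (by omega) (x := x)).mp (by rwa [pow_one])
  rwa [show n + 1 - 1 = n by omega] at this

lemma Homo.not_le_sq (h : Homo A σ n) {S : Subgroup A} (hS : ∀ x ∈ S, σ x ∈ S)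
    (hne : S ≠ ⊤) : S ≤ pw A 1 := fun x hx => by
  rw [← h.mem_sq_iff]
  by_contra hx1
  exact hne (h.eq_top hS hx hx1)

section family

variable {ι : Type*} (D : ι → A →* A)

/-- If the maps `D y` commute, satisfy `D ∘ D = -2 D`, map into squares and form a family stable
under `σ`, then each is `≡ 0` or `≡ 2` modulo 4. -/
lemma Homo.dichotomy (h : Homo A σ n) (hn : 2 ≤ n) [Finite ι] [Nonempty ι] (π : ι → ι)
    (hπ : Function.Surjective π) (hπD : ∀ y a, σ (D y a) = D (π y) (σ a))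
    (hcomm : ∀ y y' a, D y (D y' a) = D y' (D y a))
    (hsq : ∀ y a, D y (D y a) = ((D y a) ^ 2)⁻¹) (hran : ∀ y a, D y a ∈ pw A 1) :
    ∀ y, (∀ a, D y a ∈ pw A 2) ∨ ∀ a, D y a * (a ^ 2)⁻¹ ∈ pw A 2 := by
  classical
  have hsqcancel : ∀ {w : A}, w ^ 2 ∈ pw A 3 → w ∈ pw A 2 := by
    intro w ⟨c, hc⟩
    have e : (w * (c ^ 4)⁻¹) ^ 2 = 1 := by
      rw [mul_pow, inv_pow, ← pow_mul, ← hc]; simp
    have : w = w * (c ^ 4)⁻¹ * c ^ 4 := by group
    rw [this]
    exact mul_mem (pw_antitone hn (h.inv_mem_top e)) ⟨c, by simp⟩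
  have hD2 : ∀ y {w : A}, w ∈ pw A 2 → D y w ∈ pw A 3 := by
    rintro y _ ⟨c, rfl⟩
    obtain ⟨b, hb⟩ := hran y c
    exact ⟨b, by simp only [powMonoidHom_apply, map_pow, ← hb]; rw [← pow_mul, ← pow_add]⟩
  let eig : A → ι → Prop := fun a y => D y a ∈ pw A 2 ∨ D y a * (a ^ 2)⁻¹ ∈ pw A 2
  -- a vector that is an eigenvector for the whole family
  obtain ⟨a₀, ha₀, heig₀⟩ : ∃ a, a ∉ pw A 1 ∧ ∀ y, eig a y := by
    have key : ∀ s : Finset ι, ∃ a, a ∉ pw A 1 ∧ ∀ y ∈ s, eig a y := by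
      intro s
      induction s using Finset.induction with
      | empty =>
        obtain ⟨a, ha⟩ := h.top
        exact ⟨a, fun h' => ha (h.mem_sq_iff.mpr h'), by simp⟩
      | insert y s _ ih =>
        obtain ⟨a, ha, has⟩ := ih
        by_cases hy : D y a ∈ pw A 2
        · refine ⟨a, ha, fun z hz => ?_⟩
          rcases Finset.mem_insert.mp hz with rfl | hz
          · exact Or.inl hy
          · exact has z hz
        obtain ⟨b, hb⟩ := hran y a
        simp only [powMonoidHom_apply, pow_one] at hb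
        refine ⟨b, fun hb1 => hy (hb ▸ sq_mem_pw_succ hb1), fun z hz => ?_⟩
        rcases Finset.mem_insert.mp hz with rfl | hz
        · refine Or.inr ?_
          have h1 := hsq z a
          rw [← hb, map_pow] at h1
          have e : (D z b * b ^ 2) ^ 2 = 1 := by
            rw [mul_pow, h1]; exact inv_mul_cancel _
          have : D z b * (b ^ 2)⁻¹ = D z b * b ^ 2 * (b ^ 2 ^ 2)⁻¹ := by
            have e2 : (b ^ 2 : A) * (b ^ 2 ^ 2)⁻¹ = (b ^ 2)⁻¹ := by
              rw [show (2 : ℕ) ^ 2 = 2 * 2 by norm_num, pow_mul, sq (b ^ 2), mul_inv_rev,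
                ← mul_assoc, mul_inv_cancel, one_mul]
            rw [mul_assoc, e2]
          rw [this]
          exact mul_mem (pw_antitone hn (h.inv_mem_top e)) (inv_mem ⟨b, rfl⟩)
        · have e : (D z b) ^ 2 = D y (D z a) := by rw [hcomm y z a, ← hb, map_pow]
          rcases has z hz with h' | h'
          · exact Or.inl (hsqcancel (e ▸ hD2 y h'))
          · refine Or.inr (hsqcancel ?_)
            rw [mul_pow, inv_pow, e]
            have := hD2 y h'
            rwa [map_mul, map_inv, map_pow, ← hb] at this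
    obtain ⟨a, ha, h'⟩ := key (@Finset.univ ι (Fintype.ofFinite ι))
    exact ⟨a, ha, fun y => h' y (@Finset.mem_univ ι (Fintype.ofFinite ι) y)⟩
  have hiter : ∀ i a, (∀ y, eig a y) → ∀ y, eig ((σ ^ i) a) y := by
    intro i
    induction i with
    | zero => intro a ha; simpa using ha
    | succ i ih =>
      intro a ha y
      obtain ⟨y', rfl⟩ := hπ y
      rw [pow_succ', MulAut.mul_apply]
      rcases ih a ha y' with h' | h'
      · exact Or.inl (hπD y' _ ▸ map_mem_pw σ.toMonoidHom h')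
      · refine Or.inr ?_
        have := map_mem_pw σ.toMonoidHom h'
        simpa [hπD] using this
  have hall : ∀ a y, eig a y := by
    intro a y
    by_cases ha : a ^ 2 ^ n = 1
    · obtain ⟨c, rfl⟩ := h.mem_sq_iff.mp ha
      exact Or.inl (by simpa using sq_mem_pw_succ (hran y c))
    have ha0 : a₀ ^ 2 ^ n ≠ 1 := fun h' => ha₀ (h.mem_sq_iff.mp h')
    obtain ⟨i, hi⟩ := h.trans (a₀ ^ 2 ^ n) (a ^ 2 ^ n) ha0
      (by rw [← pow_mul, ← pow_succ, h.exp]) ha (by rw [← pow_mul, ← pow_succ, h.exp])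
    rw [map_pow] at hi
    obtain ⟨c, hc⟩ := h.mem_sq_iff.mp (show ((σ ^ i) a₀⁻¹ * a) ^ 2 ^ n = 1 by
      rw [map_inv, mul_pow, inv_pow, hi, inv_mul_cancel])
    simp only [powMonoidHom_apply, pow_one] at hc
    have e : a = (σ ^ i) a₀ * c ^ 2 := by rw [hc, map_inv, mul_inv_cancel_left]
    have hc' : D y (c ^ 2) ∈ pw A 2 := by rw [map_pow]; exact sq_mem_pw_succ (hran y c)
    rcases hiter i a₀ heig₀ y with h' | h'
    · exact Or.inl (by rw [e, map_mul]; exact mul_mem h' hc')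
    · refine Or.inr ?_
      have h4 : ((c ^ 2) ^ 2 : A) ∈ pw A 2 := ⟨c, by simp [← pow_mul]⟩
      rw [e, map_mul, mul_pow, mul_inv]
      rw [mul_mul_mul_comm]
      exact mul_mem h' (mul_mem hc' (inv_mem h4))
  intro y
  by_contra hcon
  rw [not_or] at hcon
  push Not at hcon
  obtain ⟨⟨a, ha⟩, ⟨b, hb⟩⟩ := hcon
  have ha' : D y a * (a ^ 2)⁻¹ ∈ pw A 2 := (hall a y).resolve_left ha
  have hb' : D y b ∈ pw A 2 := (hall b y).resolve_right hb
  rcases hall (a * b) y with h' | h'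
  · rw [map_mul] at h'
    exact ha (by simpa using mul_mem h' (inv_mem hb'))
  · rw [map_mul, mul_pow, mul_inv, mul_mul_mul_comm] at h'
    have := mul_mem (inv_mem ha') h'
    rw [inv_mul_cancel_left] at this
    exact hb this

lemma Homo.sq_eq_one_of_mod_four (h : Homo A σ n)
    (hsq : ∀ y a, D y (D y a) = ((D y a) ^ 2)⁻¹) (h4 : ∀ y a, D y a ∈ pw A 2) :
    ∀ y a, (D y a) ^ 2 = 1 := by
  suffices H : ∀ i, i ≤ n → ∀ y a, D y a ∈ pw A i by
    intro y a
    have := (h.pow_eq_one_iff (j := 1) (by omega) (x := D y a)).mpr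
      (by rw [show n + 1 - 1 = n by omega]; exact H n le_rfl y a)
    rwa [pow_one] at this
  intro i
  induction i with
  | zero => exact fun _ y a => pw_antitone (Nat.zero_le 2) (h4 y a)
  | succ i ih =>
    intro hi y a
    by_cases hi2 : i + 1 ≤ 2
    · exact pw_antitone hi2 (h4 y a)
    obtain ⟨b, hb⟩ := ih (by omega) y a
    obtain ⟨c, hc⟩ := ih (by omega) y b
    simp only [powMonoidHom_apply] at hb hc
    have h1 : (D y a) ^ 2 ∈ pw A (i + 2) := by
      have h2 : D y (D y a) = (c ^ 2 ^ i) ^ 2 ^ i := by rw [← hb, map_pow, hc]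
      rw [hsq] at h2
      rw [← inv_inv ((D y a) ^ 2), h2]
      refine inv_mem (pw_antitone (show i + 2 ≤ i + i by omega) ⟨c, ?_⟩)
      simp [← pow_mul, pow_add]
    obtain ⟨w, hw⟩ := h1
    simp only [powMonoidHom_apply] at hw
    have e : (D y a * (w ^ 2 ^ (i + 1))⁻¹) ^ 2 = 1 := by
      rw [mul_pow, inv_pow, ← pow_mul, ← pow_succ, hw, mul_inv_cancel]
    have : D y a = D y a * (w ^ 2 ^ (i + 1))⁻¹ * w ^ 2 ^ (i + 1) := by group
    rw [this]
    exact mul_mem (pw_antitone hi (h.inv_mem_top e)) ⟨w, rfl⟩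

end family

end Cfsg.Agent.H38
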