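import Cfsg.Agent.H38.Odd
import Cfsg.Prelude.Def_TwoFusion

/-! Isolated involutions: products of two conjugates have odd order. -/

set_option autoImplicit false

namespace Cfsg.Agent.H38

variable {G : Type*} [Group G]

lemma isolated_sq {z : G} (hz : IsIsolatedInvolution z) : z * z = 1 := by
  rw [← pow_two, ← hz.1]; exact pow_orderOf_eq_one z

lemma isolated_ne_one {z : G} (hz : IsIsolatedInvolution z) : z ≠ 1 := by
  intro h
  have := hz.1
  rw [h, orderOf_one] at this
  omega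

lemma isolated_conj_sq {z : G} (hz : IsIsolatedInvolution z) (g : G) :
    g * z * g⁻¹ * (g * z * g⁻¹) = 1 := by
  rw [show g * z * g⁻¹ * (g * z * g⁻¹) = g * (z * z) * g⁻¹ by group, isolated_sq hz]; group

lemma isolated_odd [Finite G] {z : G} (hz : IsIsolatedInvolution z) (g : G) :
    Odd (orderOf (z * (g * z * g⁻¹))) := by
  rw [← Nat.not_even_iff_odd]
  intro he
  set z' := g * z * g⁻¹ with hz'
  have hzz := isolated_sq hz
  have hz'2 : z' * z' = 1 := isolated_conj_sq hz g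
  obtain ⟨m, -, -, hj1, hj2, hjz, hjz'⟩ := exists_central_of_even hzz hz'2 he
  set d := z * z' with hd
  -- `z * d ^ m` is conjugate to `z` and commutes with it
  obtain ⟨h, hh⟩ : ∃ h : G, h * z * h⁻¹ = z * d ^ m := by
    have hinv : ∀ k : ℕ, z * d ^ k * z⁻¹ = (d ^ k)⁻¹ :=
      conj_pow_invol (conj_mul_invol_left hzz hz'2)
    have hshift : ∀ k n : ℕ, (d ^ k)⁻¹ * (z * d ^ n) * d ^ k = z * d ^ (k + n + k) := by
      intro k n
      rw [← hinv k, inv_eq_self hzz,
        show z * d ^ k * z * (z * d ^ n) * d ^ k = z * d ^ k * (z * z) * (d ^ n * d ^ k) by group,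
        hzz, pow_add, pow_add]
      simp [mul_assoc]
    rcases Nat.even_or_odd' m with ⟨k, hk | hk⟩
    · refine ⟨(d ^ k)⁻¹, ?_⟩
      have := hshift k 0
      rw [pow_zero, mul_one] at this
      rw [inv_inv, this, hk]; congr 2; omega
    · refine ⟨(d ^ k)⁻¹ * g, ?_⟩
      have := hshift k 1
      rw [pow_one] at this
      rw [hk, show 2 * k + 1 = k + 1 + k by omega, ← this,
        show z * d = z' by rw [hd, ← mul_assoc, hzz, one_mul], hz']
      group
  have hc : Commute z (h * z * h⁻¹) := by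
    rw [hh]; exact (Commute.refl z).mul_right hjz.symm
  have := hz.2 h hc
  rw [hh] at this
  exact hj1 (mul_left_cancel (this.trans (mul_one z).symm))

lemma isolated_conj [Finite G] {z : G} (hz : IsIsolatedInvolution z) (g : G) :
    IsIsolatedInvolution (g * z * g⁻¹) := by
  refine ⟨?_, fun x hx => ?_⟩
  · rw [← hz.1]
    exact (MulEquiv.orderOf_eq (MulAut.conj g) z)
  · have h1 : Commute z (g⁻¹ * x * g * z * (g⁻¹ * x * g)⁻¹) := by
      have := hx.map (MulAut.conj g⁻¹).toMonoidHom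
      simpa [MulAut.conj_apply, mul_assoc] using this
    have := congrArg (fun w => g * w * g⁻¹) (hz.2 _ h1)
    simpa [mul_assoc] using this

lemma isolated_fusion [Finite G] {z : G} (hz : IsIsolatedInvolution z) {H : Subgroup G}
    (hzH : z ∈ H) {g : G} (hg : g * z * g⁻¹ ∈ H) : ∃ h ∈ H, h * z * h⁻¹ = g * z * g⁻¹ := by
  obtain ⟨k, hk⟩ := exists_conj_of_odd (isolated_sq hz) (isolated_conj_sq hz g) (isolated_odd hz g)
  exact ⟨_, pow_mem (mul_mem hzH hg) k, hk⟩

lemma isolated_fusion_centralizer [Finite G] {z : G} (hz : IsIsolatedInvolution z) {H : Subgroup G}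
    (hzH : ∀ x ∈ H, z * x * z⁻¹ ∈ H) {x y h : G} (hxz : Commute x z) (hyz : Commute y z)
    (hh : h ∈ H) (hconj : h * x * h⁻¹ = y) : ∃ c ∈ H, Commute c z ∧ c * x * c⁻¹ = y := by
  have hzz := isolated_sq hz
  have hzi := inv_eq_self hzz
  set d := h⁻¹ * (z * h * z⁻¹) with hd
  have hdH : d ∈ H := mul_mem (inv_mem hh) (hzH h hh)
  have hdz : z * d * z⁻¹ = d⁻¹ := by
    rw [hd, mul_inv_rev, inv_inv]
    have : z * (z * h * z⁻¹) * z⁻¹ = h := by
      rw [show z * (z * h * z⁻¹) * z⁻¹ = (z * z) * h * (z * z)⁻¹ by group, hzz]; group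
    rw [← conj_mul, this, ← conj_inv]
  have hdodd : Odd (orderOf d) := by
    have h1 := isolated_odd (isolated_conj hz h⁻¹) h
    rw [show h * (h⁻¹ * z * h⁻¹⁻¹) * h⁻¹ = z by group] at h1
    rwa [hd, hzi, show h⁻¹ * (z * h * z) = h⁻¹ * z * h⁻¹⁻¹ * z by group]
  have hdodd' : Odd (Nat.card (Subgroup.zpowers d)) := by rwa [Nat.card_zpowers]
  have hdx : Commute d x := by
    have htz : ∀ {w : G}, Commute w z → z * w * z⁻¹ = w := fun hw => by
      rw [← hw.eq, mul_inv_cancel_right]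
    have h1 : z * h * z⁻¹ * x * (z * h * z⁻¹)⁻¹ = y := by
      calc z * h * z⁻¹ * x * (z * h * z⁻¹)⁻¹
          = z * h * z⁻¹ * (z * x * z⁻¹) * (z * h * z⁻¹)⁻¹ := by rw [htz hxz]
        _ = z * (h * x * h⁻¹) * z⁻¹ := by group
        _ = y := by rw [hconj, htz hyz]
    have : d * x * d⁻¹ = x := by
      rw [hd, show h⁻¹ * (z * h * z⁻¹) * x * (h⁻¹ * (z * h * z⁻¹))⁻¹ =
        h⁻¹ * (z * h * z⁻¹ * x * (z * h * z⁻¹)⁻¹) * h by group, h1, ← hconj]
      group
    exact mul_inv_eq_iff_eq_mul.mp this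
  set l := rt (Subgroup.zpowers d) d with hl
  have hll : l * l = d := rt_mul_self hdodd' (Subgroup.mem_zpowers d)
  have hlz : z * l * z⁻¹ = l⁻¹ := by rw [hl, conj_rt, hdz, rt_inv]
  refine ⟨h * l, mul_mem hh ?_, ?_, ?_⟩
  · exact pow_mem hdH _
  · have h2 : z * h * z⁻¹ = h * d := by rw [hd]; group
    have h3 : z * (h * l) * z⁻¹ = h * l := by
      rw [← conj_mul, h2, hlz, ← hll]; group
    exact (mul_inv_eq_iff_eq_mul.mp h3).symm
  · have : Commute l x := commute_rt hdx
    rw [show h * l * x * (h * l)⁻¹ = h * (l * x * l⁻¹) * h⁻¹ by group, this.eq,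
      mul_inv_cancel_right, hconj]

end Cfsg.Agent.H38
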