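import Mathlib
import Cfsg.Prelude.Def_LieRecognition

/-! Square roots in subgroups of odd order, and dihedral facts about pairs of involutions. -/

set_option autoImplicit false

namespace Cfsg.Agent.H38

variable {G : Type*} [Group G]

/-- The square root of an element of a subgroup of odd order. -/
noncomputable def rt (X : Subgroup G) (x : G) : G := x ^ ((Nat.card X + 1) / 2)

lemma pow_natCard_eq_one {X : Subgroup G} {x : G} (hx : x ∈ X) : x ^ Nat.card X = 1 := by
  have h : (⟨x, hx⟩ : X) ^ Nat.card X = 1 := pow_card_eq_one'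
  exact congrArg Subtype.val h

lemma rt_mem {X : Subgroup G} {x : G} (hx : x ∈ X) : rt X x ∈ X := X.pow_mem hx _

lemma rt_mul_self {X : Subgroup G} (hodd : Odd (Nat.card X)) {x : G} (hx : x ∈ X) :
    rt X x * rt X x = x := by
  obtain ⟨j, hj⟩ := hodd
  have h2 : (Nat.card X + 1) / 2 + (Nat.card X + 1) / 2 = Nat.card X + 1 := by omega
  rw [rt, ← pow_add, h2, pow_succ, pow_natCard_eq_one hx, one_mul]

lemma rt_of_sq {X : Subgroup G} (hodd : Odd (Nat.card X)) {y : G} (hy : y ∈ X) :
    rt X (y * y) = y := by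
  obtain ⟨j, hj⟩ := hodd
  have h2 : (Nat.card X + 1) / 2 + (Nat.card X + 1) / 2 = Nat.card X + 1 := by omega
  rw [rt, (Commute.refl y).mul_pow, ← pow_add, h2, pow_succ, pow_natCard_eq_one hy, one_mul]

lemma eq_of_mul_self_eq {X : Subgroup G} (hodd : Odd (Nat.card X)) {y z : G} (hy : y ∈ X)
    (hz : z ∈ X) (h : y * y = z * z) : y = z := by
  rw [← rt_of_sq hodd hy, ← rt_of_sq hodd hz, h]

lemma eq_one_of_mul_self_eq_one {X : Subgroup G} (hodd : Odd (Nat.card X)) {y : G} (hy : y ∈ X)
    (h : y * y = 1) : y = 1 :=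
  eq_of_mul_self_eq hodd hy X.one_mem (by rw [h, one_mul])

lemma commute_of_commute_sq {X : Subgroup G} (hodd : Odd (Nat.card X)) {y z : G} (hy : y ∈ X)
    (h : Commute (y * y) z) : Commute y z := by
  have := h.pow_left ((Nat.card X + 1) / 2)
  rwa [show (y * y) ^ ((Nat.card X + 1) / 2) = y from rt_of_sq hodd hy] at this

lemma commute_rt {X : Subgroup G} {x z : G} (h : Commute x z) : Commute (rt X x) z := h.pow_left _

lemma conj_rt {X : Subgroup G} {x t : G} :
    t * rt X x * t⁻¹ = rt X (t * x * t⁻¹) := (conj_pow ..).symm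

lemma rt_inv {X : Subgroup G} {x : G} : rt X x⁻¹ = (rt X x)⁻¹ := inv_pow x _

/-- An element of an odd-order subgroup that is conjugate to its inverse there is trivial. -/
lemma eq_one_of_conj_eq_inv {X : Subgroup G} (hodd : Odd (Nat.card X)) {x d : G} (hx : x ∈ X)
    (hd : d ∈ X) (h : d * x * d⁻¹ = x⁻¹) : x = 1 := by
  have h2 : Commute (d * d) x := by
    have e : d * x⁻¹ * d⁻¹ = x := by rw [← conj_inv, h, inv_inv]
    have : d * d * x * (d * d)⁻¹ = x := by
      rw [show d * d * x * (d * d)⁻¹ = d * (d * x * d⁻¹) * d⁻¹ by group, h, e]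
    exact mul_inv_eq_iff_eq_mul.mp this
  have hc : Commute d x := commute_of_commute_sq hodd hd h2
  have hx' : x = x⁻¹ := by
    rw [hc.eq, mul_assoc, mul_inv_cancel, mul_one] at h
    exact h
  exact eq_one_of_mul_self_eq_one hodd hx
    (by nth_rewrite 1 [hx']; exact inv_mul_cancel x)

/-! Pairs of involutions. -/

lemma inv_eq_self {u : G} (hu : u * u = 1) : u⁻¹ = u := inv_eq_of_mul_eq_one_right hu

lemma conj_mul_invol_left {u v : G} (hu : u * u = 1) (hv : v * v = 1) :
    u * (u * v) * u⁻¹ = (u * v)⁻¹ := by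
  rw [mul_inv_rev, inv_eq_self hu, inv_eq_self hv, ← mul_assoc u u v, hu, one_mul]

lemma conj_mul_invol_right {u v : G} (hu : u * u = 1) (hv : v * v = 1) :
    v * (u * v) * v⁻¹ = (u * v)⁻¹ := by
  rw [mul_inv_rev, inv_eq_self hu, inv_eq_self hv, mul_assoc v (u * v) v, mul_assoc u v v, hv,
    mul_one]

lemma conj_pow_invol {u d : G} (h : u * d * u⁻¹ = d⁻¹) (k : ℕ) :
    u * d ^ k * u⁻¹ = (d ^ k)⁻¹ := by
  rw [← conj_pow, h, inv_pow]

/-- Two involutions with product of odd order are conjugate by a power of the product. -/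
lemma exists_conj_of_odd {u v : G} (hu : u * u = 1) (hv : v * v = 1)
    (hodd : Odd (orderOf (u * v))) : ∃ k : ℕ, (u * v) ^ k * u * ((u * v) ^ k)⁻¹ = v := by
  obtain ⟨j, hj⟩ := hodd
  refine ⟨j, ?_⟩
  set d := u * v with hd
  have h1 : u * d ^ j * u⁻¹ = (d ^ j)⁻¹ := conj_pow_invol (conj_mul_invol_left hu hv) j
  have h2 : u * (d ^ j)⁻¹ = d ^ j * u := by
    rw [← h1, inv_eq_self hu, mul_assoc u (d ^ j) u, ← mul_assoc u u, hu, one_mul]
  have h3 : v = u * d := by rw [hd, ← mul_assoc, hu, one_mul]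
  calc d ^ j * u * (d ^ j)⁻¹ = d ^ j * (d ^ j * u) := by rw [mul_assoc, h2]
    _ = d ^ (j + j) * u := by rw [← mul_assoc, ← pow_add]
    _ = d⁻¹ * u := by
        congr 1
        apply eq_inv_of_mul_eq_one_left
        rw [← pow_succ, show j + j + 1 = orderOf d by omega, pow_orderOf_eq_one]
    _ = v := by rw [hd, mul_inv_rev, inv_eq_self hu, inv_eq_self hv, mul_assoc, hu, mul_one]

/-- If the product of two involutions has even order, some involution in the cyclic group it
generates commutes with both. -/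
lemma exists_central_of_even [Finite G] {u v : G} (hu : u * u = 1) (hv : v * v = 1)
    (heven : Even (orderOf (u * v))) :
    ∃ m : ℕ, 0 < m ∧ orderOf (u * v) = 2 * m ∧ (u * v) ^ m ≠ 1 ∧
      (u * v) ^ m * (u * v) ^ m = 1 ∧ Commute ((u * v) ^ m) u ∧ Commute ((u * v) ^ m) v := by
  obtain ⟨m, hm⟩ := heven
  have hpos : 0 < orderOf (u * v) := orderOf_pos _
  have hsq : (u * v) ^ m * (u * v) ^ m = 1 := by rw [← pow_add, ← hm, pow_orderOf_eq_one]
  refine ⟨m, by omega, by omega, pow_ne_one_of_lt_orderOf (by omega) (by omega), hsq, ?_, ?_⟩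
  · have h := conj_pow_invol (conj_mul_invol_left hu hv) m
    rw [inv_eq_self hsq] at h
    exact (mul_inv_eq_iff_eq_mul.mp h).symm
  · have h := conj_pow_invol (conj_mul_invol_right hu hv) m
    rw [inv_eq_self hsq] at h
    exact (mul_inv_eq_iff_eq_mul.mp h).symm

end Cfsg.Agent.H38
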