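import Cfsg.Agent.H38.SuzukiClass

/-! Suzuki 2-groups have class two and exponent four. -/

set_option autoImplicit false

namespace Cfsg.Agent.H38

open scoped IsMulCommutative

universe u

theorem class_two_aux : ∀ N : ℕ, ∀ (P : Type u) [Group P] [Finite P], Nat.card P = N →
    ∀ σ : MulAut P, TwoHyp P σ → (∃ x y : P, x * y ≠ y * x) →
      ∀ x y : P, x * y * x⁻¹ * y⁻¹ ∈ Subgroup.center P := by
  intro N
  induction N using Nat.strong_induction_on with
  | _ N ih => ?_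
  intro P _ _ hN σ h hnc
  classical
  haveI : Fact (Nat.Prime 2) := ⟨Nat.prime_two⟩
  set Z := Subgroup.center P with hZdef
  have hZ2 : ∀ z ∈ Z, z * z = 1 := center_sq_eq_one h hnc
  have hinvZ : ∀ {w : P}, w * w = 1 → w ∈ Z := fun {w} hw => by
    by_cases hw1 : w = 1
    · exact hw1 ▸ one_mem Z
    · exact ((invol_iff_central h hnc w).mp ⟨hw1, hw⟩).1
  have hZσ : ∀ x ∈ Z, σ x ∈ Z := center_invariant σ
  have hΦσ : ∀ x ∈ frattini P, σ x ∈ frattini P := char_invariant σ _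
  have hcσ : ∀ x ∈ commutator P, σ x ∈ commutator P := char_invariant σ _
  have hP'1 : commutator P ≠ ⊥ := fun e => by
    obtain ⟨x, y, hxy⟩ := hnc
    have h1 := commutator_mem' x y
    rw [e, Subgroup.mem_bot, mul_inv_eq_one, mul_inv_eq_iff_eq_mul] at h1
    exact hxy h1
  have hcomΦ : commutator P ≤ frattini P := PGroups.commutator_le_frattini h.pgroup
  have hsqΦ : ∀ y : P, y * y ∈ frattini P := fun y =>
    pow_two y ▸ PGroups.pow_mem_frattini h.pgroup y
  -- every proper invariant subgroup containing the Frattini subgroup: squares and commutators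
  have key : ∀ S : Subgroup P, (∀ x ∈ S, σ x ∈ S) → S ≠ ⊤ →
      ∀ x ∈ S, x * x ∈ Z ∧ ∀ y ∈ S, x * y * x⁻¹ * y⁻¹ ∈ Z := by
    intro S₀ hS₀ hS₀ne
    let Good : Set (Subgroup P) :=
      {S | (∀ x ∈ S, σ x ∈ S) ∧ S₀ ⊔ frattini P ≤ S ∧ S ≠ ⊤}
    obtain ⟨T, ⟨hT, hle, hTne⟩, hmax⟩ := (Set.toFinite Good).exists_maximal
      ⟨S₀ ⊔ frattini P, sup_invariant hS₀ hΦσ, le_rfl,
        fun e => hS₀ne (frattini_nongenerating e)⟩
    suffices H : ∀ x ∈ T, x * x ∈ Z ∧ ∀ y ∈ T, x * y * x⁻¹ * y⁻¹ ∈ Z from fun x hx =>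
      ⟨(H x (hle (Subgroup.mem_sup_left hx))).1,
        fun y hy => (H x (hle (Subgroup.mem_sup_left hx))).2 y (hle (Subgroup.mem_sup_left hy))⟩
    have hΦT : frattini P ≤ T := le_sup_right.trans hle
    have hcomT : commutator P ≤ T := hcomΦ.trans hΦT
    have hTbot : T ≠ ⊥ := fun e => hP'1 (le_bot_iff.mp (e ▸ hcomT))
    have hsq : ∀ y : P, y * y ∈ T := fun y => hΦT (hsqΦ y)
    haveI hTn : T.Normal := ⟨fun t ht g => by
      have : g * t * g⁻¹ = g * t * g⁻¹ * t⁻¹ * t := by group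
      rw [this]
      exact mul_mem (hcomT (commutator_mem' g t)) ht⟩
    by_cases hTc : IsMulCommutative T
    · obtain ⟨n, hh⟩ := exists_homo h hT hTbot
      have hn : n ≤ 1 := by
        by_contra hn
        have hn2 : 2 ≤ n := by omega
        have hcen := abelian_core h hT hle hTne hTbot hmax hcomT hsq hh hn2
        obtain ⟨a, ha⟩ := hh.top
        have haZ : (a : P) ∈ Z := Subgroup.mem_center_iff.mpr fun g => by
          have := congrArg Subtype.val (conj_eq_mul_disp g a)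
          rwa [MulAut.conjNormal_apply, hcen, mul_one, mul_inv_eq_iff_eq_mul] at this
        apply ha
        rw [show 2 ^ n = 2 * 2 ^ (n - 1) by rw [← pow_succ', show n - 1 + 1 = n by omega],
          pow_mul, pow_two]
        rw [show a * a = 1 from Subtype.ext (hZ2 _ haZ), one_pow]
      intro x hx
      refine ⟨hinvZ ?_, fun y hy => ?_⟩
      · have h4 : (⟨x, hx⟩ : T) ^ 4 = 1 := by
          have h5 := hh.exp ⟨x, hx⟩
          interval_cases n
          · rw [show (4 : ℕ) = 2 ^ (0 + 1) * 2 by norm_num, pow_mul, h5, one_pow]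
          · simpa using h5
        have h6 : x ^ 4 = 1 := congrArg Subtype.val h4
        rw [← h6]; simp [pow_succ, mul_assoc]
      · have h1 : x * y = y * x := congrArg Subtype.val (mul_comm (⟨x, hx⟩ : T) ⟨y, hy⟩)
        rw [h1, mul_inv_cancel_right, mul_inv_cancel]
        exact one_mem _
    · have hc' : ∃ x y : T, x * y ≠ y * x := by
        by_contra hh
        push Not at hh
        exact hTc ⟨⟨hh⟩⟩
      have hcard : Nat.card T < N := hN ▸ lt_of_le_of_ne (Subgroup.card_le_card_group T)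
        (fun e => hTne (Subgroup.eq_top_of_card_eq T e))
      have hT' := h.restrict hT hTbot
      have h1 := ih _ hcard T rfl _ hT' hc'
      have hcT : ∀ w : T, w ∈ Subgroup.center T → (w : P) ∈ Z := fun w hw =>
        hinvZ (congrArg Subtype.val (center_sq_eq_one hT' hc' w hw))
      have hcomm : ∀ x ∈ T, ∀ y ∈ T, x * y * x⁻¹ * y⁻¹ ∈ Z := fun x hx y hy =>
        hcT _ (h1 ⟨x, hx⟩ ⟨y, hy⟩)
      intro x hx
      refine ⟨hcT ⟨x * x, mul_mem hx hx⟩ (Subgroup.mem_center_iff.mpr fun y => Subtype.ext ?_),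
        hcomm x hx⟩
      show (y : P) * (x * x) = x * x * y
      have hk := hcomm y y.2 x hx
      have hkc := Subgroup.mem_center_iff.mp hk x
      calc (y : P) * (x * x) = (y * x * (y : P)⁻¹ * x⁻¹) * (x * (y * x * (y : P)⁻¹ * x⁻¹)) * x * y := by
            group
        _ = (y * x * (y : P)⁻¹ * x⁻¹) * (y * x * (y : P)⁻¹ * x⁻¹) * (x * x * y) := by
            rw [hkc]; group
        _ = _ := by rw [hZ2 _ hk, one_mul]
  by_contra hcon
  push Not at hcon
  obtain ⟨x₀, y₀, hxy₀⟩ := hcon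
  set R := commutator P ⊔ Z with hRdef
  have hRσ : ∀ x ∈ R, σ x ∈ R := sup_invariant hcσ hZσ
  have hZne : Z ≠ ⊤ := fun e => by
    obtain ⟨x, y, hxy⟩ := hnc
    exact hxy (Subgroup.mem_center_iff.mp (by rw [show Subgroup.center P = ⊤ from e]; trivial) x)
  have hRle : R ≤ Z ⊔ frattini P := sup_le (hcomΦ.trans le_sup_right) le_sup_left
  have hRne : R ≠ ⊤ := fun e => hZne (frattini_nongenerating (top_le_iff.mp (e ▸ hRle)))
  have hRsq : ∀ r ∈ R, r * r ∈ Z := fun r hr => (key R hRσ hRne r hr).1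
  haveI hRn : R.Normal := ⟨fun r hr g => by
    rw [show g * r * g⁻¹ = g * r * g⁻¹ * r⁻¹ * r by group]
    exact mul_mem (Subgroup.mem_sup_left (commutator_mem' g r)) hr⟩
  -- a non-central element of `R` central modulo the centre
  obtain ⟨a₀, ha₀R, ha₀Z, ha₀c⟩ : ∃ a ∈ R, a ∉ Z ∧ ∀ p : P, p * a * p⁻¹ * a⁻¹ ∈ Z := by
    haveI : Group.IsNilpotent (P ⧸ Z) := (h.pgroup.to_quotient Z).isNilpotent
    haveI : (R.map (QuotientGroup.mk' Z)).Normal :=
      hRn.map _ (QuotientGroup.mk'_surjective Z)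
    have hne : R.map (QuotientGroup.mk' Z) ≠ ⊥ := fun e => hxy₀ (by
      have h1 : ((x₀ * y₀ * x₀⁻¹ * y₀⁻¹ : P) : P ⧸ Z) ∈ R.map (QuotientGroup.mk' Z) :=
        ⟨_, Subgroup.mem_sup_left (commutator_mem' x₀ y₀), rfl⟩
      rwa [e, Subgroup.mem_bot, QuotientGroup.eq_one_iff] at h1)
    obtain ⟨⟨w, hw⟩, hw1⟩ := Subgroup.ne_bot_iff_exists_ne_one.mp (H24.inf_center_ne_bot _ hne)
    obtain ⟨⟨a, ha, rfl⟩, hwc⟩ := hw
    refine ⟨a, ha, fun q => hw1 (Subtype.ext ((QuotientGroup.eq_one_iff a).mpr q)), fun p => ?_⟩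
    rw [← QuotientGroup.eq_one_iff]
    have h1 := Subgroup.mem_center_iff.mp hwc (p : P ⧸ Z)
    simp only [QuotientGroup.mk'_apply] at h1
    rw [QuotientGroup.mk_mul, QuotientGroup.mk_mul, QuotientGroup.mk_mul, QuotientGroup.mk_inv,
      QuotientGroup.mk_inv, h1, mul_inv_cancel_right, mul_inv_cancel]
  let A : Set P := {a | a ∈ R ∧ ∀ p : P, p * a * p⁻¹ * a⁻¹ ∈ Z}
  have hAσ : ∀ (i : ℕ) a, a ∈ A → (σ ^ i) a ∈ A := fun i a ha =>
    ⟨aut_pow_mem hRσ i ha.1, fun p => by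
      have := aut_pow_mem hZσ i (ha.2 ((σ ^ i).symm p))
      simpa [map_mul, map_inv] using this⟩
  have hAR : ∀ a ∈ A, ∀ r ∈ R, a * r = r * a := fun a ha r hr => by
    have h1 : R ≤ Subgroup.centralizer {a} := sup_le
      (fun w hw => Subgroup.mem_centralizer_singleton_iff.mpr (commute_commutator ha.2 w hw))
      (fun z hz => Subgroup.mem_centralizer_singleton_iff.mpr
        (Subgroup.mem_center_iff.mp hz a).symm)
    exact (Subgroup.mem_centralizer_singleton_iff.mp (h1 hr)).symm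
  -- an element with central square commuting with `A` lies in `A`
  have absorb : ∀ x : P, (∀ a ∈ A, x * a = a * x) → x * x ∈ Z → x ∈ A := by
    intro x hx hx2
    by_cases hx1 : x * x = 1
    · exact ⟨Subgroup.mem_sup_right (hinvZ hx1), fun p => by
        rw [Subgroup.mem_center_iff.mp (hinvZ hx1) p, mul_inv_cancel_right, mul_inv_cancel]
        exact one_mem _⟩
    have ha2 : a₀ * a₀ ≠ 1 := fun q => ha₀Z (hinvZ q)
    obtain ⟨i, hi⟩ := h.trans _ _ ha2 (hZ2 _ (hRsq a₀ ha₀R)) hx1 (hZ2 _ hx2)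
    set a := (σ ^ i) a₀ with hadef
    have haA : a ∈ A := hAσ i a₀ ⟨ha₀R, ha₀c⟩
    have haa : a * a = x * x := by rw [hadef, ← map_mul, hi]
    have hc : Commute x a := hx a haA
    have hz : x * a⁻¹ ∈ Z := hinvZ (by
      rw [hc.symm.inv_left.mul_mul_mul_comm, ← mul_inv_rev, haa, mul_inv_cancel])
    have e : x = x * a⁻¹ * a := (inv_mul_cancel_right x a).symm
    rw [e]
    refine ⟨mul_mem (Subgroup.mem_sup_right hz) haA.1, fun p => ?_⟩
    have hz' := Subgroup.mem_center_iff.mp hz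
    rw [show p * (x * a⁻¹ * a) * p⁻¹ * (x * a⁻¹ * a)⁻¹ =
      p * (x * a⁻¹) * (a * p⁻¹ * a⁻¹) * (x * a⁻¹)⁻¹ by group, hz' p,
      show x * a⁻¹ * p * (a * p⁻¹ * a⁻¹) * (x * a⁻¹)⁻¹ =
        x * a⁻¹ * (p * a * p⁻¹ * a⁻¹) * (x * a⁻¹)⁻¹ by group]
    exact mul_mem (mul_mem hz (haA.2 p)) (inv_mem hz)
  have hRA : ∀ r ∈ R, r ∈ A := fun r hr =>
    absorb r (fun a ha => (hAR a ha r hr).symm) (hRsq r hr)
  haveI : IsMulCommutative R :=
    ⟨⟨fun r r' => Subtype.ext (hAR _ (hRA _ r.2) _ r'.2)⟩⟩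
  have hsq4 : ∀ p : P, p * p * (p * p) ∈ Z := fun p =>
    (key (Z ⊔ frattini P) (sup_invariant hZσ hΦσ)
      (fun e => hZne (frattini_nongenerating e)) _ (Subgroup.mem_sup_right (hsqΦ p))).1
  have hsqR : ∀ p : P, p * p ∈ R := fun p => (absorb (p * p) (fun a ha => by
    have hk := ha.2 p
    have hkc := Subgroup.mem_center_iff.mp hk p
    calc p * p * a = p * (p * a * p⁻¹ * a⁻¹) * (a * p) := by group
      _ = (p * a * p⁻¹ * a⁻¹) * p * (a * p) := by rw [hkc]
      _ = (p * a * p⁻¹ * a⁻¹) * (p * a * p⁻¹ * a⁻¹) * (a * (p * p)) := by group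
      _ = _ := by rw [hZ2 _ hk, one_mul]) (hsq4 p)).1
  -- the centralizer of `R`
  let W : Subgroup P := Subgroup.centralizer (R : Set P)
  have hWσ : ∀ x ∈ W, σ x ∈ W := fun x hx => Subgroup.mem_centralizer_iff.mpr fun r hr => by
    obtain ⟨N', hN'odd, hN'⟩ := h.odd
    have h1 : σ.symm r ∈ R := by
      have h2 : σ ((σ ^ (N' - 1)) r) = r := by
        rw [← MulAut.mul_apply, ← pow_succ', Nat.sub_add_cancel hN'odd.pos, hN', MulAut.one_apply]
      have h3 := aut_pow_mem hRσ (N' - 1) hr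
      rwa [← h2, MulEquiv.symm_apply_apply]
    have := congrArg σ (Subgroup.mem_centralizer_iff.mp hx _ h1)
    simpa [map_mul] using this
  have hWne : W ≠ ⊤ := fun e => by
    apply ha₀Z
    refine Subgroup.mem_center_iff.mpr fun g => ?_
    exact (Subgroup.mem_centralizer_iff.mp (e.symm ▸ Subgroup.mem_top g : g ∈ W) a₀ ha₀R).symm
  have hW : ∀ x : P, (∀ r ∈ R, x * r = r * x) → x ∈ R := fun x hx =>
    (absorb x (fun a ha => hx a ha.1)
      (key W hWσ hWne x (Subgroup.mem_centralizer_iff.mpr fun r hr => (hx r hr).symm)).1).1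
  -- a minimal invariant piece above `R`
  let Above : Set (Subgroup P) := {S | (∀ x ∈ S, σ x ∈ S) ∧ R < S}
  obtain ⟨J, ⟨hJ, hRJ⟩, hJmin⟩ := (Set.toFinite Above).exists_minimal
    ⟨⊤, fun x _ => Subgroup.mem_top _, lt_top_iff_ne_top.mpr hRne⟩
  refine no_piece h hnc hRσ le_sup_right le_sup_left le_rfl hRsq ⟨a₀, ha₀R, ha₀Z⟩
    (fun r hr => (hRA r hr).2) hsqR hW hJ hRJ fun S hS hRS hSJ => ?_
  by_contra hne
  exact absurd (hJmin ⟨hS, lt_of_le_of_ne hRS (Ne.symm hne)⟩ hSJ.le) (not_le_of_gt hSJ)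

variable {P : Type u} [Group P] [Finite P] {σ : MulAut P}

theorem class_two (h : TwoHyp P σ) (hnc : ∃ x y : P, x * y ≠ y * x) (x y : P) :
    x * y * x⁻¹ * y⁻¹ ∈ Subgroup.center P :=
  class_two_aux _ P rfl σ h hnc x y

theorem sq_mem_center (h : TwoHyp P σ) (hnc : ∃ x y : P, x * y ≠ y * x) (x : P) :
    x * x ∈ Subgroup.center P := Subgroup.mem_center_iff.mpr fun y => by
  have hk := class_two h hnc y x
  have hkc := Subgroup.mem_center_iff.mp hk x
  calc y * (x * x) = (y * x * y⁻¹ * x⁻¹) * (x * (y * x * y⁻¹ * x⁻¹)) * x * y := by group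
    _ = (y * x * y⁻¹ * x⁻¹) * (y * x * y⁻¹ * x⁻¹) * (x * x * y) := by rw [hkc]; group
    _ = _ := by rw [center_sq_eq_one h hnc _ hk, one_mul]

end Cfsg.Agent.H38
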